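import Groth.Agent.StMod.K784.BC2
import Mathlib.Algebra.Category.Ring.Constructions
import Mathlib.RingTheory.RingHomProperties

/-!
# Base change of modules: pushout squares of rings and faithfully flat descent of elements
-/

set_option autoImplicit false
set_option linter.style.haveILetI false

open TensorProduct CategoryTheory

namespace K784.BC

universe u

/-- A pushout square of commutative rings. -/
def IsPO {R R' A B : Type u} [CommRing R] [CommRing R'] [CommRing A] [CommRing B] (ρ : R →+* R') (α : R →+* A)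
    (β : R' →+* B) (φ : A →+* B) : Prop :=
  IsPushout (CommRingCat.ofHom ρ) (CommRingCat.ofHom α) (CommRingCat.ofHom β) (CommRingCat.ofHom φ)

section

variable {R R' A B : Type u} [CommRing R] [CommRing R'] [CommRing A] [CommRing B] {ρ : R →+* R'} {α : R →+* A}
  {β : R' →+* B} {φ : A →+* B}

theorem IsPO.flip (h : IsPO ρ α β φ) : IsPO α ρ φ β := IsPushout.flip h

theorem IsPO.comm (h : IsPO ρ α β φ) : β.comp ρ = φ.comp α := congrArg CommRingCat.Hom.hom h.w

theorem IsPO.alg (h : IsPO ρ α β φ) : letI := ρ.toAlgebra; letI := α.toAlgebra; letI := φ.toAlgebra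
    letI := β.toAlgebra
    letI := (φ.comp α).toAlgebra
    haveI : IsScalarTower R A B := IsScalarTower.of_algebraMap_eq fun _ => rfl
    haveI : IsScalarTower R R' B := IsScalarTower.of_algebraMap_eq fun r => congr($(h.comm.symm) r)
    Algebra.IsPushout R R' A B := by
  letI := ρ.toAlgebra; letI := α.toAlgebra; letI := φ.toAlgebra; letI := β.toAlgebra
  letI := (φ.comp α).toAlgebra
  haveI : IsScalarTower R A B := IsScalarTower.of_algebraMap_eq fun _ => rfl
  haveI : IsScalarTower R R' B := IsScalarTower.of_algebraMap_eq fun r => congr($(h.comm.symm) r)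
  exact CommRingCat.isPushout_iff_isPushout.mp h

theorem IsPO.flat (h : IsPO ρ α β φ) (hρ : ρ.Flat) : φ.Flat := by
  have h2 := RingHom.isStableUnderCobaseChange_toMorphismProperty_iff.2 RingHom.Flat.isStableUnderBaseChange
  exact h2.1 h.flip hρ

theorem IsPO.ff (h : IsPO ρ α β φ) (hρ : ρ.FaithfullyFlat) : φ.FaithfullyFlat := by
  have h2 := RingHom.isStableUnderCobaseChange_toMorphismProperty_iff.2 RingHom.FaithfullyFlat.isStableUnderBaseChange
  exact h2.1 h.flip hρ

theorem IsBC.of_po (h : IsPO ρ α β φ) {M N : Type*} [AddCommGroup M] [AddCommGroup N] [Module A M] [Module R M]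
    [Module B N] [Module R' N] (hM : ∀ (r : R) (m : M), r • m = α r • m) (hN : ∀ (r : R') (n : N), r • n = β r • n)
    {f : M →+ N} (hf : IsBC φ f) : IsBC ρ f :=
  IsBC.of_isPushout ρ α φ β h.comm.symm h.alg hM hN hf

theorem IsBC.to_po (h : IsPO ρ α β φ) {M N : Type*} [AddCommGroup M] [AddCommGroup N] [Module A M] [Module R M]
    [Module B N] [Module R' N] (hM : ∀ (r : R) (m : M), r • m = α r • m) (hN : ∀ (r : R') (n : N), r • n = β r • n)
    {f : M →+ N} (hfs : ∀ (a : A) (m : M), f (a • m) = φ a • f m) (hf : IsBC ρ f) : IsBC φ f := by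
  letI := φ.toAlgebra
  obtain ⟨g, hg, -⟩ := (isBC_mk φ M).existsUnique_lift f hfs
  letI : Module R' (B ⊗[A] M) := Module.compHom (B ⊗[A] M) β
  have h1 : IsBC ρ (TensorProduct.mk A B M 1).toAddMonoidHom := IsBC.of_po h hM (fun _ _ => rfl) (isBC_mk φ M)
  have h2 : Function.Bijective g := by
    have hs : ∀ (r : R') (x : B ⊗[A] M), g (r • x) = r • g x := fun r x => by
      change g (β r • x) = r • g x
      rw [g.map_smul, hN]
    let g0 : (B ⊗[A] M) →ₗ[R'] N := { g with map_smul' := hs }
    exact h1.bijective_of_isBC hf g0 hg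
  exact IsBC.of_equiv (isBC_mk φ M) (LinearEquiv.ofBijective g h2) hg

end

/-- Faithfully flat descent of elements. -/
theorem IsBC.mem_range {A B C : Type u} [CommRing A] [CommRing B] [CommRing C] {φ : A →+* B}
    (hφ : φ.FaithfullyFlat) {p₁ p₂ : B →+* C} (po : IsPO φ φ p₁ p₂) {M M' M'' : Type*} [AddCommGroup M]
    [AddCommGroup M'] [AddCommGroup M''] [Module A M] [Module B M'] [Module C M''] {f : M →+ M'}
    (hf : IsBC φ f) {r₁ r₂ : M' →+ M''} (hr₁ : ∀ (b : B) (m : M'), r₁ (b • m) = p₁ b • r₁ m)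
    (hr₂ : IsBC p₂ r₂) (h : ∀ m, r₁ (f m) = r₂ (f m)) {x : M'} (hx : r₁ x = r₂ x) : ∃ m, f m = x := by
  letI := φ.toAlgebra
  haveI : Module.FaithfullyFlat A B := hφ
  letI : Module A M' := Module.compHom M' φ
  letI : Module B M'' := Module.compHom M'' p₁
  have h1 : IsBC φ r₂ := IsBC.of_po po (fun _ _ => rfl) (fun _ _ => rfl) hr₂
  let M₁ : Submodule A M' :=
    { f.range with
      smul_mem' := by
        rintro a _ ⟨m, rfl⟩
        exact ⟨a • m, hf.map_smul a m⟩ }
  let π : M' →ₗ[A] (M' ⧸ M₁) := M₁.mkQ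
  have h2 : IsBC φ (TensorProduct.mk A B (M' ⧸ M₁) 1).toAddMonoidHom := isBC_mk φ (M' ⧸ M₁)
  obtain ⟨π', hπ'⟩ := IsBC.exists_map h1 h2.map_smul π
  have h3 : ∀ y : M', π' (r₁ y) = 0 := by
    intro y
    induction y using hf.induction with
    | zero => simp
    | map m =>
      rw [h, hπ']
      have : π (f m) = 0 := (Submodule.Quotient.mk_eq_zero _).2 ⟨m, rfl⟩
      rw [this, map_zero]
    | smul b n hn =>
      have e : p₁ b • r₁ n = b • r₁ n := rfl
      rw [hr₁, e, π'.map_smul, hn, smul_zero]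
    | add x y hx hy => rw [map_add, map_add, hx, hy, add_zero]
  have h4 : π x = 0 := by
    have h5 := h3 x
    rw [hx, hπ'] at h5
    exact Module.FaithfullyFlat.tensorProduct_mk_injective (A := A) (B := B) (M' ⧸ M₁)
      (h5.trans (TensorProduct.tmul_zero _ _).symm)
  exact (Submodule.Quotient.mk_eq_zero M₁).1 h4

end K784.BC
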