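import Groth.Agent.StMod.K784.BC3

/-!
# Semilinear extensions along a base change of modules
-/

set_option autoImplicit false
set_option linter.style.haveILetI false

open TensorProduct

namespace K784.BC

variable {A B C : Type*} [CommRing A] [CommRing B] [CommRing C]
variable {M N Q : Type*} [AddCommGroup M] [Module A M] [AddCommGroup N] [Module B N] [AddCommGroup Q] [Module C Q]

/-- semilinear maps along a ring homomorphism. -/
def Semi (φ : A →+* B) (f : M →+ N) : Prop := ∀ (a : A) (m : M), f (a • m) = φ a • f m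

theorem IsBC.semi {φ : A →+* B} {f : M →+ N} (h : IsBC φ f) : Semi φ f := h.map_smul

theorem Semi.comp {φ : A →+* B} {ψ : B →+* C} {f : M →+ N} {g : N →+ Q} (hg : Semi ψ g) (hf : Semi φ f) :
    Semi (ψ.comp φ) (g.comp f) := fun a m => by
  rw [AddMonoidHom.comp_apply, hf, hg]
  rfl

/-- semilinear extension. -/
theorem IsBC.exists_semi {φ : A →+* B} {f : M →+ N} (h : IsBC φ f) (ψ : B →+* C) (g : M →+ Q)
    (hg : Semi (ψ.comp φ) g) : ∃ g' : N →+ Q, Semi ψ g' ∧ ∀ m, g' (f m) = g m := by
  letI : Module B Q := Module.compHom Q ψ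
  obtain ⟨g', h1, -⟩ := h.existsUnique_lift g hg
  exact ⟨g'.toAddMonoidHom, fun b n => g'.map_smul b n, h1⟩

theorem IsBC.semi_ext {φ : A →+* B} {f : M →+ N} (h : IsBC φ f) {ψ : B →+* C} {g₁ g₂ : N →+ Q} (h₁ : Semi ψ g₁)
    (h₂ : Semi ψ g₂) (e : ∀ m, g₁ (f m) = g₂ (f m)) : g₁ = g₂ := by
  letI : Module B Q := Module.compHom Q ψ
  let g₁' : N →ₗ[B] Q := { g₁ with map_smul' := h₁ }
  let g₂' : N →ₗ[B] Q := { g₂ with map_smul' := h₂ }
  have := h.hom_ext (g₁ := g₁') (g₂ := g₂') e
  exact AddMonoidHom.ext fun x => congr($this x)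

section Ten

universe y₃ y₂ y₁

variable {A : Type y₁} {B : Type y₂} [CommRing A] [CommRing B] (φ : A →+* B) (M : Type y₃) [AddCommGroup M] [Module A M]

/-- the canonical base change `B ⊗[A] M`. -/
def Ten : Type (max y₂ y₃) := @TensorProduct A _ B M _ _ φ.toAlgebra.toModule _

noncomputable instance : AddCommGroup (Ten φ M) :=
  @TensorProduct.addCommGroup A _ B M _ _ φ.toAlgebra.toModule _

noncomputable instance : Module B (Ten φ M) :=
  letI := φ.toAlgebra
  (TensorProduct.leftModule : Module B (B ⊗[A] M))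

/-- the canonical map. -/
noncomputable def ten : M →+ Ten φ M :=
  letI := φ.toAlgebra
  (TensorProduct.mk A B M 1).toAddMonoidHom

theorem isBC_ten : IsBC φ (ten φ M) := isBC_mk φ M

end Ten

end K784.BC
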