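import Mathlib.Algebra.Module.FinitePresentation
import Mathlib.RingTheory.Flat.IsBaseChange
import Mathlib.RingTheory.RingHom.FaithfullyFlat

/-!
# Base change of modules along a ring homomorphism, unbundled and universe polymorphic

`IsBC φ f` for `φ : A →+* B` and an additive map `f : M →+ N` from an `A`-module to a `B`-module: `f` is semilinear and
exhibits `N` as `B ⊗[A] M`.
-/

set_option autoImplicit false
set_option linter.style.haveILetI false

open TensorProduct

namespace K784.BC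

variable {A B C : Type*} [CommRing A] [CommRing B] [CommRing C]
variable {M N P Q : Type*} [AddCommGroup M] [Module A M] [AddCommGroup N] [Module B N]

/-- `f : M →+ N` is semilinear along `φ` and exhibits `N` as the base change of `M`. -/
def IsBC (φ : A →+* B) (f : M →+ N) : Prop :=
  ∃ hf : ∀ (a : A) (m : M), f (a • m) = φ a • f m,
    letI := φ.toAlgebra
    letI : Module A N := Module.compHom N φ
    haveI : IsScalarTower A B N := ⟨fun a b n => mul_smul (φ a) b n⟩
    IsBaseChange B ({ f with map_smul' := hf } : M →ₗ[A] N)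

theorem IsBC.map_smul {φ : A →+* B} {f : M →+ N} (h : IsBC φ f) (a : A) (m : M) : f (a • m) = φ a • f m :=
  h.choose a m

section Lift

variable [AddCommGroup Q] [Module B Q]

theorem IsBC.existsUnique_lift {φ : A →+* B} {f : M →+ N} (h : IsBC φ f) (g : M →+ Q)
    (hg : ∀ (a : A) (m : M), g (a • m) = φ a • g m) : ∃! g' : N →ₗ[B] Q, ∀ m, g' (f m) = g m := by
  obtain ⟨hf, h⟩ := h
  letI := φ.toAlgebra
  letI : Module A N := Module.compHom N φ
  haveI : IsScalarTower A B N := ⟨fun a b n => mul_smul (φ a) b n⟩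
  letI : Module A Q := Module.compHom Q φ
  haveI : IsScalarTower A B Q := ⟨fun a b n => mul_smul (φ a) b n⟩
  let g₀ : M →ₗ[A] Q := { g with map_smul' := hg }
  refine ⟨h.lift g₀, fun m => h.lift_eq g₀ m, fun g' hg' => ?_⟩
  exact h.algHom_ext _ _ fun m => (hg' m).trans (h.lift_eq g₀ m).symm

theorem IsBC.hom_ext {φ : A →+* B} {f : M →+ N} (h : IsBC φ f) {g₁ g₂ : N →ₗ[B] Q}
    (e : ∀ m, g₁ (f m) = g₂ (f m)) : g₁ = g₂ := by
  refine (h.existsUnique_lift (g₂.toAddMonoidHom.comp f) (fun r x => ?_)).unique e (fun x => rfl)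
  change g₂ (f (r • x)) = _
  rw [h.map_smul, g₂.map_smul]
  rfl

end Lift

universe u₁ u₂ u₃ u₄

theorem IsBC.of_lift {A : Type u₁} {B : Type u₂} {M : Type u₃} {N : Type u₄} [CommRing A] [CommRing B]
    [AddCommGroup M] [Module A M] [AddCommGroup N] [Module B N] {φ : A →+* B} {f : M →+ N}
    (hf : ∀ (a : A) (m : M), f (a • m) = φ a • f m)
    (H : ∀ (Q : Type (max u₂ u₃ u₄)) [AddCommGroup Q] [Module B Q] (g : M →+ Q),
      (∀ (a : A) (m : M), g (a • m) = φ a • g m) → ∃! g' : N →ₗ[B] Q, ∀ m, g' (f m) = g m) : IsBC φ f := by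
  refine ⟨hf, ?_⟩
  letI := φ.toAlgebra
  letI : Module A N := Module.compHom N φ
  haveI : IsScalarTower A B N := ⟨fun a b n => mul_smul (φ a) b n⟩
  refine IsBaseChange.of_lift_unique _ fun Q _ _ _ _ g => ?_
  letI : AddCommGroup Q := Module.addCommMonoidToAddCommGroup B
  obtain ⟨g', h1, h2⟩ := H Q g.toAddMonoidHom (fun a m => by
    change g (a • m) = _
    rw [g.map_smul, ← algebraMap_smul B]
    rfl)
  exact ⟨g', LinearMap.ext h1, fun g'' h3 => h2 g'' fun m => LinearMap.congr_fun h3 m⟩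

theorem isBC_iff [Algebra A B] [Module A N] [IsScalarTower A B N] (f : M →ₗ[A] N) :
    IsBC (algebraMap A B) f.toAddMonoidHom ↔ IsBaseChange B f := by
  constructor
  · intro h
    refine IsBaseChange.of_lift_unique _ fun Q _ _ _ _ g => ?_
    letI : AddCommGroup Q := Module.addCommMonoidToAddCommGroup B
    obtain ⟨g', h1, h2⟩ := h.existsUnique_lift g.toAddMonoidHom (fun a m => by
      change g (a • m) = _
      rw [g.map_smul, ← algebraMap_smul B]
      rfl)
    exact ⟨g', LinearMap.ext h1, fun g'' h3 => h2 g'' fun m => LinearMap.congr_fun h3 m⟩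
  · intro h
    refine IsBC.of_lift (fun a m => ?_) (fun Q _ _ g hg => ?_)
    · change f (a • m) = _
      rw [f.map_smul, ← algebraMap_smul B]
      rfl
    · letI : Module A Q := Module.compHom Q (algebraMap A B)
      haveI : IsScalarTower A B Q := ⟨fun a b q => by
        change (a • b) • q = algebraMap A B a • (b • q)
        rw [Algebra.smul_def, mul_smul]⟩
      let g₀ : M →ₗ[A] Q := { g with map_smul' := hg }
      refine ⟨h.lift g₀, fun x => h.lift_eq g₀ x, fun g' hg' => ?_⟩
      refine h.algHom_ext' _ _ (LinearMap.ext fun x => ?_)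
      exact (hg' x).trans (h.lift_eq g₀ x).symm

/-- the version of `isBC_iff` for an additive map. -/
theorem isBC_iff' {φ : A →+* B} {f : M →+ N} : IsBC φ f ↔ ∃ hf : ∀ (a : A) (m : M), f (a • m) = φ a • f m,
    letI := φ.toAlgebra
    letI : Module A N := Module.compHom N φ
    haveI : IsScalarTower A B N := ⟨fun a b n => mul_smul (φ a) b n⟩
    IsBaseChange B ({ f with map_smul' := hf } : M →ₗ[A] N) := Iff.rfl

@[elab_as_elim]
theorem IsBC.induction {φ : A →+* B} {f : M →+ N} (h : IsBC φ f) {motive : N → Prop} (n : N)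
    (zero : motive 0) (map : ∀ m, motive (f m)) (smul : ∀ (b : B) (n : N), motive n → motive (b • n))
    (add : ∀ x y, motive x → motive y → motive (x + y)) : motive n := by
  obtain ⟨hf, h⟩ := h
  letI := φ.toAlgebra
  letI : Module A N := Module.compHom N φ
  haveI : IsScalarTower A B N := ⟨fun a b n => mul_smul (φ a) b n⟩
  exact h.inductionOn n motive zero map smul add

theorem IsBC.span_range {φ : A →+* B} {f : M →+ N} (h : IsBC φ f) : Submodule.span B (Set.range f) = ⊤ := by
  rw [eq_top_iff]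
  intro n _
  induction n using h.induction with
  | zero => exact Submodule.zero_mem _
  | map m => exact Submodule.subset_span ⟨m, rfl⟩
  | smul b n hn => exact Submodule.smul_mem _ _ (hn trivial)
  | add x y hx hy => exact Submodule.add_mem _ (hx trivial) (hy trivial)

theorem isBC_mk (φ : A →+* B) (M : Type*) [AddCommGroup M] [Module A M] :
    letI := φ.toAlgebra
    IsBC φ (TensorProduct.mk A B M 1).toAddMonoidHom := by
  letI := φ.toAlgebra
  exact (isBC_iff (TensorProduct.mk A B M 1)).2 (TensorProduct.isBaseChange A M B)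

theorem IsBC.exists_equiv {φ : A →+* B} {f : M →+ N} (h : IsBC φ f) [AddCommGroup Q] [Module B Q] {f' : M →+ Q}
    (h' : IsBC φ f') : ∃ e : N ≃ₗ[B] Q, ∀ m, e (f m) = f' m := by
  obtain ⟨g, hg, -⟩ := h.existsUnique_lift f' h'.map_smul
  obtain ⟨g', hg', -⟩ := h'.existsUnique_lift f h.map_smul
  refine ⟨LinearEquiv.ofLinearMap g g' ?_ ?_, hg⟩
  · exact h'.hom_ext fun x => by simp [hg, hg']
  · exact h.hom_ext fun x => by simp [hg, hg']

theorem IsBC.bijective_of_isBC {φ : A →+* B} {f : M →+ N} (h : IsBC φ f) [AddCommGroup Q] [Module B Q]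
    {f' : M →+ Q} (h' : IsBC φ f') (g : N →ₗ[B] Q) (hg : ∀ m, g (f m) = f' m) : Function.Bijective g := by
  obtain ⟨e, he⟩ := h.exists_equiv h'
  have : g = e.toLinearMap := h.hom_ext fun x => by simp [hg, he]
  rw [this]
  exact e.bijective

theorem IsBC.of_equiv {φ : A →+* B} {f : M →+ N} (h : IsBC φ f) [AddCommGroup Q] [Module B Q] (e : N ≃ₗ[B] Q)
    {f' : M →+ Q} (he : ∀ m, e (f m) = f' m) : IsBC φ f' := by
  refine IsBC.of_lift (fun a m => by rw [← he, ← he, h.map_smul, _root_.map_smul]) (fun R _ _ g hg => ?_)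
  obtain ⟨g', h1, h2⟩ := h.existsUnique_lift g hg
  refine ⟨g'.comp e.symm.toLinearMap, fun m => ?_, fun g'' h3 => ?_⟩
  · rw [← he]
    simp [h1]
  · have : g''.comp e.toLinearMap = g' := h2 _ fun m => by simp [he, h3]
    rw [← this]
    ext x
    simp

section Comp

variable [AddCommGroup P] [Module C P]

theorem IsBC.comp_iff {φ : A →+* B} {ψ : B →+* C} {f : M →+ N} (h : IsBC φ f) {g : N →+ P}
    (hg : ∀ (b : B) (n : N), g (b • n) = ψ b • g n) : IsBC (ψ.comp φ) (g.comp f) ↔ IsBC ψ g := by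
  obtain ⟨hf, h⟩ := h
  letI i1 := φ.toAlgebra
  letI i2 : Module A N := Module.compHom N φ
  haveI : IsScalarTower A B N := ⟨fun a b n => mul_smul (φ a) b n⟩
  letI i3 := ψ.toAlgebra
  letI i4 : Module B P := Module.compHom P ψ
  haveI : IsScalarTower B C P := ⟨fun a b n => mul_smul (ψ a) b n⟩
  letI i5 := (ψ.comp φ).toAlgebra
  haveI : IsScalarTower A B C := IsScalarTower.of_algebraMap_eq fun _ => rfl
  letI i6 : Module A P := Module.compHom P (ψ.comp φ)
  haveI : IsScalarTower A C P := ⟨fun a b n => mul_smul ((ψ.comp φ) a) b n⟩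
  haveI : IsScalarTower A B P := ⟨fun a b n => mul_smul (ψ (φ a)) (ψ b) n |> fun e => by
    change (ψ (φ a * b)) • n = _
    rw [map_mul]
    exact e⟩
  let f' : M →ₗ[A] N := { f with map_smul' := hf }
  let g' : N →ₗ[B] P := { g with map_smul' := hg }
  have e1 : IsBC (ψ.comp φ) (g.comp f) ↔ IsBaseChange C ((g' : N →ₗ[A] P) ∘ₗ f') :=
    isBC_iff ((g' : N →ₗ[A] P) ∘ₗ f')
  have e2 : IsBC ψ g ↔ IsBaseChange C g' := isBC_iff g'
  rw [e1, e2]
  exact IsBaseChange.comp_iff h

theorem IsBC.comp {φ : A →+* B} {ψ : B →+* C} {f : M →+ N} (h : IsBC φ f) {g : N →+ P}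
    (hg : IsBC ψ g) : IsBC (ψ.comp φ) (g.comp f) :=
  (h.comp_iff hg.map_smul).2 hg

theorem IsBC.of_comp {φ : A →+* B} {ψ : B →+* C} {f : M →+ N} (h : IsBC φ f) {g : N →+ P}
    (hg : ∀ (b : B) (n : N), g (b • n) = ψ b • g n) (h' : IsBC (ψ.comp φ) (g.comp f)) : IsBC ψ g :=
  (h.comp_iff hg).1 h'

end Comp

theorem isBC_of_bijective {φ : A →+* B} (hφ : Function.Bijective φ) {f : M →+ N}
    (hf : ∀ (a : A) (m : M), f (a • m) = φ a • f m) (hb : Function.Bijective f) : IsBC φ f := by
  refine IsBC.of_lift hf fun Q _ _ g hg => ?_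
  let e := AddEquiv.ofBijective f hb
  refine ⟨{ g.comp e.symm.toAddMonoidHom with map_smul' := fun b n => ?_ }, fun m => ?_, fun g' hg' => ?_⟩
  · obtain ⟨a, rfl⟩ := hφ.2 b
    obtain ⟨m, rfl⟩ := hb.2 n
    have h1 : e.symm (f m) = m := e.symm_apply_apply m
    have h2 : e.symm (f (a • m)) = a • m := e.symm_apply_apply _
    change g (e.symm (φ a • f m)) = φ a • g (e.symm (f m))
    rw [← hf, h1, h2, hg]
  · exact congrArg g (e.symm_apply_apply m)
  · ext n
    obtain ⟨m, rfl⟩ := hb.2 n
    rw [hg']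
    exact (congrArg g (e.symm_apply_apply m)).symm

theorem isBC_id : IsBC (RingHom.id A) (AddMonoidHom.id M) :=
  isBC_of_bijective Function.bijective_id (fun _ _ => rfl) Function.bijective_id

/-- the maps on base changes induced by a linear map. -/
theorem IsBC.exists_map {φ : A →+* B} {f : M →+ N} (h : IsBC φ f) [AddCommGroup P] [Module A P] [AddCommGroup Q]
    [Module B Q] {f' : P →+ Q} (hf' : ∀ (a : A) (m : P), f' (a • m) = φ a • f' m) (g : M →ₗ[A] P) :
    ∃ g' : N →ₗ[B] Q, ∀ m, g' (f m) = f' (g m) := by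
  obtain ⟨g', h1, -⟩ := h.existsUnique_lift (f'.comp g.toAddMonoidHom) (fun a m => by
    change f' (g (a • m)) = φ a • f' (g m)
    rw [g.map_smul, hf'])
  exact ⟨g', h1⟩

end K784.BC
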