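import Groth.Agent.StMod.K784.Tr2

/-!
# The cartesian module on the objects over the atlas defined by a flat-cartesian presheaf of modules
-/

set_option autoImplicit false
set_option linter.style.haveILetI false
set_option linter.dupNamespace false
set_option linter.unusedSectionVars false

open CategoryTheory Opposite

namespace K784.Tr

open K784.BC K784.PM

universe t x₃ x₂ x₁ w v₁ u₁ u

variable {𝒞 : Type u₁} [Category.{v₁} 𝒞] {A : 𝒞ᵒᵖ ⥤ CommRingCat.{u}}

/-- the objects with an arrow to some `Z j`. -/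
def Over {J : Type t} (Z : J → 𝒞) : ObjectProperty 𝒞 := fun z => ∃ j, Nonempty (z ⟶ Z j)

/-- a coherent system of base changes of `H (Z j)` on the objects over some `Z j`. -/
structure Sys {J : Type t} {Z : J → 𝒞} (T : Atlas A Z) (H : PM.{w} A) where
  obj : (Over Z).FullSubcategory → Type u
  [grp : ∀ z, AddCommGroup (obj z)]
  [mod : ∀ z, Module (A.obj (op z.obj)) (obj z)]
  ι : ∀ (z : (Over Z).FullSubcategory) {j : J} (_ : z.obj ⟶ Z j), H.obj (Z j) →+ obj z
  bc : ∀ (z : (Over Z).FullSubcategory) {j : J} (b : z.obj ⟶ Z j), IsBC (rg A b) (ι z b)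
  tr : ∀ (z : (Over Z).FullSubcategory) {i j : J} (b : z.obj ⟶ Z i) (b' : z.obj ⟶ Z j), Tr T b b' (ι z b) (ι z b')

attribute [instance] Sys.grp Sys.mod

variable {J : Type t} {Z : J → 𝒞} {T : Atlas A Z} {H : PM.{w} A} {R : 𝒞 → Prop} (hH : FC R H) (hZ : ∀ j, R (Z j))
  (pb : PB A)

include hH hZ pb in
/-- coherent systems exist. -/
theorem nonempty_sys (H₀ : J → Type u) [∀ j, AddCommGroup (H₀ j)] [∀ j, Module (A.obj (op (Z j))) (H₀ j)]
    (e₀ : ∀ j, H₀ j ≃ₗ[A.obj (op (Z j))] H.obj (Z j)) : Nonempty (Sys T H) := by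
  let j : (Over Z).FullSubcategory → J := fun z => z.property.choose
  let a : ∀ z : (Over Z).FullSubcategory, z.obj ⟶ Z (j z) := fun z => z.property.choose_spec.some
  let c : ∀ z : (Over Z).FullSubcategory, H.obj (Z (j z)) →+ Ten (rg A (a z)) (H₀ (j z)) := fun z =>
    (ten (rg A (a z)) (H₀ (j z))).comp (e₀ (j z)).symm.toLinearMap.toAddMonoidHom
  have hc : ∀ z, IsBC (rg A (a z)) (c z) := fun z => by
    have h1 : IsBC (RingHom.id _) (e₀ (j z)).symm.toLinearMap.toAddMonoidHom :=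
      isBC_of_bijective Function.bijective_id (fun r m => (e₀ (j z)).symm.map_smul r m) (e₀ (j z)).symm.bijective
    have h2 := h1.comp (isBC_ten (rg A (a z)) (H₀ (j z)))
    rwa [RingHom.comp_id] at h2
  choose ι hι ht using fun (z : (Over Z).FullSubcategory) (k : J) (b : z.obj ⟶ Z k) =>
    exists_tr (T := T) hH hZ pb (a z) b (hc z).semi
  exact ⟨{ obj := fun z => Ten (rg A (a z)) (H₀ (j z))
           ι := fun z k b => ι z k b
           bc := fun z k b => (ht z k b).isBC hH hZ pb (hc z) (hι z k b)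
           tr := fun z k l b b' => ((ht z k b).symm hH hZ pb (hc z).semi).trans hH hZ pb (hι z k b) (ht z l b') }⟩

namespace Sys

variable (G : Sys T H)

include hH hZ pb in
theorem exists_map {z' z : (Over Z).FullSubcategory} (φ : z'.obj ⟶ z.obj) :
    ∃ m : G.obj z →+ G.obj z', Semi (rg A φ) m ∧
      ∀ {j : J} (b : z.obj ⟶ Z j) (h : H.obj (Z j)), m (G.ι z b h) = G.ι z' (φ ≫ b) h := by
  obtain ⟨i, ⟨a⟩⟩ := z.property
  obtain ⟨m, h1, h2⟩ := (G.bc z a).exists_semi (rg A φ) (G.ι z' (φ ≫ a)) (by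
    rw [← rg_comp]
    exact (G.bc z' (φ ≫ a)).semi)
  refine ⟨m, h1, fun {j} b h => ?_⟩
  have t := (G.tr z a b).pull hH hZ pb φ h1 (G.bc z a).semi
  have e1 : m.comp (G.ι z a) = G.ι z' (φ ≫ a) := AddMonoidHom.ext h2
  rw [e1] at t
  exact congr($(t.unique hH hZ pb (G.bc z' (φ ≫ a)).semi (G.tr z' (φ ≫ a) (φ ≫ b))) h)

/-- the restriction maps. -/
noncomputable def map {z' z : (Over Z).FullSubcategory} (φ : z'.obj ⟶ z.obj) : G.obj z →+ G.obj z' :=
  (G.exists_map hH hZ pb φ).choose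

theorem map_semi {z' z : (Over Z).FullSubcategory} (φ : z'.obj ⟶ z.obj) : Semi (rg A φ) (G.map hH hZ pb φ) :=
  (G.exists_map hH hZ pb φ).choose_spec.1

theorem map_ι {z' z : (Over Z).FullSubcategory} (φ : z'.obj ⟶ z.obj) {j : J} (b : z.obj ⟶ Z j) (h : H.obj (Z j)) :
    G.map hH hZ pb φ (G.ι z b h) = G.ι z' (φ ≫ b) h := (G.exists_map hH hZ pb φ).choose_spec.2 b h

/-- the cartesian presheaf of modules. -/
noncomputable def pm : PM.{u} ((Over Z).ι.op ⋙ A) where
  obj z := G.obj z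
  grp z := G.grp z
  mod z := G.mod z
  map φ := G.map hH hZ pb φ.hom
  map_smul φ := G.map_semi hH hZ pb φ.hom
  map_id z m := by
    obtain ⟨i, ⟨a⟩⟩ := z.property
    have : G.map hH hZ pb (𝟙 z.obj) = AddMonoidHom.id _ :=
      (G.bc z a).semi_ext (ψ := rg A (𝟙 z.obj)) (G.map_semi hH hZ pb _) (fun r m => by rw [rg_id]; rfl) fun h => by
        rw [map_ι, Category.id_comp]
        rfl
    exact congr($this m)
  map_comp {z'' z' z} ψ φ m := by
    obtain ⟨i, ⟨a⟩⟩ := z.property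
    have : G.map hH hZ pb (ψ.hom ≫ φ.hom) = (G.map hH hZ pb ψ.hom).comp (G.map hH hZ pb φ.hom) :=
      (G.bc z a).semi_ext (ψ := rg A (ψ.hom ≫ φ.hom)) (G.map_semi hH hZ pb _) (by
        rw [rg_comp]
        exact (G.map_semi hH hZ pb ψ.hom).comp (G.map_semi hH hZ pb φ.hom)) fun h => by
        rw [AddMonoidHom.comp_apply, map_ι, map_ι, map_ι, Category.assoc]
    exact congr($this m)

theorem pm_cart : (G.pm hH hZ pb).Cart := by
  intro z' z φ
  obtain ⟨i, ⟨a⟩⟩ := z.property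
  have e : (G.map hH hZ pb φ.hom).comp (G.ι z a) = G.ι z' (φ.hom ≫ a) :=
    AddMonoidHom.ext fun h => G.map_ι hH hZ pb φ.hom a h
  have h2 := G.bc z' (φ.hom ≫ a)
  rw [← e, rg_comp] at h2
  have h3 : IsBC (rg A φ.hom) (G.map hH hZ pb φ.hom) := (G.bc z a).of_comp (G.map_semi hH hZ pb φ.hom) h2
  exact h3

include hH hZ pb in
theorem exists_τ (z : (Over Z).FullSubcategory) (hz : R z.obj) :
    ∃ t : G.obj z →ₗ[A.obj (op z.obj)] H.obj z.obj,
      ∀ {j : J} (b : z.obj ⟶ Z j) (h : H.obj (Z j)), t (G.ι z b h) = H.map b h := by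
  obtain ⟨i, ⟨a⟩⟩ := z.property
  obtain ⟨t, ht, -⟩ := (G.bc z a).existsUnique_lift (H.map a) (H.map_smul a)
  refine ⟨t, fun {j} b h => ?_⟩
  have hs : Semi (rg A (𝟙 z.obj)) t.toAddMonoidHom := fun r m => by
    rw [rg_id]
    exact t.map_smul r m
  have t1 := (G.tr z a b).pull hH hZ pb (𝟙 z.obj) hs (G.bc z a).semi
  rw [Category.id_comp, Category.id_comp] at t1
  have e1 : t.toAddMonoidHom.comp (G.ι z a) = H.map a := AddMonoidHom.ext ht
  rw [e1] at t1
  exact congr($(t1.unique hH hZ pb (H.map_smul a) (tr_map (T := T) hH hZ hz a b)) h)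

/-- the comparison with `H`. -/
noncomputable def τ (z : (Over Z).FullSubcategory) (hz : R z.obj) : G.obj z →ₗ[A.obj (op z.obj)] H.obj z.obj :=
  (G.exists_τ hH hZ pb z hz).choose

theorem τ_ι (z : (Over Z).FullSubcategory) (hz : R z.obj) {j : J} (b : z.obj ⟶ Z j) (h : H.obj (Z j)) :
    G.τ hH hZ pb z hz (G.ι z b h) = H.map b h := (G.exists_τ hH hZ pb z hz).choose_spec b h

theorem τ_nat {z' z : (Over Z).FullSubcategory} (hz' : R z'.obj) (hz : R z.obj) (φ : z'.obj ⟶ z.obj) (m : G.obj z) :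
    G.τ hH hZ pb z' hz' (G.map hH hZ pb φ m) = H.map φ (G.τ hH hZ pb z hz m) := by
  obtain ⟨i, ⟨a⟩⟩ := z.property
  have : (G.τ hH hZ pb z' hz').toAddMonoidHom.comp (G.map hH hZ pb φ) = (H.map φ).comp (G.τ hH hZ pb z hz).toAddMonoidHom :=
    (G.bc z a).semi_ext (ψ := rg A φ) (fun r m => by
      change G.τ hH hZ pb z' hz' (G.map hH hZ pb φ (r • m)) = rg A φ r • G.τ hH hZ pb z' hz' (G.map hH hZ pb φ m)
      rw [G.map_semi hH hZ pb φ, _root_.map_smul]) (fun r m => by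
      change H.map φ (G.τ hH hZ pb z hz (r • m)) = rg A φ r • H.map φ (G.τ hH hZ pb z hz m)
      rw [_root_.map_smul, H.map_smul]) fun h => by
      change G.τ hH hZ pb z' hz' (G.map hH hZ pb φ (G.ι z a h)) = H.map φ (G.τ hH hZ pb z hz (G.ι z a h))
      rw [map_ι, τ_ι, τ_ι, H.map_comp]
  exact congr($this m)

theorem τ_bijective (z : (Over Z).FullSubcategory) (hz : R z.obj) {j : J} (b : z.obj ⟶ Z j) (hb : Fl A b) :
    Function.Bijective (G.τ hH hZ pb z hz) :=
  (G.bc z b).bijective_of_isBC (hH.bc b hb (hZ j)) _ fun h => G.τ_ι hH hZ pb z hz b h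

end Sys

end K784.Tr
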