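import Groth.Agent.StMod.K784.Sys

/-!
# Extension of maps from a dense class of objects
-/

set_option autoImplicit false
set_option linter.style.haveILetI false
set_option linter.dupNamespace false
set_option linter.unusedSectionVars false

open CategoryTheory Opposite

namespace K784.Tr

open K784.BC K784.PM

universe w₂ w₁ w v₁ u₁ u

variable {𝒞 : Type u₁} [Category.{v₁} 𝒞] {A : 𝒞ᵒᵖ ⥤ CommRingCat.{u}} {R : 𝒞 → Prop} {H : PM.{w} A}

theorem FC.injective (hH : FC R H) {x z : 𝒞} {φ : x ⟶ z} (hφ : FF A φ) (hz : R z) : Function.Injective (H.map φ) :=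
  (hH.bc φ hφ.fl hz).injective hφ

theorem FC.exists_desc (hH : FC R H) (pb : PB A) {x z : 𝒞} {φ : x ⟶ z} (hφ : FF A φ) (hz : R z) (m : H.obj x)
    (Hm : ∀ ⦃y : 𝒞⦄ (p q : y ⟶ x), Fl A p → Fl A q → p ≫ φ = q ≫ φ → H.map p m = H.map q m) :
    ∃! n : H.obj z, H.map φ n = m := by
  obtain ⟨y, p, q, h1, h2⟩ := pb φ φ
  have hx : R x := hH.stab φ hφ.fl hz
  have hq : Fl A q := (h2.ff hφ).flat
  have hp : Fl A p := (h2.flip.ff hφ).flat
  obtain ⟨n, hn⟩ := IsBC.mem_range hφ h2 (hH.bc φ hφ.fl hz) (H.map_smul p) (hH.bc q hq hx) (fun m => by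
    rw [← H.map_comp, ← H.map_comp, h1.w]) (Hm p q hp hq h1.w)
  exact ⟨n, hn, fun n' hn' => hH.injective hφ hz (hn'.trans hn.symm)⟩

/-- a natural family of linear maps on a dense class extends. -/
theorem FC.extend (hH : FC R H) (pb : PB A) {Q : 𝒞 → Prop} (hQ : ∀ ⦃x z : 𝒞⦄ (_ : x ⟶ z), Q z → Q x)
    (hd : ∀ z, ∃ (x : 𝒞) (f : x ⟶ z), FF A f ∧ Q x) {F : PM.{w₁} A}
    (ev : ∀ z, Q z → R z → F.obj z →ₗ[A.obj (op z)] H.obj z)
    (hev : ∀ ⦃x z : 𝒞⦄ (φ : x ⟶ z) (qx : Q x) (rx : R x) (qz : Q z) (rz : R z) (m : F.obj z),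
      ev x qx rx (F.map φ m) = H.map φ (ev z qz rz m)) :
    ∃ ev' : ∀ z, R z → F.obj z →ₗ[A.obj (op z)] H.obj z,
      (∀ ⦃x z : 𝒞⦄ (φ : x ⟶ z) (rx : R x) (rz : R z) (m : F.obj z), ev' x rx (F.map φ m) = H.map φ (ev' z rz m)) ∧
      ∀ z (qz : Q z) (rz : R z), ev' z rz = ev z qz rz := by
  have key : ∀ z (_ : R z) (m : F.obj z), ∃ n : H.obj z, ∀ ⦃y : 𝒞⦄ (g : y ⟶ z) (qy : Q y) (ry : R y),
      H.map g n = ev y qy ry (F.map g m) := by
    intro z rz m
    obtain ⟨x, f, hf, qx⟩ := hd z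
    have rx : R x := hH.stab f hf.fl rz
    obtain ⟨n, hn, -⟩ := hH.exists_desc pb hf rz (ev x qx rx (F.map f m)) (fun y p q hp hq hpq => by
      have ry : R y := hH.stab p hp rx
      rw [← hev p (hQ p qx) ry qx rx, ← hev q (hQ q qx) ry qx rx, ← F.map_comp, ← F.map_comp, hpq])
    refine ⟨n, fun y g qy ry => ?_⟩
    obtain ⟨y', g', f', hg', hy'⟩ := pb.exists_ff g f hf
    have ry' : R y' := hH.stab g' hg'.fl ry
    refine hH.injective hg' ry ?_
    rw [← H.map_comp, hy', H.map_comp, hn, ← hev f' (hQ g' qy) ry' qx rx, ← hev g' (hQ g' qy) ry' qy ry,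
      ← F.map_comp, ← F.map_comp, hy']
  choose n hn using key
  have huniq : ∀ z (rz : R z) (m : F.obj z) (a : H.obj z),
      (∀ ⦃y : 𝒞⦄ (g : y ⟶ z) (qy : Q y) (ry : R y), H.map g a = ev y qy ry (F.map g m)) → a = n z rz m := by
    intro z rz m a ha
    obtain ⟨x, f, hf, qx⟩ := hd z
    have rx : R x := hH.stab f hf.fl rz
    refine hH.injective hf rz ?_
    rw [ha f qx rx, hn z rz m f qx rx]
  refine ⟨fun z rz =>
    { toFun := n z rz
      map_add' := fun a b => (huniq z rz _ _ fun y g qy ry => by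
        rw [map_add, hn z rz a g qy ry, hn z rz b g qy ry, map_add, map_add]).symm
      map_smul' := fun r a => (huniq z rz _ _ fun y g qy ry => by
        rw [RingHom.id_apply, H.map_smul, hn z rz a g qy ry, F.map_smul, (ev y qy ry).map_smul]).symm }, ?_, ?_⟩
  · intro x z φ rx rz m
    refine (huniq x rx _ _ fun y g qy ry => ?_).symm
    change H.map g (H.map φ (n z rz m)) = _
    rw [← H.map_comp, hn z rz m (g ≫ φ) qy ry, F.map_comp]
  · intro z qz rz
    refine LinearMap.ext fun m => ?_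
    have := hn z rz m (𝟙 z) qz rz
    rw [H.map_id, F.map_id] at this
    exact this

end K784.Tr
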