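import Groth.Agent.StMod.K784.Geo
import Groth.Agent.StMod.K784.Extend

/-!
# The quasi-coherent module defined by a flat-cartesian presheaf of modules on the affine objects

`exists_qcoh`: for a flat atlas `P` of `𝒴` and a presheaf of modules `H` (in any universe) on the affine objects of `𝒴`,
cartesian along flat arrows into objects of the class `R`, small at the atlas, there are `G : QCoh 𝒴` and a natural map
`Γ(G_z) → H z` (`z` in `R`), bijective at all `z` flat over the atlas.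
-/

set_option autoImplicit false
set_option linter.style.haveILetI false
set_option linter.dupNamespace false
set_option linter.unusedSectionVars false
set_option backward.isDefEq.respectTransparency false
set_option backward.isDefEq.respectTransparency.types false

open CategoryTheory CategoryTheory.Limits AlgebraicGeometry Opposite StMod

namespace K784.Geo

open K784.BC K784.PM K784.Tr K908.AMod K908.QHom K908.QSec K907.Sec

universe t w₁ v' w' v w u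

variable {S : Scheme.{u}} {𝒴 : BasedCategory.{v, w} (Over S)} (hY : FibCat.IsFibGrpd 𝒴.p)

/-- the objects over an atlas. -/
def FAtlas.sieve (P : FAtlas.{t} 𝒴) : ASieve 𝒴 where
  P z := IsAffine (sch 𝒴 z) ∧ ∃ j, Nonempty (z ⟶ (P.Z j).obj)
  aff _ h := h.1
  down _ _ φ h h' := ⟨h', h.2.imp fun _ ⟨b⟩ => ⟨φ ≫ b⟩⟩

theorem FAtlas.dense (P : FAtlas.{t} 𝒴) : K908.Desc.Dense P.sieve := by
  intro z hz
  obtain ⟨z', f, j, d, h⟩ := P.cov ⟨z, hz⟩
  exact ⟨⟨z'.obj, z'.property, j, ⟨d.hom⟩⟩, f.hom, h⟩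

/-- conversion of objects. -/
def FAtlas.conv (P : FAtlas.{t} 𝒴) (z : P.sieve.cat.obj) : (Tr.Over P.Z).FullSubcategory :=
  ⟨⟨z.obj, z.property.1⟩, z.property.2.imp fun _ ⟨b⟩ => ⟨ObjectProperty.homMk b⟩⟩

/-- the family on the objects over the atlas. -/
noncomputable def sysAMod (P : FAtlas.{t} 𝒴) (G : PM.{u} ((Tr.Over P.Z).ι.op ⋙ fa 𝒴)) : AMod P.sieve.cat where
  obj z := G.obj (P.conv z)
  grp z := G.grp (P.conv z)
  mod z := G.mod (P.conv z)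
  map {x z} φ := G.map (ObjectProperty.homMk (ObjectProperty.homMk φ.hom) : P.conv x ⟶ P.conv z)
  map_smul {x z} φ r m := G.map_smul (ObjectProperty.homMk (ObjectProperty.homMk φ.hom) : P.conv x ⟶ P.conv z) r m
  map_id z m := G.map_id (P.conv z) m
  map_comp {y x z} ψ φ m := G.map_comp (ObjectProperty.homMk (ObjectProperty.homMk ψ.hom) : P.conv y ⟶ P.conv x)
    (ObjectProperty.homMk (ObjectProperty.homMk φ.hom) : P.conv x ⟶ P.conv z) m

theorem sysAMod_isCart (P : FAtlas.{t} 𝒴) {G : PM.{u} ((Tr.Over P.Z).ι.op ⋙ fa 𝒴)} (hG : G.Cart) :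
    (sysAMod P G).IsCart := fun x z φ => (isBC_iff _ _).2
  (hG (ObjectProperty.homMk (ObjectProperty.homMk φ.hom) : P.conv x ⟶ P.conv z))

/-- all global sections of a quasi-coherent module over affine objects. -/
noncomputable abbrev gs (F : QCoh 𝒴) : PM.{u} (fa 𝒴) := pm (rest F.obj (ASieve.all 𝒴))

theorem gs_cart (F : QCoh 𝒴) : (gs F).Cart := pm_cart (rest_isCart F _)

include hY in
theorem exists_qcoh (P : FAtlas.{t} 𝒴) (H : PM.{w₁} (fa 𝒴)) {R : (Aff 𝒴).obj → Prop} (hH : FC R H)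
    (hR : ∀ j, R (P.Z j)) [∀ j, Small.{u} (H.obj (P.Z j))] :
    ∃ (G : QCoh 𝒴) (ev : ∀ z : (Aff 𝒴).obj, R z → (gs G).obj z →ₗ[(fa 𝒴).obj (op z)] H.obj z),
      (∀ ⦃x z : (Aff 𝒴).obj⦄ (φ : x ⟶ z) (rx : R x) (rz : R z) (m : (gs G).obj z),
        ev x rx ((gs G).map φ m) = H.map φ (ev z rz m)) ∧
      ∀ (z : (Aff 𝒴).obj) (rz : R z) (j : P.J) (b : z ⟶ P.Z j), Fl (fa 𝒴) b → Function.Bijective (ev z rz) := by
  haveI := hY
  have pb := pb_aff hY
  obtain ⟨G₀⟩ := nonempty_sys (T := P.atlas hY) hH hR pb (fun j => Shrink.{u} (H.obj (P.Z j)))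
    (fun j => Shrink.linearEquiv.{u} _ _)
  obtain ⟨G, t, ht⟩ := K908.Desc.exists_qcoh (𝒳 := 𝒴) P.dense (sysAMod P (G₀.pm hH hR pb))
    (sysAMod_isCart P (G₀.pm_cart hH hR pb))
  let c : ∀ z : (Aff 𝒴).obj, Tr.Over P.Z z → P.sieve.cat.obj := fun z qz =>
    ⟨z.obj, z.property, qz.imp fun _ ⟨b⟩ => ⟨b.hom⟩⟩
  letI im : ∀ (z : (Aff 𝒴).obj) (qz : Tr.Over P.Z z), Module ((fa 𝒴).obj (op z)) (G₀.obj ⟨z, qz⟩) :=
    fun z qz => G₀.mod ⟨z, qz⟩
  let t' : ∀ (z : (Aff 𝒴).obj) (qz : Tr.Over P.Z z),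
      (gs G).obj z →ₗ[(fa 𝒴).obj (op z)] G₀.obj ⟨z, qz⟩ := fun z qz => t.app (c z qz)
  have ht' : ∀ z qz, Function.Bijective (t' z qz) := fun z qz => ht (c z qz)
  have tn : ∀ ⦃x z : (Aff 𝒴).obj⦄ (φ : x ⟶ z) (qx : Tr.Over P.Z x) (qz : Tr.Over P.Z z) (m : (gs G).obj z),
      t' x qx ((gs G).map φ m) = G₀.map hH hR pb (z' := ⟨x, qx⟩) (z := ⟨z, qz⟩) φ (t' z qz m) :=
    fun x z φ qx qz m => t.comm (ObjectProperty.homMk φ.hom : c x qx ⟶ c z qz) m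
  obtain ⟨ev, h1, h2⟩ := hH.extend pb (Q := Tr.Over P.Z) (fun x z φ qz => qz.imp fun _ ⟨b⟩ => ⟨φ ≫ b⟩)
    (fun z => by
      obtain ⟨z', f, j, d, h⟩ := P.cov z
      exact ⟨z', f, (ff_iff f).2 h, j, ⟨d⟩⟩) (F := gs G)
    (fun z qz rz => (G₀.τ hH hR pb ⟨z, qz⟩ rz).comp (t' z qz)) (fun x z φ qx rx qz rz m => by
      rw [LinearMap.comp_apply, tn φ qx qz]
      exact G₀.τ_nat hH hR pb (z' := ⟨x, qx⟩) (z := ⟨z, qz⟩) rx rz φ (t' z qz m))
  refine ⟨G, ev, h1, fun z rz j b hb => ?_⟩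
  rw [h2 z ⟨j, ⟨b⟩⟩ rz]
  exact (G₀.τ_bijective hH hR pb ⟨z, ⟨j, ⟨b⟩⟩⟩ rz b hb).comp (ht' z ⟨j, ⟨b⟩⟩)

end K784.Geo
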