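import Groth.Agent.StMod.K784.Sys
import Groth.Agent.StMod.K908.Desc
import Groth.Agent.StMod.K906.Pres

/-!
# Affine objects of a category fibred in groupoids over `(Sch/S)` as a category with a presheaf of rings
-/

set_option autoImplicit false
set_option linter.style.haveILetI false
set_option linter.dupNamespace false
set_option linter.unusedSectionVars false
set_option backward.isDefEq.respectTransparency false
set_option backward.isDefEq.respectTransparency.types false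

open CategoryTheory CategoryTheory.Limits AlgebraicGeometry Opposite StMod

namespace K784.Geo

open K784.BC K784.PM K784.Tr K908.AMod K908.QHom K908.QSec K907.Sec

universe t v' w' v w u

variable {S : Scheme.{u}}

/-- Comparison of the two forms of semilinear base change. -/
theorem isBC_iff {A B M N : Type u} [CommRing A] [CommRing B] [AddCommGroup M] [Module A M] [AddCommGroup N]
    [Module B N] (φ : A →+* B) (f : M →+ N) : Groth.Agent.CohqA.BaseChangeMod.IsBC φ f ↔ K784.BC.IsBC φ f :=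
  ⟨fun h => IsBC.of_lift h.map_smul fun _ _ _ g hg => h.lift _ g hg,
    fun h => ⟨h.map_smul, fun _ _ _ g hg => h.existsUnique_lift g hg⟩⟩

/-- the presheaf of functions on a category over `(Sch/S)`. -/
noncomputable def fn (𝒞 : BasedCategory.{v, w} (Over S)) : 𝒞.objᵒᵖ ⥤ CommRingCat.{u} :=
  𝒞.p.op ⋙ (CategoryTheory.Over.forget S).op ⋙ Scheme.Γ

theorem rg_fn {𝒞 : BasedCategory.{v, w} (Over S)} {x z : 𝒞.obj} (φ : x ⟶ z) :
    rg (fn 𝒞) φ = (bmap 𝒞 φ).appTop.hom := rfl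

/-- a family of modules as a presheaf of modules. -/
def pm {𝒞 : BasedCategory.{v, w} (Over S)} (M : AMod 𝒞) : PM.{u} (fn 𝒞) where
  obj := M.obj
  grp := M.grp
  mod := M.mod
  map := M.map
  map_smul φ r m := M.map_smul φ r m
  map_id z m := M.map_id z m
  map_comp ψ φ m := M.map_comp ψ φ m

theorem pm_cart {𝒞 : BasedCategory.{v, w} (Over S)} {M : AMod 𝒞} (h : M.IsCart) : (pm M).Cart :=
  fun _ _ φ => (isBC_iff _ _).1 (h φ)

variable {𝒳 : BasedCategory.{v, w} (Over S)} (hX : FibCat.IsFibGrpd 𝒳.p)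

/-- all affine objects. -/
abbrev Aff (𝒳 : BasedCategory.{v, w} (Over S)) : BasedCategory.{v, w} (Over S) := (ASieve.all 𝒳).cat

/-- functions on the affine objects. -/
noncomputable abbrev fa (𝒳 : BasedCategory.{v, w} (Over S)) : (Aff 𝒳).objᵒᵖ ⥤ CommRingCat.{u} := fn (Aff 𝒳)

instance isAffine_aff (z : (Aff 𝒳).obj) : IsAffine (sch 𝒳 z.obj) := z.property

theorem fl_iff {x z : (Aff 𝒳).obj} (φ : x ⟶ z) : Fl (fa 𝒳) φ ↔ Flat (bmap 𝒳 φ.hom) :=
  (HasRingHomProperty.iff_of_isAffine (P := @Flat) (f := bmap 𝒳 φ.hom)).symm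

theorem ff_iff {x z : (Aff 𝒳).obj} (φ : x ⟶ z) : FF (fa 𝒳) φ ↔ IsFCov φ.hom := by
  refine (Flat.flat_and_surjective_iff_faithfullyFlat_of_isAffine (bmap 𝒳 φ.hom)).symm.trans ?_
  exact ⟨fun h => ⟨h.1, h.2⟩, fun h => ⟨h.1, h.2⟩⟩

include hX in
theorem pb_aff : PB (fa 𝒳) := by
  intro w z z' φ f
  obtain ⟨y, k, l, h⟩ := K906.Grpd.exists_isPullback hX φ.hom f.hom
  have h1 := K906.Grpd.isPullback_bmap hX h
  have h3 : IsAffine (sch 𝒳 y) := K907.Sec.isAffine_of_isPullback h1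
  refine ⟨⟨y, h3⟩, ObjectProperty.homMk k, ObjectProperty.homMk l, ?_, ?_⟩
  · exact IsPullback.of_map (ObjectProperty.ι (fun ζ : 𝒳.obj => (ASieve.all 𝒳).P ζ))
      (ObjectProperty.hom_ext _ h.w) h
  · exact K908.Desc.isPushout_of_isPullback h z.property w.property z'.property

/-- an atlas by affine objects with flat spans. -/
structure FAtlas (𝒳 : BasedCategory.{v, w} (Over S)) where
  /-- the index type -/
  J : Type t
  /-- the objects -/
  Z : J → (Aff 𝒳).obj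
  cov : ∀ z : (Aff 𝒳).obj, ∃ (z' : (Aff 𝒳).obj) (f : z' ⟶ z) (j : J) (_ : z' ⟶ Z j), IsFCov f.hom
  span : ∀ (z : (Aff 𝒳).obj) {i j : J} (a : z ⟶ Z i) (b : z ⟶ Z j), ∃ (z' θ : (Aff 𝒳).obj) (f : z' ⟶ z)
    (p : θ ⟶ Z i) (q : θ ⟶ Z j) (e : z' ⟶ θ), IsFCov f.hom ∧ K906.Span.SpanWith @Flat p.hom q.hom ∧
      Flat (bmap 𝒳 p.hom) ∧ Flat (bmap 𝒳 q.hom) ∧ e ≫ p = f ≫ a ∧ e ≫ q = f ≫ b

theorem etale_le_flat : (@Etale : MorphismProperty Scheme.{u}) ≤ @Flat := fun _ _ f (_ : Etale f) => inferInstance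

include hX in
/-- the atlas of the category of affine objects. -/
noncomputable def FAtlas.atlas (P : FAtlas.{t} 𝒳) : Atlas (fa 𝒳) P.Z where
  Sp p q := K906.Span.SpanWith @Flat p.hom q.hom ∧ Flat (bmap 𝒳 p.hom) ∧ Flat (bmap 𝒳 q.hom)
  flat h := (fl_iff _).2 h.2.1
  swap h := ⟨h.1.swap, h.2.2, h.2.1⟩
  lift a b := by
    obtain ⟨z', θ, f, p, q, e, h1, h2, h3, h4, h5, h6⟩ := P.span _ a b
    exact ⟨z', θ, f, p, q, e, (ff_iff _).2 h1, ⟨h2, h3, h4⟩, h5, h6⟩
  dom {z θ θ' i j p q p' q'} e e' h h' h1 h2 := by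
    obtain ⟨z₁, θ₁, f, e₁, k, l, a1, a2, a3, a4, a5, a6, a7, a8, a9, a10⟩ :=
      K906.Span.exists_dom etale_le_flat etale_le_flat hX h.1 h'.1 e.hom e'.hom
        (congrArg (fun t => t.hom) h1) (congrArg (fun t => t.hom) h2) z.property
    refine ⟨⟨z₁, a1⟩, ⟨θ₁, a2⟩, ObjectProperty.homMk f, ObjectProperty.homMk e₁, ObjectProperty.homMk k,
      ObjectProperty.homMk l, (ff_iff _).2 ⟨?_, a4⟩, (fl_iff _).2 a9, (fl_iff _).2 a10,
      ObjectProperty.hom_ext _ a5, ObjectProperty.hom_ext _ a6, ObjectProperty.hom_ext _ a7,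
      ObjectProperty.hom_ext _ a8⟩
    have : Etale (bmap 𝒳 f) := a3
    change Flat (bmap 𝒳 f)
    infer_instance
  triple {z i j k} a b c := by
    obtain ⟨z₁, θ₁, f₁, p₁, q₁, e₁, h1, h2, h3, h4, h5, h6⟩ := P.span z a b
    obtain ⟨z₂, θ₂, f₂, p₂, q₂, e₂, h1', h2', h3', h4', h5', h6'⟩ := P.span z₁ (f₁ ≫ b) (f₁ ≫ c)
    obtain ⟨π, m, n, h⟩ := K906.Grpd.exists_isPullback hX q₁.hom p₂.hom
    have hb := K906.Grpd.isPullback_bmap hX h
    have hπ : IsAffine (sch 𝒳 π) := K907.Sec.isAffine_of_isPullback hb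
    have fm : Flat (bmap 𝒳 m) := MorphismProperty.of_isPullback (P := @Flat) hb.flip h3'
    have fn' : Flat (bmap 𝒳 n) := MorphismProperty.of_isPullback (P := @Flat) hb h4
    have e₃ : (f₂ ≫ e₁).hom ≫ q₁.hom = e₂.hom ≫ p₂.hom := by
      have : (f₂ ≫ e₁) ≫ q₁ = e₂ ≫ p₂ := by rw [Category.assoc, h6, h5']
      exact congrArg (fun t => t.hom) this
    let r : (Aff 𝒳).obj := ⟨π, hπ⟩
    let m' : r ⟶ θ₁ := ObjectProperty.homMk m
    let n' : r ⟶ θ₂ := ObjectProperty.homMk n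
    let e : z₂ ⟶ r := ObjectProperty.homMk (h.lift _ _ e₃)
    have em : e ≫ m' = f₂ ≫ e₁ := ObjectProperty.hom_ext _ (h.lift_fst _ _ e₃)
    have en : e ≫ n' = e₂ := ObjectProperty.hom_ext _ (h.lift_snd _ _ e₃)
    have emn : m' ≫ q₁ = n' ≫ p₂ := ObjectProperty.hom_ext _ h.w
    have fp : Flat (bmap 𝒳 (m' ≫ p₁).hom) := by
      change Flat (bmap 𝒳 (m ≫ p₁.hom))
      rw [bmap_comp]
      infer_instance
    have fq : Flat (bmap 𝒳 (m' ≫ q₁).hom) := by
      change Flat (bmap 𝒳 (m ≫ q₁.hom))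
      rw [bmap_comp]
      infer_instance
    have fr : Flat (bmap 𝒳 (n' ≫ q₂).hom) := by
      change Flat (bmap 𝒳 (n ≫ q₂.hom))
      rw [bmap_comp]
      infer_instance
    refine ⟨z₂, r, f₂ ≫ f₁, m' ≫ p₁, m' ≫ q₁, n' ≫ q₂, e, ?_, ⟨?_, fp, fq⟩, ⟨?_, fq, fr⟩, ⟨?_, fp, fr⟩, ?_, ?_, ?_⟩
    · exact ((ff_iff _).2 h1').comp ((ff_iff _).2 h1)
    · exact h2.comp_left hX m fm
    · rw [emn]
      exact h2'.comp_left hX n fn'
    · exact K906.Span.SpanWith.comp hX h h3 h2'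
    · rw [← Category.assoc, em, Category.assoc, h5, Category.assoc]
    · rw [← Category.assoc, em, Category.assoc, h6, Category.assoc]
    · rw [← Category.assoc, en, h6', Category.assoc]

/-- the atlas underlying a smooth atlas. -/
def FAtlas.ofSm (A : K906.SmAtlas 𝒳) : FAtlas.{u} 𝒳 where
  J := A.J
  Z j := ⟨A.Z j, A.affine j⟩
  cov z := by
    obtain ⟨z', f, j, d, h1, h2, h3⟩ := A.cov z.obj z.property
    refine ⟨⟨z', h1⟩, ObjectProperty.homMk f, j, ObjectProperty.homMk d, ⟨?_, h3⟩⟩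
    change Flat (bmap 𝒳 f)
    infer_instance
  span z {i j} a b := by
    obtain ⟨z', θ, f, p, q, e, h1, h2, h3, h4, h5, h6, h7⟩ := A.span z.obj (A.Z i) j a.hom b.hom z.property
    have hp := A.smooth θ (A.Z i) j p q h5
    have hq := A.smooth θ (A.Z j) i q p h5.swap
    refine ⟨⟨z', h1⟩, ⟨θ, h2⟩, ObjectProperty.homMk f, ObjectProperty.homMk p, ObjectProperty.homMk q,
      ObjectProperty.homMk e, ⟨?_, h4⟩, h5.mono etale_le_flat, ?_, ?_, ObjectProperty.hom_ext _ h6,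
      ObjectProperty.hom_ext _ h7⟩
    · change Flat (bmap 𝒳 f)
      infer_instance
    · change Flat (bmap 𝒳 p)
      infer_instance
    · change Flat (bmap 𝒳 q)
      infer_instance

/-- the atlas underlying an affine presentation. -/
def FAtlas.ofPres (P : K906.Pres 𝒳) : FAtlas.{t} 𝒳 where
  J := PUnit
  Z _ := ⟨P.ζ, P.affζ⟩
  cov z := by
    obtain ⟨z', f, d, h1, h2, h3⟩ := P.cov z.obj z.property
    refine ⟨⟨z', h1⟩, ObjectProperty.homMk f, PUnit.unit, ObjectProperty.homMk d, ⟨?_, h3⟩⟩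
    change Flat (bmap 𝒳 f)
    infer_instance
  span z {i j} a b := by
    obtain ⟨z', f, e, h1, h3, h4, h6, h7⟩ := P.lift z.obj a.hom b.hom z.property
    have hp := P.smooth_s
    have hq := P.smooth_t
    refine ⟨⟨z', h1⟩, ⟨P.ρ, P.affρ⟩, ObjectProperty.homMk f, ObjectProperty.homMk P.s, ObjectProperty.homMk P.t,
      ObjectProperty.homMk e, ⟨?_, h4⟩, P.span.mono etale_le_flat, ?_, ?_, ObjectProperty.hom_ext _ h6,
      ObjectProperty.hom_ext _ h7⟩
    · change Flat (bmap 𝒳 f)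
      infer_instance
    · change Flat (bmap 𝒳 P.s)
      infer_instance
    · change Flat (bmap 𝒳 P.t)
      infer_instance

end K784.Geo
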