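import Groth.Agent.StMod.K784.FibComp
import Groth.Agent.StMod.K906.FlatLoc

/-!
# Generating families are local on the base for flat arrows

`isGenFam_of_flat`: `E i` finitely presented on `𝒳`, generating on the categories of `𝒳` over affine objects `η'` with flat
arrows `η' ⟶ η` hitting all points: then `E` generates on the category over `η`.
-/

set_option autoImplicit false
set_option linter.style.haveILetI false
set_option linter.dupNamespace false
set_option linter.unusedSectionVars false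
set_option backward.isDefEq.respectTransparency false
set_option backward.isDefEq.respectTransparency.types false

open CategoryTheory CategoryTheory.Limits AlgebraicGeometry Opposite StMod

namespace K784.Geo

open K784.BC K784.PM K784.Tr K784.HFam K908.AMod K908.QHom K908.QSec K907.Sec K906.FlatLoc

universe t v' w' v w u

variable {S : Scheme.{u}} {𝒳 : BasedCategory.{v, w} (Over S)} {𝒴 : BasedCategory.{v', w'} (Over S)}
  (F : 𝒳 ⥤ᵇ 𝒴)

/-- a morphism killing the families over `w` is zero over `w` if `E` generates there. -/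
theorem zero_of_gen (hX : FibCat.IsFibGrpd 𝒳.p) {w : 𝒴.obj} {ι : Type t} {E : ι → QCoh 𝒳}
    (hg : IsGenFam (fun i => (comapQ (K906.fibPt F w)).obj (E i))) {M N : QCoh 𝒳} (u : M ⟶ N)
    (key : ∀ (i : ι) (h : HFam (bas F w) (gs (E i)) (gs M)), HFam.post (gsMap u.hom) (gsMap_nat u.hom) h = 0)
    (x : (Aff 𝒳).obj) (a : F.obj x.obj ⟶ w) (m : Γ(M.obj.obj x.obj, ⊤)) : (u.hom.app x.obj).app ⊤ m = 0 := by
  haveI : FibCat.IsFibGrpd (K906.fibCat F w).p := K906.isFibGrpd_fibCat hX
  have h0 : (comapQ (K906.fibPt F w)).map u = 0 := by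
    refine (isGenFam_iff _).1 hg _ fun i t => ?_
    refine hom_ext_of_top (C := ASieve.all (K906.fibCat F w)) K908.Fam.zloc_all fun ζ e => ?_
    let h : HFam (bas F w) (gs (E i)) (gs M) :=
      { app := fun {x} a =>
          { toFun := fun e => (t.app (K906.FObj.mk x.obj a)).app ⊤ e
            map_add' := fun e e' => map_add _ _ _
            map_smul' := fun r e => Scheme.Modules.Hom.app_smul _ _ _ }
        comm := fun {x z} φ a e => by
          let φ' : K906.FObj.mk (π := F) (η := w) x.obj (F.map φ.hom ≫ a) ⟶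
            K906.FObj.mk z.obj a := K906.FObj.mkHom φ.hom rfl
          have h2 : (Mod.comap (K906.fibPt F w) (E i).obj).mapTop φ' e = (E i).obj.mapTop φ.hom e :=
            K908.Comap.ct_mapTop (K906.fibPt F w) (E i).obj φ' e
          have h3 : ∀ m : Γ(M.obj.obj z.obj, ⊤), (Mod.comap (K906.fibPt F w) M.obj).mapTop φ' m =
            M.obj.mapTop φ.hom m := fun m => K908.Comap.ct_mapTop (K906.fibPt F w) M.obj φ' m
          have h4 := Mod.mapTop_app t φ' e
          refine (congrArg (fun e => (t.app (K906.FObj.mk x.obj (F.map φ.hom ≫ a))).app ⊤ e) h2.symm).trans ?_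
          exact h4.symm.trans (h3 _) }
    exact congrArg (fun h : HFam (bas F w) (gs (E i)) (gs N) =>
      h.app (x := ⟨ζ.obj.pt, ζ.property⟩) ζ.obj.arr e) (key i h)
  exact congrArg (fun w' => (w'.hom.app (K906.FObj.mk x.obj a)).app ⊤ m) h0

theorem key_of_flat (hX : FibCat.IsFibGrpd 𝒳.p) (hY : FibCat.IsFibGrpd 𝒴.p) {E : QCoh 𝒳} (hE : E.obj.IsFinPres)
    {w' w : 𝒴.obj} (g : w' ⟶ w) (hw : IsAffine (sch 𝒴 w)) (hw' : IsAffine (sch 𝒴 w')) (hg : Flat (bmap 𝒴 g))
    (P : K906.Pres (K906.fibCat F w)) {M N : QCoh 𝒳} (u : M ⟶ N)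
    (key : ∀ (h : HFam (bas F w) (gs E) (gs M)), HFam.post (gsMap u.hom) (gsMap_nat u.hom) h = 0)
    (h : HFam (bas F w') (gs E) (gs M)) : HFam.post (gsMap u.hom) (gsMap_nat u.hom) h = 0 := by
  have h1 : (HFam.post (gsMap u.hom) (gsMap_nat u.hom) :
      HFam (bas F w') (gs E) (gs M) →ₗ[(bas F w').R] HFam (bas F w') (gs E) (gs N)) = 0 :=
    (isBC_hpm F hX hY hE g hw hw' hg P).hom_ext fun h => by
      rw [LinearMap.zero_apply]
      exact congrArg (HFam.pull (basMap F g)) (key h)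
  exact congr($h1 h)

theorem isGenFam_of_flat (π : 𝒳 ⥤ᵇ 𝒴) (hX : FibCat.IsFibGrpd 𝒳.p) (hY : FibCat.IsFibGrpd 𝒴.p) {η : 𝒴.obj}
    (hη : IsAffine (sch 𝒴 η)) {ι : Type t} (E : ι → QCoh 𝒳) (hE : ∀ i, (E i).obj.IsFinPres)
    (P : Nonempty (K906.Pres (K906.fibCat π η)))
    (H : ∀ s : ↥(sch 𝒴 η), ∃ (η' : 𝒴.obj) (g : η' ⟶ η), Hits g s ∧
      IsGenFam (fun i => (comapQ (K906.fibPt π η')).obj (E i))) :
    IsGenFam (fun i => (comapQ (K906.fibPt π η)).obj (E i)) := by
  have hfX : FibCat.IsFibGrpd (K906.fibCat π η).p := K906.isFibGrpd_fibCat hX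
  haveI := hfX
  have hfY : FibCat.IsFibGrpd (K906.fibCat (BasedFunctor.id 𝒴) η).p := K906.isFibGrpd_fibCat hY
  let F : K906.fibCat π η ⥤ᵇ K906.fibCat (BasedFunctor.id 𝒴) η := Eqv.fibComp π (BasedFunctor.id 𝒴) η
  let w : (K906.fibCat (BasedFunctor.id 𝒴) η).obj := ⟨η, 𝟙 η⟩
  have hEF : ∀ i, ((comapQ (K906.fibPt π η)).obj (E i)).obj.IsFinPres := fun i x => hE i x.pt
  refine (isGenFam_iff _).2 fun M N u hu => ?_
  -- over `η`
  have key : ∀ (i : ι) (h : HFam (bas F w) (gs ((comapQ (K906.fibPt π η)).obj (E i))) (gs M)),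
      HFam.post (gsMap u.hom) (gsMap_nat u.hom) h = 0 := by
    intro i h
    let ax : ∀ x : (Aff (K906.fibCat π η)).obj, F.obj x.obj ⟶ w := fun x =>
      K906.FObj.mkHom (K906.FObj.arr x.obj) (Category.comp_id _)
    have hax : ∀ (x : (Aff (K906.fibCat π η)).obj) (a : F.obj x.obj ⟶ w), a = ax x := fun x a => by
      apply K906.FObj.hom_ext
      have h1 := K906.FObj.Hom.comm a
      have h2 : a.hom ≫ 𝟙 η = K906.FObj.arr x.obj := h1
      rw [Category.comp_id] at h2
      exact h2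
    let t : AHom (rest ((comapQ (K906.fibPt π η)).obj (E i)).obj (ASieve.all (K906.fibCat π η)))
        (rest M.obj (ASieve.all (K906.fibCat π η))) :=
      { app := fun x => h.app (ax x)
        comm := fun {x z} φ e => by
          have h1 := h.comm φ (ax z) e
          have h2 : (bas F w).pre φ (ax z) = ax x := hax x _
          rw [h2] at h1
          exact h1 }
    have h1 := hu i (homMk K908.Fam.zloc_all t)
    refine HFam.ext' fun {x} a e => ?_
    rw [hax x a]
    have h3 := homMk_app (C := ASieve.all (K906.fibCat π η)) K908.Fam.zloc_all t x e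
    have h5 := congrArg (fun s => (s.app x.obj).app ⊤ e) h1
    refine Eq.trans ?_ h5
    exact congrArg (gsMap u.hom x) h3.symm
  -- over the flat objects
  have hz : ∀ (η' : 𝒴.obj) (g : η' ⟶ η), IsAffine (sch 𝒴 η') → Flat (bmap 𝒴 g) →
      IsGenFam (fun i => (comapQ (K906.fibPt π η')).obj (E i)) → ∀ (x : (Aff (K906.fibCat π η)).obj)
      (a : F.obj x.obj ⟶ (⟨η', g⟩ : K906.FObj (BasedFunctor.id 𝒴) η)) (m : Γ(M.obj.obj x.obj, ⊤)),
      (u.hom.app x.obj).app ⊤ m = 0 := by
    intro η' g h1 h2 h3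
    refine zero_of_gen F hfX (w := ⟨η', g⟩) (E := fun i => (comapQ (K906.fibPt π η)).obj (E i)) ?_ u
      (fun i => key_of_flat F hfX hfY (hEF i) (w' := ⟨η', g⟩) (w := w) (K906.FObj.mkHom g (Category.comp_id _)) hη h1 h2
        ?_ u (key i))
    · exact Eqv.isGenFam_fibComp (f := π) (g := BasedFunctor.id 𝒴) (η := η) hX (w := ⟨η', g⟩) h3
    · exact (Eqv.nonempty_pres_fibComp (f := π) (g := BasedFunctor.id 𝒴) (η := η) (w := w) P).some
  apply InducedCategory.hom_ext
  refine hom_ext_of_top (C := ASieve.all (K906.fibCat π η)) K908.Fam.zloc_all fun x m => ?_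
  have hx : IsAffine (sch (K906.fibCat π η) x.obj) := x.property
  refine eq_zero_of_flat (A := Γ(sch (K906.fibCat π η) x.obj, ⊤)) _ fun 𝔪 h𝔪 => ?_
  have hp := h𝔪.isPrime
  let p : ↥(sch (K906.fibCat π η) x.obj) := (sch (K906.fibCat π η) x.obj).isoSpec.inv
    (⟨𝔪, hp⟩ : PrimeSpectrum Γ(sch (K906.fibCat π η) x.obj, ⊤))
  obtain ⟨η', g, ⟨h1, h2, q, hq⟩, h4⟩ := H ((K906.fbase x.obj).left p)
  obtain ⟨b, c, hb⟩ := K906.exists_bc hX hY g x.obj
  have hb' : IsPullback (bmap 𝒳 c.hom) (K906.fbase b).left (K906.fbase x.obj).left (bmap 𝒴 g) := hb.map (Over.forget S)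
  have hba : IsAffine (sch 𝒳 (K906.FObj.pt b)) := by
    have e1 : IsAffine (𝒴.p.obj η).left := hη
    have e2 : IsAffine (𝒴.p.obj η').left := h1
    have e3 : IsAffine (𝒳.p.obj (K906.FObj.pt x.obj)).left := hx
    have e4 : IsAffine (sch 𝒳 (K906.FObj.pt x.obj)) := hx
    exact K907.Sec.isAffine_of_isPullback hb'
  have hcf : Flat (bmap 𝒳 c.hom) := MorphismProperty.of_isPullback (P := @Flat) hb'.flip h2
  obtain ⟨r, hr1, -⟩ := Scheme.exists_preimage_of_isPullback hb' p q hq.symm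
  let y : (Aff (K906.fibCat π η)).obj := ⟨(K906.fibMap π g).obj b, hba⟩
  have hya : IsAffine (sch (K906.fibCat π η) y.obj) := hba
  let c' : y ⟶ x := ObjectProperty.homMk c
  refine ⟨Γ(sch (K906.fibCat π η) y.obj, ⊤), inferInstance, (bmap (K906.fibCat π η) c).appTop.hom,
    Γ(N.obj.obj y.obj, ⊤), inferInstance, inferInstance, (rest N.obj (ASieve.all (K906.fibCat π η))).map c',
    ?_, ?_, ?_, ?_⟩
  · exact (HasRingHomProperty.iff_of_isAffine (P := @Flat)).1 hcf
  · exact map_ne_top_of_mem_range (bmap (K906.fibCat π η) c) 𝔪 ⟨r, hr1⟩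
  · exact rest_isCart N _ c'
  · have h5 := Mod.mapTop_app u.hom c m
    refine h5.trans ?_
    exact hz η' g h1 h2 h4 y (K906.FObj.mkHom (K906.FObj.arr b) rfl) _

end K784.Geo
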