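import Groth.Agent.StMod.K784.FibDiag
import Groth.Agent.StMod.K906.Atlas
import Groth.Agent.StMod.K906.FlatLoc
import Groth.Agent.StMod.K907.Pt
import Groth.Agent.AlgSt.K735.PtsSp
import Groth.Agent.AlgSt.K735.Top
import Groth.Prelude.Def_AlgSt3

/-!
# Flat arrows hitting a point, from flat charts and flat morphisms of stacks
-/

set_option autoImplicit false
set_option linter.style.haveILetI false
set_option linter.dupNamespace false
set_option linter.unusedSectionVars false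
set_option backward.isDefEq.respectTransparency false
set_option backward.isDefEq.respectTransparency.types false

open CategoryTheory CategoryTheory.Limits AlgebraicGeometry Opposite StMod AlgSp

namespace K784.Hit

open K906 K906.Grpd K906.Span K606.YonSec K734.Fib K907.Pt K906.FlatLoc

universe v' w' v w u

variable {S : Scheme.{u}} {𝒳 : BasedCategory.{v, w} (Over S)} {𝒴 : BasedCategory.{v', w'} (Over S)}

/-- Equal points are joined by a span. -/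
theorem exists_span_of_pt (h : FibCat.IsFibGrpd 𝒳.p) {z z' : 𝒳.obj} (s : ↥(sch 𝒳 z)) (s' : ↥(sch 𝒳 z'))
    (e : pt h z s = pt h z' s') : ∃ (χ : 𝒳.obj) (a : χ ⟶ z) (b : χ ⟶ z') (c : ↥(sch 𝒳 χ)),
      IsAffine (sch 𝒳 χ) ∧ bmap 𝒳 a c = s ∧ bmap 𝒳 b c = s' := by
  obtain ⟨r, a, b, -⟩ := (K735.Pts.mk_eq_mk_iff h).1 e
  refine ⟨r.obj, a ≫ fptArr h z s, b ≫ fptArr h z' s', ptt r, ?_, ?_, ?_⟩
  · have h1 : sch 𝒳 r.obj = Spec (CommRingCat.of r.K) := congrArg Comma.left r.lies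
    rw [h1]
    infer_instance
  · rw [bmap_comp, Scheme.Hom.comp_apply, eq_ptt (fpt h z s) (bmap 𝒳 a (ptt r)), bmap_fptArr_ptt]
  · rw [bmap_comp, Scheme.Hom.comp_apply, eq_ptt (fpt h z' s') (bmap 𝒳 b (ptt r)), bmap_fptArr_ptt]

/-- The first leg of an étale span into `ζ ×_𝒳 U` has `Q` when the chart has. -/
theorem prop_of_spanWith {Q : MorphismProperty Scheme.{u}} {U : Over S} {x : FibCat.overCat U ⥤ᵇ 𝒳}
    (h : FibCat.IsFibGrpd 𝒳.p) (hx : AlgSt.RepByAlgSpWith (LocP Q) x) {θ ζ : 𝒳.obj}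
    {p : θ ⟶ ζ} {q : θ ⟶ x.obj (one U)} (H : SpanWith @Etale p q) : Q (bmap 𝒳 p) := by
  obtain ⟨F, π, R, hπ, hR⟩ := exists_spanRep_atlas h hx ζ
  have h1 := R.repWith_of_spanWith h F.property.diag H
  have h2 : RepWith @Etale (𝟙 ((yon S).obj (𝒳.p.obj ζ))) := by
    rw [← (yon S).map_id]
    exact K597.etale_map _ (by dsimp; infer_instance)
  refine hπ (K606.YonSec.ofSec (R.sec p q)) (𝟙 _) (𝒳.p.map p) h1 h2 ?_
  rw [ofSec_comp, hR, Category.comp_id, ofSec_up]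

/-- A chart through a point gives an affine object hitting it. -/
theorem exists_chart_hit {Q : MorphismProperty Scheme.{u}} {U : Over S} {x : FibCat.overCat U ⥤ᵇ 𝒳}
    (h : FibCat.IsFibGrpd 𝒳.p) (hx : AlgSt.RepByAlgSpWith (LocP Q) x) {z : 𝒳.obj} (s : ↥(sch 𝒳 z))
    (v : ↥(sch 𝒳 (x.obj (one U)))) (e : pt h z s = pt h (x.obj (one U)) v) :
    ∃ (θ : 𝒳.obj) (p : θ ⟶ z) (q : θ ⟶ x.obj (one U)) (r : ↥(sch 𝒳 θ)), IsAffine (sch 𝒳 θ) ∧ Q (bmap 𝒳 p) ∧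
      bmap 𝒳 p r = s ∧ bmap 𝒳 q r = v := by
  obtain ⟨χ, a, b, c, hχ, ha, hb⟩ := exists_span_of_pt h s v e
  obtain ⟨F, π, R, hπ, hR⟩ := exists_spanRep_atlas h hx z
  obtain ⟨z', θ, f, p, q, i, -, hθ, -, hfs, hpq, -, hip, hiq⟩ := R.exists_chart h F.property hχ a b
  obtain ⟨c', hc'⟩ := hfs.surj c
  refine ⟨θ, p, q, bmap 𝒳 i c', hθ, prop_of_spanWith h hx hpq, ?_, ?_⟩
  · rw [← Scheme.Hom.comp_apply, ← bmap_comp, hip, bmap_comp, Scheme.Hom.comp_apply, hc', ha]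
  · rw [← Scheme.Hom.comp_apply, ← bmap_comp, hiq, bmap_comp, Scheme.Hom.comp_apply, hc', hb]

/-- A flat chart through a point of `|𝒴|` gives an object of the slice hitting it. -/
theorem exists_hit_chart {U : Over S} {x : FibCat.overCat U ⥤ᵇ 𝒳} (h : FibCat.IsFibGrpd 𝒳.p)
    (hx : AlgSt.RepByAlgSpWith (LocP @Flat) x) {z : 𝒳.obj} (s : ↥(sch 𝒳 z)) (t : ↥U.left)
    (e : AlgSt.Points.ofChart x t = pt h z s) :
    ∃ (θ : 𝒳.obj) (p : θ ⟶ z), Hits p s ∧ Nonempty (θ ⟶ x.obj (one U)) := by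
  obtain ⟨θ, p, q, r, hθ, hp, hr, -⟩ := exists_chart_hit h hx s
    ((eqToHom (x.w_obj (one U)).symm : U ⟶ 𝒳.p.obj (x.obj (one U))).left t)
    (e.symm.trans (ofChart_eq h x t _ (by
      rw [← Scheme.Hom.comp_apply, ← Over.comp_left, eqToHom_trans]
      rfl)))
  exact ⟨θ, p, ⟨hθ, hp, ⟨r, hr⟩⟩, ⟨q⟩⟩

/-- A flat morphism of stacks through a point of `|𝒴|` gives an object of the source hitting it. -/
theorem exists_hit_locQ (h𝒳 : FibCat.IsFibGrpd 𝒳.p) (h𝒴 : FibCat.IsFibGrpd 𝒴.p) {u : 𝒳 ⥤ᵇ 𝒴}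
    (hu : AlgSt.LocQ (LocP @Flat) u) {z : 𝒴.obj} (s : ↥(sch 𝒴 z)) (x₀ : AlgSt.Points 𝒳)
    (e : AlgSt.Points.map u x₀ = pt h𝒴 z s) : ∃ (ξ : 𝒳.obj) (g : u.obj ξ ⟶ z), Hits g s := by
  obtain ⟨U, V, x, y, h, α, -, hxs, hy, hh⟩ := hu
  have hfl : Flat h.left := locP_yon_map hh
  obtain ⟨t, rfl⟩ := (K735.PtsSp.surjective_map_iff_surjective_ofChart x).1
    (K735.Top.surjective_of_repByAlgSpWith h𝒳 (K735.Fp.isFibGrpd_overCat U) hxs) x₀
  let ξ₀ := x.obj (one U)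
  let ε : u.obj ξ₀ ⟶ y.obj (one V) := (K735.Fib.isoApp α (one U)).hom ≫ y.map (toOne ((AlgSt.overMap h).obj (one U)))
  have hε : Flat (bmap 𝒴 ε) := by
    have e1 : 𝒴.p.map ε = eqToHom ((u.w_obj _).trans (x.w_obj _)) ≫ h ≫ eqToHom (y.w_obj (one V)).symm := by
      dsimp only [ε]
      rw [Functor.map_comp, (K735.Fib.vert_isoApp α (one U)).map_eq, K735.Fib.map_map,
        show (FibCat.overCat V).p.map (toOne ((AlgSt.overMap h).obj (one U))) = 𝟙 _ ≫ h from rfl]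
      simp
    have e2 : bmap 𝒴 ε = (eqToHom ((u.w_obj _).trans (x.w_obj _))).left ≫ h.left ≫
      (eqToHom (y.w_obj (one V)).symm).left := congrArg CommaMorphism.left e1
    rw [e2]
    infer_instance
  let v₀ : ↥(sch 𝒳 ξ₀) := (eqToHom (x.w_obj (one U)).symm : U ⟶ 𝒳.p.obj (x.obj (one U))).left t
  have e3 : AlgSt.Points.ofChart x t = pt h𝒳 ξ₀ v₀ := ofChart_eq h𝒳 x t _ (by
      rw [← Scheme.Hom.comp_apply, ← Over.comp_left, eqToHom_trans]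
      rfl)
  have e4 := e.symm.trans ((congrArg (AlgSt.Points.map u) e3).trans (map_pt h𝒳 h𝒴 u (𝟙 (u.obj ξ₀)) v₀))
  rw [← pt_map h𝒴 ε] at e4
  obtain ⟨θ, p, q, r, hθ, hp, hr, hv⟩ := exists_chart_hit h𝒴 hy s _ e4
  obtain ⟨θ', k, l, hkl⟩ := exists_isPullback h𝒴 q ε
  obtain ⟨r', hr1, hr2⟩ := Scheme.exists_preimage_of_isPullback (isPullback_bmap h𝒴 hkl) r _ hv
  obtain ⟨W, hW, hrW, -⟩ := exists_isAffineOpen_mem_and_subset (x := r') (U := ⊤) trivial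
  haveI : IsAffine W.toScheme := hW
  obtain ⟨θ'', j, i, hj⟩ := exists_lift_sch h𝒴 θ' W.ι
  obtain ⟨ξ, φ, i', hi', hi''⟩ := Eqv.exists_lift_obj h𝒳 h𝒴 u (j ≫ l)
  haveI := hε
  haveI : Smooth (bmap 𝒴 p) := hp
  haveI : Flat (bmap 𝒴 k) := MorphismProperty.of_isPullback (P := @Flat) (isPullback_bmap h𝒴 hkl).flip hε
  refine ⟨ξ, i'.hom ≫ j ≫ k ≫ p, ⟨?_, ?_, ?_⟩⟩
  · haveI : IsIso (bmap 𝒴 i'.hom) := inferInstance
    haveI : IsAffine (sch 𝒴 θ'') := IsAffine.of_isIso i.hom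
    exact IsAffine.of_isIso (bmap 𝒴 i'.hom)
  · rw [bmap_comp, bmap_comp, bmap_comp, hj]
    haveI : IsIso (bmap 𝒴 i'.hom) := inferInstance
    infer_instance
  · refine ⟨bmap 𝒴 i'.inv (i.inv ⟨r', hrW⟩), ?_⟩
    rw [← Scheme.Hom.comp_apply, ← bmap_comp, Iso.inv_hom_id_assoc, bmap_comp, hj, Scheme.Hom.comp_apply,
      Scheme.Hom.comp_apply, ← Scheme.Hom.comp_apply i.inv i.hom, Iso.inv_hom_id]
    change (bmap 𝒴 (k ≫ p)) r' = s
    rw [bmap_comp, Scheme.Hom.comp_apply]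
    exact (congrArg _ hr1).trans hr

end K784.Hit
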