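import Groth.Agent.StMod.K784.Rel
import Groth.Agent.StMod.K784.FlatGen
import Groth.Agent.StMod.K784.Hit
import Groth.Agent.ResProp.K90.RelGen

/-!
# Relatively generating families and jointly surjective families of flat morphisms of stacks
-/

set_option autoImplicit false
set_option linter.style.haveILetI false
set_option linter.dupNamespace false
set_option linter.unusedSectionVars false
set_option backward.isDefEq.respectTransparency false
set_option backward.isDefEq.respectTransparency.types false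

open CategoryTheory CategoryTheory.Limits AlgebraicGeometry Opposite StMod

namespace K784.Eqv

open K735.Fib K906

universe t t' w'' v'' w' v' w v u

variable {S : Scheme.{u}}

/-- Generation on the category of `𝒳` over `u ξ` from generation on that of `𝒳 ×_𝒴 𝒴'` over `ξ`. -/
theorem isGenFam_fib_of_fp {𝒳 : BasedCategory.{v, w} (Over S)} {𝒴 : BasedCategory.{v', w'} (Over S)}
    {𝒵 : BasedCategory.{v'', w''} (Over S)} (h𝒳 : FibCat.IsFibGrpd 𝒳.p) (h𝒴 : FibCat.IsFibGrpd 𝒴.p)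
    (h𝒵 : FibCat.IsFibGrpd 𝒵.p) (f : 𝒳 ⥤ᵇ 𝒴) (u : 𝒵 ⥤ᵇ 𝒴) {ι : Type t} (E : ι → QCoh 𝒳) {ξ : 𝒵.obj}
    (h : IsGenFam (fun i => (comapQ (K906.fibPt (FibCat.fpSnd f u) ξ)).obj ((comapQ (FibCat.fpFst f u)).obj (E i)))) :
    IsGenFam (fun i => (comapQ (K906.fibPt f (u.obj ξ))).obj (E i)) := by
  have hfp := K735.Fp.isFibGrpd_fp h𝒳 h𝒵 h𝒴 f u
  refine isGenFam_of_equiv (K90.RelGen.isEquivOver_fibFp f u h𝒳 h𝒵 h𝒴 ξ) (K906.isFibGrpd_fibCat h𝒳)
    (K906.isFibGrpd_fibCat hfp) ((isGenFam_congr fun i => ?_).1 h)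
  obtain ⟨e1⟩ := nonempty_comapComp (FibCat.fpFst f u) (K906.fibPt (FibCat.fpSnd f u) ξ) (E i)
  obtain ⟨e2⟩ := nonempty_comapComp (K906.fibPt f (u.obj ξ)) (K90.RelGen.fibFp f u ξ) (E i)
  exact ⟨e1.symm ≪≫ e2⟩

end K784.Eqv
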