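import Groth.Agent.StMod.K784.GenThm

/-!
# Generating families: the inverse images, and the family upstairs

`isGenFam_comapQ` : `O` generates over the atlas, `F'` generates on `𝒴` ⟹ `F^* F'` generates on `𝒳`;
`isGenFam_of_rel` : `E` generates over the atlas, `O` generates on `𝒴` ⟹ `E` generates on `𝒳`.
-/

set_option autoImplicit false
set_option linter.style.haveILetI false
set_option linter.dupNamespace false
set_option linter.unusedSectionVars false
set_option backward.isDefEq.respectTransparency false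
set_option backward.isDefEq.respectTransparency.types false

open CategoryTheory CategoryTheory.Limits AlgebraicGeometry Opposite StMod

namespace K784.Geo

open K784.BC K784.PM K784.Tr K784.HFam K908.AMod K908.QHom K908.QSec K907.Sec K908.Comap

universe t' t₁ t w₁ v' w' v w u

variable {S : Scheme.{u}} {𝒳 : BasedCategory.{v, w} (Over S)} {𝒴 : BasedCategory.{v', w'} (Over S)}
  (F : 𝒳 ⥤ᵇ 𝒴)

theorem isFinPres_O : (O 𝒳).IsFinPres := fun ξ => by
  have h : CohB1.IsFP (Coh.structureModule (sch 𝒳 ξ)) := by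
    rw [Groth.Agent.Desc.FPSections.isFP_iff_sections (isQCoh_structureModule (sch 𝒳 ξ))]
    intro V hV
    exact inferInstanceAs (Module.FinitePresentation Γ(sch 𝒳 ξ, V) Γ(sch 𝒳 ξ, V))
  exact h

/-- the unit of the structure sheaf. -/
noncomputable def oneO (x : (Aff 𝒳).obj) : (gs (OQ 𝒳)).obj x := (1 : Γ(sch 𝒳 x.obj, ⊤))

theorem map_oneO {x z : (Aff 𝒳).obj} (φ : x ⟶ z) : (gs (OQ 𝒳)).map φ (oneO z) = oneO x :=
  map_one (bmap 𝒳 φ.hom).appTop.hom

theorem smul_oneO (x : (Aff 𝒳).obj) (r : (fa 𝒳).obj (op x)) :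
    (r • oneO x : (gs (OQ 𝒳)).obj x) = (show Γ(sch 𝒳 x.obj, ⊤) from r) := mul_one (show Γ(sch 𝒳 x.obj, ⊤) from r)

theorem σ_one (x : (Aff 𝒳).obj) (r : Γ(sch 𝒴 (F.obj x.obj), ⊤)) :
    (bas F (F.obj x.obj)).σ (x := x) (𝟙 (F.obj x.obj)) r =
      (eqToHom (sch_obj_eq F x.obj).symm : sch 𝒳 x.obj ⟶ sch 𝒴 (F.obj x.obj)).appTop r := by
  change (baseOver F x.obj (𝟙 (F.obj x.obj))).left.appTop r = _
  have h : (baseOver F x.obj (𝟙 (F.obj x.obj))).left = eqToHom (sch_obj_eq F x.obj).symm := by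
    rw [baseOver, CategoryTheory.Functor.map_id, Category.comp_id, Over.eqToHom_left]
  rw [h]
  rfl

theorem isGenFam_comapQ (hX : FibCat.IsFibGrpd 𝒳.p) (hY : FibCat.IsFibGrpd 𝒴.p) (P : FAtlas.{t} 𝒴)
    {ι' : Type t'} (F' : ι' → QCoh 𝒴) (hF' : IsGenFam F')
    (hg : ∀ k, IsGenFam (fun _ : PUnit.{u + 1} => (comapQ (K906.fibPt F (P.Z k).obj)).obj (OQ 𝒳)))
    (hP : ∀ w : 𝒴.obj, IsAffine (sch 𝒴 w) → Nonempty (K906.Pres (K906.fibCat F w))) :
    IsGenFam (fun j => (comapQ F).obj (F' j)) := by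
  haveI := hX
  haveI := hY
  refine (isGenFam_iff _).2 fun M N u hu => ?_
  refine gen_of_bil F hX hY P (fun _ : PUnit.{u + 1} => OQ 𝒳) (fun _ => isFinPres_O) F' hF' hg hP u ?_
  rintro ⟨⟩ j β x f e
  let t : AHom (rest (Mod.comap F (F' j).obj) (ASieve.all 𝒳)) (rest M.obj (ASieve.all 𝒳)) :=
    { app := fun x =>
        { toFun := fun m => β.app x ((ct F (F' j).obj x.obj).symm m) (oneO x)
          map_add' := fun m m' => by
            rw [map_add]
            exact β.map_add x _ _ _
          map_smul' := fun r m => by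
            obtain ⟨r', hr'⟩ := (appTop_bijective F x.obj).2 r
            obtain ⟨m, rfl⟩ := (ct F (F' j).obj x.obj).surjective m
            have h1 : (ct F (F' j).obj x.obj).symm (r • ct F (F' j).obj x.obj m) = r' • m := by
              rw [AddEquiv.symm_apply_eq, ct_smul]
              exact congrArg (fun r => r • ct F (F' j).obj x.obj m) hr'.symm
            rw [AddEquiv.symm_apply_apply]
            refine (congrArg (fun f => β.app x f (oneO x)) h1).trans ?_
            refine (β.map_smul x r' m (oneO x)).trans ?_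
            rw [σ_one]
            exact congrArg (fun r : (fa 𝒳).obj (op x) => r • β.app x m (oneO x)) hr' }
      comm := fun {x z} φ m => by
        change β.app x ((ct F (F' j).obj x.obj).symm ((Mod.comap F (F' j).obj).mapTop φ.hom m)) (oneO x) = _
        rw [ct_symm_mapTop, ← map_oneO φ]
        exact β.nat φ _ (oneO z) }
  have h1 := hu j (homMk K908.Fam.zloc_all t)
  have h2 : gsMap u.hom x (β.app x f (oneO x)) = 0 := by
    have h3 := homMk_app (C := ASieve.all 𝒳) (F := (comapQ F).obj (F' j)) (G := M) K908.Fam.zloc_all t x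
      (ct F (F' j).obj x.obj f)
    have h4 : t.app x (ct F (F' j).obj x.obj f) = β.app x f (oneO x) := by
      change β.app x ((ct F (F' j).obj x.obj).symm (ct F (F' j).obj x.obj f)) (oneO x) = _
      rw [AddEquiv.symm_apply_apply]
    replace h3 := h3.trans h4
    have h5 := congrArg (fun s => (s.app x.obj).app ⊤ (ct F (F' j).obj x.obj f)) h1
    refine Eq.trans ?_ h5
    exact congrArg (gsMap u.hom x) h3.symm
  have h3 : e = (show (fa 𝒳).obj (op x) from e) • oneO x := (smul_oneO x e).symm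
  rw [h3, map_smul, map_smul, h2, smul_zero]

theorem isGenFam_of_rel (hX : FibCat.IsFibGrpd 𝒳.p) (hY : FibCat.IsFibGrpd 𝒴.p) (P : FAtlas.{t} 𝒴)
    {ι : Type t₁} (E : ι → QCoh 𝒳) (hE : ∀ i, (E i).obj.IsFinPres)
    (hO : IsGenFam (fun _ : PUnit.{u + 1} => OQ 𝒴))
    (hg : ∀ k, IsGenFam (fun i => (comapQ (K906.fibPt F (P.Z k).obj)).obj (E i)))
    (hP : ∀ w : 𝒴.obj, IsAffine (sch 𝒴 w) → Nonempty (K906.Pres (K906.fibCat F w))) :
    IsGenFam E := by
  haveI := hX
  haveI := hY
  refine (isGenFam_iff _).2 fun M N u hu => ?_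
  refine gen_of_bil F hX hY P E hE (fun _ : PUnit.{u + 1} => OQ 𝒴) hO hg hP u ?_
  rintro i ⟨⟩ β x f e
  let t : AHom (rest (E i).obj (ASieve.all 𝒳)) (rest M.obj (ASieve.all 𝒳)) :=
    { app := fun x => β.app x (oneO (afObj F x))
      comm := fun {x z} φ m => by
        rw [← map_oneO (afMap F φ)]
        exact β.nat φ _ m }
  have h1 := hu i (homMk K908.Fam.zloc_all t)
  have h2 : gsMap u.hom x (β.app x (oneO (afObj F x)) e) = 0 := by
    have h3 := homMk_app (C := ASieve.all 𝒳) K908.Fam.zloc_all t x e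
    have h5 := congrArg (fun s => (s.app x.obj).app ⊤ e) h1
    refine Eq.trans ?_ h5
    exact congrArg (gsMap u.hom x) h3.symm
  have h3 : f = (show (fa 𝒴).obj (op (afObj F x)) from f) • oneO (afObj F x) :=
    (smul_oneO (afObj F x) (show (fa 𝒴).obj (op (afObj F x)) from f)).symm
  rw [h3, β.map_smul, map_smul, h2, smul_zero]

end K784.Geo
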