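import Groth.Agent.StMod.K784.FibComp
import Groth.Agent.StMod.K784.Cor

/-!
# Generation on a category with an affine terminal object, and base change of generation along arrows

* `presOfTerm`, `isGenFam_O_of_term`: presentation of a category with an affine terminal object; its structure sheaf
  generates;
* `isGenFam_fib_of_arrow`: a family generating on the category of `𝒳` over an affine object `w` of `𝒴` generates on the
  category over `θ` for any arrow `θ ⟶ w` with `θ` affine.
-/

set_option autoImplicit false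
set_option linter.style.haveILetI false
set_option linter.dupNamespace false
set_option linter.unusedSectionVars false
set_option backward.isDefEq.respectTransparency false
set_option backward.isDefEq.respectTransparency.types false

open CategoryTheory CategoryTheory.Limits AlgebraicGeometry Opposite StMod

namespace K784.Geo

open K784.BC K784.PM K784.Tr K784.HFam K908.AMod K908.QHom K908.QSec K907.Sec

universe t v' w' v w u

variable {S : Scheme.{u}} {𝒳 : BasedCategory.{v, w} (Over S)} {𝒴 : BasedCategory.{v', w'} (Over S)}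

/-- The presentation of a category with an affine terminal object. -/
def presOfTerm {τ : 𝒳.obj} (hτ : IsAffine (sch 𝒳 τ)) (hex : ∀ z : 𝒳.obj, Nonempty (z ⟶ τ))
    (hu : ∀ {z : 𝒳.obj} (a b : z ⟶ τ), a = b) : K906.Pres 𝒳 where
  ζ := τ
  ρ := τ
  s := 𝟙 τ
  t := 𝟙 τ
  affζ := hτ
  affρ := hτ
  span := fun χ x y => ⟨χ, x, 𝟙 χ, ⟨hu _ _, hu _ _, fun k' l' _ _ => ⟨l', ⟨hu _ _, Category.comp_id _⟩,
    fun m hm => by rw [← hm.2, Category.comp_id]⟩⟩, by rw [bmap_id]; infer_instance⟩
  smooth_s := by rw [bmap_id]; infer_instance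
  smooth_t := by rw [bmap_id]; infer_instance
  cov := fun z hz => ⟨z, 𝟙 z, (hex z).some, hz, by rw [bmap_id]; infer_instance, by rw [bmap_id]; infer_instance⟩
  lift := fun z a b hz => ⟨z, 𝟙 z, a, hz, by rw [bmap_id]; infer_instance, by rw [bmap_id]; infer_instance,
    hu _ _, hu _ _⟩

/-- The structure sheaf generates on a category with an affine terminal object. -/
theorem isGenFam_O_of_term (hX : FibCat.IsFibGrpd 𝒳.p) {τ : 𝒳.obj} (hτ : IsAffine (sch 𝒳 τ))
    (hex : ∀ z : 𝒳.obj, Nonempty (z ⟶ τ)) (hu : ∀ {z : 𝒳.obj} (a b : z ⟶ τ), a = b) :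
    IsGenFam (fun _ : PUnit.{u + 1} => OQ 𝒳) := by
  haveI := hX
  refine (isGenFam_iff _).2 fun M N u h0 => ?_
  let τ' : (Aff 𝒳).obj := ⟨τ, hτ⟩
  have key : ∀ m : (gs M).obj τ', gsMap u.hom τ' m = 0 := by
    intro m
    let t : AHom (rest (OQ 𝒳).obj (ASieve.all 𝒳)) (rest M.obj (ASieve.all 𝒳)) :=
      { app := fun z => LinearMap.toSpanSingleton ((fa 𝒳).obj (op z)) ((gs M).obj z)
          ((gs M).map (ObjectProperty.homMk (hex z.obj).some : z ⟶ τ') m)
        comm := fun {x z} φ r => by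
          have h1 : φ ≫ (ObjectProperty.homMk (hex z.obj).some : z ⟶ τ') =
            (ObjectProperty.homMk (hex x.obj).some : x ⟶ τ') := ObjectProperty.hom_ext _ (hu _ _)
          have h2 := (gs M).map_smul φ r ((gs M).map (ObjectProperty.homMk (hex z.obj).some : z ⟶ τ') m)
          rw [← (gs M).map_comp, h1] at h2
          exact h2.symm }
    have h1 := h0 PUnit.unit (homMk K908.Fam.zloc_all t)
    have h3 := homMk_app (C := ASieve.all 𝒳) (F := OQ 𝒳) (G := M) K908.Fam.zloc_all t τ' (oneO τ')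
    have h4 : t.app τ' (oneO τ') = m := by
      have h5 : t.app τ' (oneO τ') = (1 : (fa 𝒳).obj (op τ')) •
          (gs M).map (ObjectProperty.homMk (hex τ).some : τ' ⟶ τ') m := rfl
      rw [h5, one_smul]
      have h6 : (ObjectProperty.homMk (hex τ).some : τ' ⟶ τ') = 𝟙 τ' := ObjectProperty.hom_ext _ (hu _ _)
      rw [h6, (gs M).map_id]
    have h5 := congrArg (fun s => (s.app τ'.obj).app ⊤ (oneO τ')) h1
    refine Eq.trans ?_ h5
    exact congrArg (gsMap u.hom τ') (h3.trans h4).symm
  have h2 : ∀ z : (Aff 𝒳).obj, gsMap u.hom z = 0 := by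
    intro z
    refine (gs_cart M (ObjectProperty.homMk (hex z.obj).some : z ⟶ τ')).hom_ext fun m => ?_
    rw [LinearMap.zero_apply, gsMap_nat, key, map_zero]
  apply InducedCategory.hom_ext
  refine hom_ext_of_top (C := ASieve.all 𝒳) (G := N) K908.Fam.zloc_all fun z m => ?_
  exact congr($(h2 z) m)

section Arrow

variable (f : 𝒳 ⥤ᵇ 𝒴) {θ w : 𝒴.obj} (g : θ ⟶ w)

/-- The categories over affine objects of `fibMap f g` have an affine terminal object. -/
theorem exists_term (hX : FibCat.IsFibGrpd 𝒳.p) (hY : FibCat.IsFibGrpd 𝒴.p) (hθ : IsAffine (sch 𝒴 θ))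
    (hw : IsAffine (sch 𝒴 w)) (W : (K906.fibCat f w).obj) (hW : IsAffine (sch (K906.fibCat f w) W)) :
    ∃ τ : (K906.fibCat (K906.fibMap f g) W).obj, IsAffine (sch (K906.fibCat (K906.fibMap f g) W) τ) ∧
      (∀ z : (K906.fibCat (K906.fibMap f g) W).obj, Nonempty (z ⟶ τ)) ∧
      ∀ {z : (K906.fibCat (K906.fibMap f g) W).obj} (a b : z ⟶ τ), a = b := by
  obtain ⟨b, c, hp⟩ := K906.exists_bc hX hY g W
  refine ⟨⟨b, c⟩, ?_, fun z => ?_, fun {z} α β => ?_⟩
  · have h1 := hp.map (Over.forget S)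
    haveI : IsAffine ((Over.forget S).obj (𝒳.p.obj (K906.FObj.pt W))) := hW
    haveI : IsAffine ((Over.forget S).obj (𝒴.p.obj θ)) := hθ
    haveI : IsAffine ((Over.forget S).obj (𝒴.p.obj w)) := hw
    exact K907.Sec.isAffine_of_isPullback h1
  · obtain ⟨e, he, -⟩ := K906.existsUnique_bc_hom hX hY g hp z.arr
    exact ⟨K906.FObj.mkHom e he⟩
  · refine K906.FObj.hom_ext ?_
    exact (K906.existsUnique_bc_hom hX hY g hp z.arr).unique α.comm β.comm

include g in
/-- Generation over an affine object is stable under base change along arrows of affine objects. -/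
theorem isGenFam_fib_of_arrow (hX : FibCat.IsFibGrpd 𝒳.p) (hY : FibCat.IsFibGrpd 𝒴.p) (hθ : IsAffine (sch 𝒴 θ))
    (hw : IsAffine (sch 𝒴 w)) (P : Nonempty (K906.Pres (K906.fibCat f w))) {ι : Type t} (E : ι → QCoh 𝒳)
    (h : IsGenFam (fun i => (comapQ (K906.fibPt f w)).obj (E i))) :
    IsGenFam (fun i => (comapQ (K906.fibPt f θ)).obj (E i)) := by
  obtain ⟨P⟩ := P
  have hXθ : FibCat.IsFibGrpd (K906.fibCat f θ).p := K906.isFibGrpd_fibCat hX
  have hXw : FibCat.IsFibGrpd (K906.fibCat f w).p := K906.isFibGrpd_fibCat hX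
  have h1 := isGenFam_comapQ (K906.fibMap f g) hXθ hXw (FAtlas.ofPres.{0} P)
    (fun i => (comapQ (K906.fibPt f w)).obj (E i)) h (fun k => by
      obtain ⟨τ, h1, h2, h3⟩ := exists_term f g hX hY hθ hw _ ((FAtlas.ofPres.{0} P).Z k).property
      have h4 := isGenFam_O_of_term (K906.isFibGrpd_fibCat hXθ) h1 h2 h3
      exact (Eqv.isGenFam_congr fun _ => Eqv.nonempty_comapO _).2 h4) (fun W hW => by
      obtain ⟨τ, h1, h2, h3⟩ := exists_term f g hX hY hθ hw W hW
      exact ⟨presOfTerm h1 h2 h3⟩)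
  refine (Eqv.isGenFam_congr fun i => ?_).2 h1
  exact Eqv.nonempty_comapComp (K906.fibPt f w) (K906.fibMap f g) (E i)

end Arrow


end K784.Geo
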