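import Groth.Agent.StMod.K784.FlatFam
import Groth.Agent.StMod.K784.TermGen
import Groth.Agent.StMod.K906.FibRep

/-!
# Generation over the object of a chart
-/

set_option autoImplicit false
set_option linter.style.haveILetI false
set_option linter.dupNamespace false
set_option linter.unusedSectionVars false
set_option backward.isDefEq.respectTransparency false
set_option backward.isDefEq.respectTransparency.types false

open CategoryTheory CategoryTheory.Limits AlgebraicGeometry Opposite StMod

namespace K784.Eqv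

open K735.Fib K735.Fp K906

universe t w'' v'' w' v' w v u

variable {S : Scheme.{u}} {𝒳 : BasedCategory.{v, w} (Over S)} {𝒴 : BasedCategory.{v', w'} (Over S)}

/-- Generation on the category of `𝒳` over the object of a chart `y : T ⟶ 𝒴` from generation on `𝒳 ×_𝒴 T`. -/
theorem isGenFam_fib_of_chart (h𝒳 : FibCat.IsFibGrpd 𝒳.p) (h𝒴 : FibCat.IsFibGrpd 𝒴.p) (f : 𝒳 ⥤ᵇ 𝒴) {T : Over S}
    (y : FibCat.overCat T ⥤ᵇ 𝒴) {ι : Type t} (E : ι → QCoh 𝒳)
    (h : IsGenFam (fun i => (comapQ (FibCat.fpFst f y)).obj (E i))) :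
    IsGenFam (fun i => (comapQ (K906.fibPt f (y.obj (K734.Fib.one T)))).obj (E i)) := by
  have hfp := K735.Fp.isFibGrpd_fp h𝒳 (K735.Fp.isFibGrpd_overCat T) h𝒴 f y
  refine isGenFam_of_equiv (Φ := BasedFunctor.comp (fpSwap f y) (K906.fpToFib y f))
    (IsEquivOver.comp (isEquivOver_fpSwap f y) (K906.isEquivOver_fpToFib y f h𝒴)) (K906.isFibGrpd_fibCat h𝒳) hfp
    ((isGenFam_congr fun i => ?_).1 h)
  exact nonempty_comapComp (K906.fibPt f (y.obj (K734.Fib.one T))) (BasedFunctor.comp (fpSwap f y) (K906.fpToFib y f)) (E i)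

end K784.Eqv
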