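import Groth.Agent.StMod.K784.FibComp
import Groth.Agent.StMod.K906.PresQc
import Groth.Agent.AlgSt.K744.AlgOver

/-!
# Relatively generating families: form with the presentations of the fibres
-/

set_option autoImplicit false
set_option linter.style.haveILetI false
set_option linter.dupNamespace false
set_option linter.unusedSectionVars false
set_option backward.isDefEq.respectTransparency false
set_option backward.isDefEq.respectTransparency.types false

open CategoryTheory CategoryTheory.Limits AlgebraicGeometry Opposite StMod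

namespace K784.Eqv

open K735.Fib K906

universe t w'' v'' w' v' w v u

variable {S : Scheme.{u}}

theorem isRelGenFam_iff {𝒳 : BasedCategory.{v, w} (Over S)} {𝒴 : BasedCategory.{v', w'} (Over S)}
    (h : FibCat.IsFibGrpd 𝒳.p) (π : 𝒳 ⥤ᵇ 𝒴) {ι : Type t} (E : ι → QCoh 𝒳) :
    IsRelGenFam π E ↔ ∀ η : 𝒴.obj, IsAffine (sch 𝒴 η) → IsGenFam (fun i => (comapQ (K906.fibPt π η)).obj (E i)) :=
  forall_congr' fun η => imp_congr_right fun _ => isGenFam_fib_iff π η h E

theorem isFibGrpd_of_alg {𝒳 : AlgSt.Cat S} (h : AlgSt.IsAlgStack Scheme.fppfPrecoverage 𝒳) :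
    FibCat.IsFibGrpd 𝒳.p := h.isStack.1

theorem nonempty_pres {𝒳 𝒴 : AlgSt.Cat S} (h𝒳 : AlgSt.IsAlgStack Scheme.fppfPrecoverage 𝒳)
    (h𝒴 : AlgSt.IsAlgStack Scheme.fppfPrecoverage 𝒴) {f : 𝒳 ⥤ᵇ 𝒴}
    (hqc : AlgSt.IsQuasiCompactMor Scheme.fppfPrecoverage f) (hqs : AlgSt.IsQuasiSeparatedMor f) {η : 𝒴.obj}
    (hη : IsAffine (sch 𝒴 η)) : Nonempty (Pres (K906.fibCat f η)) :=
  K906.nonempty_pres (isFibGrpd_of_alg h𝒳) (isFibGrpd_of_alg h𝒴) K744.AlgOver.isAlgStack_overCat hqc hqs hη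

end K784.Eqv
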