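import Groth.Agent.StMod.K784.BC
import Mathlib.Algebra.Category.Ring.Colimits
import Mathlib.RingTheory.RingHom.FaithfullyFlat

/-!
# Base change of modules: flat and faithfully flat lemmas
-/

set_option autoImplicit false
set_option linter.style.haveILetI false

open TensorProduct CategoryTheory

namespace K784.BC

variable {A B C : Type*} [CommRing A] [CommRing B] [CommRing C]
variable {M N P Q : Type*} [AddCommGroup M] [Module A M] [AddCommGroup N] [Module B N]

/-- base change of a left exact sequence along a flat map. -/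
theorem IsBC.of_exact {φ : A →+* B} (hφ : φ.Flat) {K K' M' P' : Type*} [AddCommGroup K] [Module A K]
    [AddCommGroup P] [Module A P] [AddCommGroup K'] [Module B K'] [AddCommGroup M'] [Module B M']
    [AddCommGroup P'] [Module B P'] (j : K →ₗ[A] M) (hj : Function.Injective j) (g : M →ₗ[A] P)
    (hjg : ∀ m, g m = 0 ↔ ∃ k, j k = m) (j' : K' →ₗ[B] M') (hj' : Function.Injective j') (g' : M' →ₗ[B] P')
    (hjg' : ∀ m, g' m = 0 ↔ ∃ k, j' k = m) {ιK : K →+ K'} {ιM : M →+ M'} {ιP : P →+ P'} (hM : IsBC φ ιM)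
    (hP : IsBC φ ιP) (c1 : ∀ k, j' (ιK k) = ιM (j k)) (c2 : ∀ m, g' (ιM m) = ιP (g m)) : IsBC φ ιK := by
  obtain ⟨hfM, hM⟩ := hM
  obtain ⟨hfP, hP⟩ := hP
  have hfK : ∀ (a : A) (k : K), ιK (a • k) = φ a • ιK k := fun a k => hj' (by
    rw [c1, j.map_smul, hfM, j'.map_smul, c1])
  refine ⟨hfK, ?_⟩
  letI := φ.toAlgebra
  letI : Module A K' := Module.compHom K' φ
  haveI : IsScalarTower A B K' := ⟨fun a b n => mul_smul (φ a) b n⟩
  letI : Module A M' := Module.compHom M' φ
  haveI : IsScalarTower A B M' := ⟨fun a b n => mul_smul (φ a) b n⟩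
  letI : Module A P' := Module.compHom P' φ
  haveI : IsScalarTower A B P' := ⟨fun a b n => mul_smul (φ a) b n⟩
  haveI : Module.Flat A B := hφ
  exact IsBaseChange.of_left_exact (S := B) _ _ _ (f := j) (g := g) (f' := j') (g' := g')
    (LinearMap.ext fun k => (c1 k).symm) (LinearMap.ext fun m => (c2 m).symm) hM hP
    (fun m => hjg m) hj (fun m => hjg' m) hj'

/-- `Hom` out of a finitely presented module commutes with flat base change. -/
theorem IsBC.hom {φ : A →+* B} (hφ : φ.Flat) {E E' M' : Type*} [AddCommGroup E] [Module A E]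
    [Module.FinitePresentation A E] [AddCommGroup E'] [Module B E'] [AddCommGroup M'] [Module B M']
    {ιE : E →+ E'} (hE : IsBC φ ιE) {ιM : M →+ M'} (hM : IsBC φ ιM)
    (ι : (E →ₗ[A] M) →+ (E' →ₗ[B] M')) (hι : ∀ h e, ι h (ιE e) = ιM (h e)) : IsBC φ ι := by
  letI := φ.toAlgebra
  haveI : Module.Flat A B := hφ
  obtain ⟨a, ha⟩ := IsBC.exists_equiv hE (isBC_mk φ E)
  obtain ⟨b, hb⟩ := IsBC.exists_equiv (isBC_mk φ M) hM
  let e : B ⊗[A] (E →ₗ[A] M) ≃ₗ[B] (E' →ₗ[B] M') :=
    (Module.FinitePresentation.isBaseChange_map A E M B).equiv ≪≫ₗ LinearEquiv.arrowCongr a.symm b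
  refine IsBC.of_equiv (isBC_mk φ _) e (fun h => ?_)
  refine hE.hom_ext fun x => ?_
  rw [hι]
  have h1 : (Module.FinitePresentation.isBaseChange_map A E M B).equiv (1 ⊗ₜ h) =
      LinearMap.baseChangeHom A B E M h := by rw [IsBaseChange.equiv_tmul, one_smul]
  have h2 : e (1 ⊗ₜ h) = LinearEquiv.arrowCongr a.symm b (LinearMap.baseChangeHom A B E M h) :=
    congrArg (LinearEquiv.arrowCongr a.symm b) h1
  have h3 : e (1 ⊗ₜ h) (ιE x) = b (LinearMap.baseChangeHom A B E M h (a.symm.symm (ιE x))) := by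
    rw [h2, LinearEquiv.arrowCongr_apply]
  refine h3.trans ?_
  rw [LinearEquiv.symm_symm, ha]
  refine Eq.trans ?_ (hb _)
  exact congrArg b (LinearMap.baseChange_tmul _ _ _)

theorem IsBC.finitePresentation {φ : A →+* B} {f : M →+ N} (h : IsBC φ f) [Module.FinitePresentation A M] :
    Module.FinitePresentation B N := by
  letI := φ.toAlgebra
  obtain ⟨a, -⟩ := IsBC.exists_equiv (isBC_mk φ M) h
  exact Module.FinitePresentation.of_equiv a

/-- pushout of rings: base change of modules along the opposite side. -/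
theorem IsBC.of_isPushout {R R' A B : Type*} [CommRing R] [CommRing R'] [CommRing A] [CommRing B] (ρ : R →+* R')
    (α : R →+* A) (φ : A →+* B) (β : R' →+* B) (sq : φ.comp α = β.comp ρ)
    (po : letI := ρ.toAlgebra; letI := α.toAlgebra; letI := φ.toAlgebra; letI := β.toAlgebra
      letI := (φ.comp α).toAlgebra
      haveI : IsScalarTower R A B := IsScalarTower.of_algebraMap_eq fun _ => rfl
      haveI : IsScalarTower R R' B := IsScalarTower.of_algebraMap_eq fun r => congr($sq r)
      Algebra.IsPushout R R' A B)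
    {M N : Type*} [AddCommGroup M] [AddCommGroup N] [Module A M] [Module R M] [Module B N] [Module R' N]
    (hM : ∀ (r : R) (m : M), r • m = α r • m) (hN : ∀ (r : R') (n : N), r • n = β r • n)
    {f : M →+ N} (hf : IsBC φ f) : IsBC ρ f := by
  letI := ρ.toAlgebra; letI := α.toAlgebra; letI := φ.toAlgebra; letI := β.toAlgebra
  letI := (φ.comp α).toAlgebra
  haveI : IsScalarTower R A B := IsScalarTower.of_algebraMap_eq fun _ => rfl
  haveI : IsScalarTower R R' B := IsScalarTower.of_algebraMap_eq fun r => congr($sq r)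
  haveI : Algebra.IsPushout R R' A B := po
  haveI : IsScalarTower R A M := ⟨fun r a m => by rw [hM, Algebra.smul_def, mul_smul]; rfl⟩
  haveI : IsScalarTower R' B N := ⟨fun r a m => by rw [hN, Algebra.smul_def, mul_smul]; rfl⟩
  obtain ⟨a, ha⟩ := IsBC.exists_equiv (isBC_mk φ M) hf
  let e : (R' ⊗[R] M) ≃ₗ[R'] (B ⊗[A] M) := (Algebra.IsPushout.cancelBaseChange R R' A B M).symm
  refine IsBC.of_equiv (isBC_mk ρ M) (e.trans (a.restrictScalars R')) (fun m => ?_)
  change a (e (1 ⊗ₜ m)) = _
  have : e (1 ⊗ₜ m) = 1 ⊗ₜ m := by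
    change (Algebra.IsPushout.cancelBaseChange R R' A B M).symm (1 ⊗ₜ m) = _
    rw [Algebra.IsPushout.cancelBaseChange_symm_tmul, map_one]
  rw [this]
  exact ha m

theorem IsBC.injective {φ : A →+* B} (hφ : φ.FaithfullyFlat) {f : M →+ N} (h : IsBC φ f) :
    Function.Injective f := by
  letI := φ.toAlgebra
  haveI : Module.FaithfullyFlat A B := hφ
  obtain ⟨a, ha⟩ := IsBC.exists_equiv (isBC_mk φ M) h
  intro x y hxy
  rw [← ha, ← ha] at hxy
  exact Module.FaithfullyFlat.tensorProduct_mk_injective (A := A) (B := B) M (a.injective hxy)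

section

variable [AddCommGroup P] [Module A P] [AddCommGroup Q] [Module B Q]

theorem IsBC.map_injective {φ : A →+* B} (hφ : φ.Flat) {f : M →+ N} (h : IsBC φ f) {f' : P →+ Q}
    (h' : IsBC φ f') (g : M →ₗ[A] P) (g' : N →ₗ[B] Q) (hg : ∀ m, g' (f m) = f' (g m))
    (hgi : Function.Injective g) : Function.Injective g' := by
  letI := φ.toAlgebra
  haveI : Module.Flat A B := hφ
  obtain ⟨a, ha⟩ := IsBC.exists_equiv (isBC_mk φ M) h
  obtain ⟨b, hb⟩ := IsBC.exists_equiv (isBC_mk φ P) h'
  have e : g'.comp a.toLinearMap = b.toLinearMap.comp (g.baseChange B) := by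
    refine (isBC_mk φ M).hom_ext fun x => ?_
    change g' (a ((TensorProduct.mk A B M 1) x)) = b ((g.baseChange B) (1 ⊗ₜ x))
    rw [LinearMap.baseChange_tmul]
    exact (congrArg g' (ha x)).trans ((hg x).trans (hb _).symm)
  have h2 : Function.Injective (g.baseChange B) := Module.Flat.lTensor_preserves_injective_linearMap g hgi
  intro x y hxy
  obtain ⟨x, rfl⟩ := a.surjective x
  obtain ⟨y, rfl⟩ := a.surjective y
  have := (congr($e x)).symm.trans (hxy.trans congr($e y))
  exact congrArg a (h2 (b.injective this))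

theorem IsBC.bijective_of_map_bijective {φ : A →+* B} (hφ : φ.FaithfullyFlat) {f : M →+ N} (h : IsBC φ f)
    {f' : P →+ Q} (h' : IsBC φ f') (g : M →ₗ[A] P) (g' : N →ₗ[B] Q) (hg : ∀ m, g' (f m) = f' (g m))
    (hgb : Function.Bijective g') : Function.Bijective g := by
  letI := φ.toAlgebra
  haveI : Module.FaithfullyFlat A B := hφ
  obtain ⟨a, ha⟩ := IsBC.exists_equiv (isBC_mk φ M) h
  obtain ⟨b, hb⟩ := IsBC.exists_equiv (isBC_mk φ P) h'
  have e : g'.comp a.toLinearMap = b.toLinearMap.comp (g.baseChange B) := by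
    refine (isBC_mk φ M).hom_ext fun x => ?_
    change g' (a ((TensorProduct.mk A B M 1) x)) = b ((g.baseChange B) (1 ⊗ₜ x))
    rw [LinearMap.baseChange_tmul]
    exact (congrArg g' (ha x)).trans ((hg x).trans (hb _).symm)
  rw [← Module.FaithfullyFlat.lTensor_bijective_iff_bijective (R := A) (M := B)]
  have e2 : ⇑(LinearMap.lTensor B g) = b.symm ∘ g' ∘ a := by
    funext x
    change _ = b.symm (g' (a x))
    have := congr($e x)
    change g' (a x) = b (LinearMap.lTensor B g x) at this
    rw [this, b.symm_apply_apply]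
  rw [e2]
  exact b.symm.bijective.comp (hgb.comp a.bijective)

theorem IsBC.map_surjective {φ : A →+* B} {f : M →+ N} (_h : IsBC φ f) {f' : P →+ Q}
    (h' : IsBC φ f') (g : M →ₗ[A] P) (g' : N →ₗ[B] Q) (hg : ∀ m, g' (f m) = f' (g m))
    (hgi : Function.Surjective g) : Function.Surjective g' := by
  rw [← LinearMap.range_eq_top, eq_top_iff, ← h'.span_range, Submodule.span_le]
  rintro _ ⟨x, rfl⟩
  obtain ⟨m, rfl⟩ := hgi x
  exact ⟨f m, hg m⟩

end

/-- a square of base changes: if two opposite sides are base changes along a faithfully flat map and the image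
side is a base change, then so is the other side. -/
theorem isBC_of_ff {A B A' B' : Type*} [CommRing A] [CommRing B] [CommRing A'] [CommRing B']
    {φ : A →+* B} {α : A →+* A'} {β : B →+* B'} {φ' : A' →+* B'} (sq : β.comp φ = φ'.comp α)
    (hβ : β.FaithfullyFlat) {M N M' N' : Type*} [AddCommGroup M] [AddCommGroup N] [AddCommGroup M']
    [AddCommGroup N'] [Module A M] [Module B N] [Module A' M'] [Module B' N'] {f : M →+ N} {f' : M' →+ N'}
    {a : M →+ M'} {b : N →+ N'} (hf : ∀ (x : A) (m : M), f (x • m) = φ x • f m) (ha : IsBC α a) (hb : IsBC β b)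
    (hf' : IsBC φ' f') (c : ∀ m, b (f m) = f' (a m)) : IsBC φ f := by
  letI := φ.toAlgebra
  obtain ⟨g, hg, -⟩ := (isBC_mk φ M).existsUnique_lift f hf
  letI := β.toAlgebra
  have h1 : IsBC (β.comp φ) ((TensorProduct.mk B B' (B ⊗[A] M) 1).toAddMonoidHom.comp
      (TensorProduct.mk A B M 1).toAddMonoidHom) := (isBC_mk φ M).comp (isBC_mk β _)
  have h2 : IsBC (β.comp φ) (f'.comp a) := by
    rw [sq]
    exact ha.comp hf'
  obtain ⟨e, he⟩ := h1.exists_equiv h2
  have h3 : Function.Bijective g := by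
    refine IsBC.bijective_of_map_bijective hβ (isBC_mk β (B ⊗[A] M)) hb g e.toLinearMap (fun m => ?_) e.bijective
    -- both sides semilinear in `m`
    have h4 : ∀ m : B ⊗[A] M, e ((1 : B') ⊗ₜ[B] m) = b (g m) := by
      intro m
      induction m using TensorProduct.induction_on with
      | zero => simp
      | add x y hx hy => rw [TensorProduct.tmul_add, map_add, hx, hy, map_add, map_add]
      | tmul s m =>
        have e1 : s ⊗ₜ[A] m = s • ((1 : B) ⊗ₜ[A] m) := by rw [TensorProduct.smul_tmul', smul_eq_mul, mul_one]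
        have e2 : (1 : B') ⊗ₜ[B] (s ⊗ₜ[A] m) = (β s) • ((1 : B') ⊗ₜ[B] ((1 : B) ⊗ₜ[A] m)) := by
          rw [e1, TensorProduct.tmul_smul, ← algebraMap_smul B']
          rfl
        rw [e2, _root_.map_smul, e1, _root_.map_smul, hb.map_smul]
        congr 1
        refine (he m).trans ?_
        change f' (a m) = b (g ((1 : B) ⊗ₜ[A] m))
        rw [← c]
        exact congrArg b (hg m).symm
    exact h4 m
  exact IsBC.of_equiv (isBC_mk φ M) (LinearEquiv.ofBijective g h3) hg

end K784.BC
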