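import Groth.Agent.StMod.K784.Lift
import Groth.Agent.StMod.K784.ExtQ
import Groth.Agent.StMod.K908.Dense

/-!
# Lifting natural maps to morphisms of quasi-coherent modules

`exists_lift_qcoh`: for `ev : G ⟶ H` as in `exists_qcoh`, natural families of linear maps `Γ(F_z) → H z` come from
morphisms `F ⟶ G`; `eq_zero_of_atlas`: a morphism vanishing on an atlas is zero.
-/

set_option autoImplicit false
set_option linter.style.haveILetI false
set_option linter.dupNamespace false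
set_option linter.unusedSectionVars false
set_option backward.isDefEq.respectTransparency false
set_option backward.isDefEq.respectTransparency.types false

open CategoryTheory CategoryTheory.Limits AlgebraicGeometry Opposite StMod

namespace K784.Geo

open K784.BC K784.PM K784.Tr K908.AMod K908.QHom K908.QSec K907.Sec

universe t w₁ v' w' v w u

variable {S : Scheme.{u}} {𝒴 : BasedCategory.{v, w} (Over S)} (hY : FibCat.IsFibGrpd 𝒴.p)

/-- the linear maps on global sections under a morphism. -/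
noncomputable def gsMap {F G : QCoh 𝒴} (u : F.obj ⟶ G.obj) (z : (Aff 𝒴).obj) :
    (gs F).obj z →ₗ[(fa 𝒴).obj (op z)] (gs G).obj z :=
  (restMap u (ASieve.all 𝒴)).app z

theorem gsMap_apply {F G : QCoh 𝒴} (u : F.obj ⟶ G.obj) (z : (Aff 𝒴).obj) (m : Γ(F.obj.obj z.obj, ⊤)) :
    gsMap u z m = (u.app z.obj).app ⊤ m := rfl

theorem gsMap_nat {F G : QCoh 𝒴} (u : F.obj ⟶ G.obj) {x z : (Aff 𝒴).obj} (φ : x ⟶ z) (m : (gs F).obj z) :
    gsMap u x ((gs F).map φ m) = (gs G).map φ (gsMap u z m) :=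
  (restMap u (ASieve.all 𝒴)).comm φ m

include hY in
theorem exists_lift_qcoh (P : FAtlas.{t} 𝒴) {H : PM.{w₁} (fa 𝒴)} {R : (Aff 𝒴).obj → Prop} (hH : FC R H)
    (hR : ∀ j, R (P.Z j)) {F G : QCoh 𝒴}
    (ev : ∀ z : (Aff 𝒴).obj, R z → (gs G).obj z →ₗ[(fa 𝒴).obj (op z)] H.obj z)
    (hev : ∀ ⦃x z : (Aff 𝒴).obj⦄ (φ : x ⟶ z) (rx : R x) (rz : R z) (m : (gs G).obj z),
      ev x rx ((gs G).map φ m) = H.map φ (ev z rz m))
    (hbij : ∀ (z : (Aff 𝒴).obj) (rz : R z) (j : P.J) (b : z ⟶ P.Z j), Fl (fa 𝒴) b →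
      Function.Bijective (ev z rz))
    (ψ : ∀ z : (Aff 𝒴).obj, R z → (gs F).obj z →ₗ[(fa 𝒴).obj (op z)] H.obj z)
    (hψ : ∀ ⦃x z : (Aff 𝒴).obj⦄ (φ : x ⟶ z) (rx : R x) (rz : R z) (m : (gs F).obj z),
      ψ x rx ((gs F).map φ m) = H.map φ (ψ z rz m)) :
    ∃ t : F.obj ⟶ G.obj, ∀ (z : (Aff 𝒴).obj) (rz : R z) (m : Γ(F.obj.obj z.obj, ⊤)),
      ev z rz ((t.app z.obj).app ⊤ m) = ψ z rz m := by
  haveI := hY
  obtain ⟨τ, h1, h2⟩ := exists_lift (P.atlas hY) hH hR (gs_cart F) (gs_cart G) ev hev hbij ψ hψ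
  let c : P.sieve.cat.obj → (Aff 𝒴).obj := fun z => ⟨z.obj, z.property.1⟩
  have q : ∀ z : P.sieve.cat.obj, Tr.Over P.Z (c z) := fun z => z.property.2.imp fun _ ⟨b⟩ =>
    ⟨ObjectProperty.homMk b⟩
  let t₀ : AHom (rest F.obj P.sieve) (rest G.obj P.sieve) :=
    { app := fun z => τ (c z) (q z)
      comm := fun {x z} φ m => h1 (ObjectProperty.homMk φ.hom : c x ⟶ c z) (q x) (q z) m }
  obtain ⟨t, ht⟩ := K908.Dense.exists_hom P.dense t₀
  refine ⟨t, fun z rz m => ?_⟩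
  obtain ⟨x, f, j, d, hf⟩ := P.cov z
  have ff : FF (fa 𝒴) f := (ff_iff f).2 hf
  have rx : R x := hH.stab f ff.fl rz
  refine hH.injective ff rz ?_
  rw [← hψ f rx rz, ← hev f rx rz, ← h2 x ⟨j, ⟨d⟩⟩ rx]
  refine congrArg (ev x rx) ?_
  have h3 := ht ⟨x.obj, x.property, j, ⟨d.hom⟩⟩ (F.obj.mapTop f.hom m)
  rw [← Mod.mapTop_app] at h3
  exact h3

include hY in
theorem eq_zero_of_atlas (P : FAtlas.{t} 𝒴) {F G : QCoh 𝒴} (t : F.obj ⟶ G.obj)
    (h : ∀ (j : P.J) (m : Γ(F.obj.obj (P.Z j).obj, ⊤)), (t.app (P.Z j).obj).app ⊤ m = 0) : t = 0 := by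
  haveI := hY
  refine K908.Dense.hom_ext P.dense fun ζ x => ?_
  obtain ⟨j, ⟨b⟩⟩ := ζ.property.2
  let z : (Aff 𝒴).obj := ⟨ζ.obj, ζ.property.1⟩
  let b' : z ⟶ P.Z j := ObjectProperty.homMk b
  have e : gsMap t z = 0 :=
    (gs_cart F b').hom_ext fun m => by
      rw [LinearMap.zero_apply, gsMap_nat]
      have h2 : gsMap t (P.Z j) m = 0 := h j m
      rw [h2, map_zero]
  exact congr($e x)

end K784.Geo
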