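import Groth.Agent.StMod.K784.Cor

/-!
# Generating families under equivalences and 2-isomorphisms

`isGenFam_of_comapQ` : `Φ : 𝒴 ⥤ᵇ 𝒳` full and essentially surjective, `Φ^* E` generating ⟹ `E` generating;
`comapIso2` : inverse images along 2-isomorphic functors; `isGenFam_of_iso`; `isGenFam_comapQ_iff` for an equivalence.
-/

set_option autoImplicit false
set_option linter.style.haveILetI false
set_option linter.dupNamespace false
set_option linter.unusedSectionVars false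
set_option backward.isDefEq.respectTransparency false
set_option backward.isDefEq.respectTransparency.types false

open CategoryTheory CategoryTheory.Limits AlgebraicGeometry Opposite StMod

namespace K784.Eqv

open K908.AMod K908.QHom K908.QSec K907.Sec K908.Comap

universe t' t₁ t w'' v'' v' w' v w u

variable {S : Scheme.{u}} {𝒳 : BasedCategory.{v, w} (Over S)} {𝒴 : BasedCategory.{v', w'} (Over S)}
  {𝒵 : BasedCategory.{v'', w''} (Over S)}

theorem isGenFam_of_iso {ι : Type t} {E E' : ι → QCoh 𝒳} (e : ∀ i, E i ≅ E' i) (h : IsGenFam E) : IsGenFam E' := by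
  refine (isGenFam_iff _).2 fun M N u hu => (isGenFam_iff _).1 h u fun i φ => ?_
  have h1 := hu i ((e i).inv.hom ≫ φ)
  have h2 : (e i).hom.hom ≫ (e i).inv.hom = 𝟙 _ := congrArg InducedCategory.Hom.hom (e i).hom_inv_id
  have h3 := congrArg (fun w => (e i).hom.hom ≫ w) h1
  simp only [Category.assoc, reassoc_of% h2, comp_zero] at h3
  exact h3

theorem mapTop_hom_inv (M : Mod 𝒳) {x y : 𝒳.obj} (e : x ≅ y) (m : Γ(M.obj x, ⊤)) :
    M.mapTop e.hom (M.mapTop e.inv m) = m := by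
  rw [← Mod.mapTop_comp, e.hom_inv_id, Mod.mapTop_id]

theorem mapTop_inv_hom (M : Mod 𝒳) {x y : 𝒳.obj} (e : x ≅ y) (m : Γ(M.obj y, ⊤)) :
    M.mapTop e.inv (M.mapTop e.hom m) = m := by
  rw [← Mod.mapTop_comp, e.inv_hom_id, Mod.mapTop_id]

section Full

variable (Φ : 𝒴 ⥤ᵇ 𝒳) (hess : ∀ x : 𝒳.obj, IsAffine (sch 𝒳 x) → ∃ y : 𝒴.obj, Nonempty (Φ.obj y ≅ x))

include hess in
theorem eq_zero_of_comap (hX : FibCat.IsFibGrpd 𝒳.p) {M : Mod 𝒳} {N : QCoh 𝒳} (s : M ⟶ N.obj)
    (h : Mod.comapMap Φ s = 0) : s = 0 := by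
  haveI := hX
  refine hom_ext_of_top (C := ASieve.all 𝒳) K908.Fam.zloc_all fun x m => ?_
  obtain ⟨y, ⟨e⟩⟩ := hess x.obj x.property
  have h1 := ct_app Φ s y (M.mapTop e.hom m)
  rw [h] at h1
  have h2 : ct Φ N.obj y ((s.app (Φ.obj y)).app ⊤ (M.mapTop e.hom m)) = ct Φ N.obj y 0 := by
    rw [map_zero]
    exact h1.symm
  have h3 := (ct Φ N.obj y).injective h2
  rw [← Mod.mapTop_app] at h3
  have h4 := congrArg (N.obj.mapTop e.inv) h3
  rw [mapTop_inv_hom, Mod.mapTop_zero] at h4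
  exact h4

include hess in
theorem exists_of_comap (hX : FibCat.IsFibGrpd 𝒳.p) (hY : FibCat.IsFibGrpd 𝒴.p)
    (hfull : ∀ {y' y : 𝒴.obj} (φ : Φ.obj y' ⟶ Φ.obj y), ∃ ψ, Φ.map ψ = φ) {M N : QCoh 𝒳}
    (t : Mod.comap Φ M.obj ⟶ Mod.comap Φ N.obj) : ∃ s : M.obj ⟶ N.obj, Mod.comapMap Φ s = t := by
  haveI := hX
  haveI := hY
  choose y e₀ using hess
  let e : ∀ (x : 𝒳.obj) (hx : IsAffine (sch 𝒳 x)), Φ.obj (y x hx) ≅ x := fun x hx => (e₀ x hx).some
  let T : ∀ (y : 𝒴.obj), Γ(M.obj.obj (Φ.obj y), ⊤) →+ Γ(N.obj.obj (Φ.obj y), ⊤) := fun y =>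
    ((ct Φ N.obj y).symm.toAddMonoidHom.comp ((t.app y).app ⊤).hom).comp (ct Φ M.obj y).toAddMonoidHom
  have hT : ∀ {y' y : 𝒴.obj} (ψ : y' ⟶ y) (m : Γ(M.obj.obj (Φ.obj y), ⊤)),
      T y' (M.obj.mapTop (Φ.map ψ) m) = N.obj.mapTop (Φ.map ψ) (T y m) := by
    intro y' y ψ m
    change (ct Φ N.obj y').symm ((t.app y').app ⊤ (ct Φ M.obj y' (M.obj.mapTop (Φ.map ψ) m))) =
      N.obj.mapTop (Φ.map ψ) ((ct Φ N.obj y).symm ((t.app y).app ⊤ (ct Φ M.obj y m)))
    rw [← ct_symm_mapTop, ← ct_mapTop]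
    exact congrArg _ (Mod.mapTop_app t ψ (ct Φ M.obj y m)).symm
  have hTs : ∀ (y : 𝒴.obj) (r : Γ(sch 𝒳 (Φ.obj y), ⊤)) (m : Γ(M.obj.obj (Φ.obj y), ⊤)), T y (r • m) = r • T y m := by
    intro y r m
    change (ct Φ N.obj y).symm ((t.app y).app ⊤ (ct Φ M.obj y (r • m))) =
      r • (ct Φ N.obj y).symm ((t.app y).app ⊤ (ct Φ M.obj y m))
    rw [AddEquiv.symm_apply_eq, ct_smul, ct_smul, AddEquiv.apply_symm_apply]
    exact Scheme.Modules.Hom.app_smul (t.app y) _ _
  have hTφ : ∀ {y' y : 𝒴.obj} (φ : Φ.obj y' ⟶ Φ.obj y) (m : Γ(M.obj.obj (Φ.obj y), ⊤)),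
      T y' (M.obj.mapTop φ m) = N.obj.mapTop φ (T y m) := by
    intro y' y φ m
    obtain ⟨ψ, rfl⟩ := hfull φ
    exact hT ψ m
  let s₀ : AHom (rest M.obj (ASieve.all 𝒳)) (rest N.obj (ASieve.all 𝒳)) :=
    { app := fun x =>
        { toFun := fun m => N.obj.mapTop (e x.obj x.property).inv (T _ (M.obj.mapTop (e x.obj x.property).hom m))
          map_add' := fun m m' => by
            refine (congrArg (fun m => N.obj.mapTop (e x.obj x.property).inv (T _ m))
              (Mod.mapTop_add M.obj (e x.obj x.property).hom m m')).trans ?_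
            rw [map_add]
            exact Mod.mapTop_add N.obj _ _ _
          map_smul' := fun r m => by
            refine (congrArg (fun m => N.obj.mapTop (e x.obj x.property).inv (T _ m))
              (Mod.mapTop_smul M.obj (e x.obj x.property).hom r m)).trans ?_
            rw [hTs]
            refine (Mod.mapTop_smul N.obj _ _ _).trans ?_
            refine congrArg (fun r : Γ(sch 𝒳 x.obj, ⊤) => (show Γ(N.obj.obj x.obj, ⊤) from
              r • N.obj.mapTop (e x.obj x.property).inv (T _ (M.obj.mapTop (e x.obj x.property).hom m)))) ?_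
            have h1 : bmap 𝒳 (e x.obj x.property).inv ≫ bmap 𝒳 (e x.obj x.property).hom = 𝟙 _ := by
              rw [← bmap_comp, Iso.inv_hom_id, bmap_id]
            have h2 := congrArg (fun k => k.appTop r) h1
            simp only [Scheme.Hom.comp_appTop, Scheme.Hom.id_appTop] at h2
            exact h2 }
      comm := fun {x' x} φ m => by
        change N.obj.mapTop (e x'.obj x'.property).inv (T _ (M.obj.mapTop (e x'.obj x'.property).hom
          (M.obj.mapTop φ.hom m))) = N.obj.mapTop φ.hom (N.obj.mapTop (e x.obj x.property).inv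
            (T _ (M.obj.mapTop (e x.obj x.property).hom m)))
        have h1 := hTφ ((e x'.obj x'.property).hom ≫ φ.hom ≫ (e x.obj x.property).inv)
          (M.obj.mapTop (e x.obj x.property).hom m)
        rw [← Mod.mapTop_comp] at h1
        simp only [Category.assoc, Iso.inv_hom_id, Category.comp_id] at h1
        rw [← Mod.mapTop_comp, h1, ← Mod.mapTop_comp, ← Mod.mapTop_comp]
        simp }
  refine ⟨homMk K908.Fam.zloc_all s₀, ?_⟩
  have hN : isQCoh 𝒴 (Mod.comap Φ N.obj) := isQCoh_comap N.property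
  refine hom_ext_of_top (C := ASieve.all 𝒴) (G := ⟨Mod.comap Φ N.obj, hN⟩) K908.Fam.zloc_all fun ζ m => ?_
  obtain ⟨m, rfl⟩ := (ct Φ M.obj ζ.obj).surjective m
  refine (ct_app Φ _ ζ.obj m).trans ?_
  have ha : IsAffine (sch 𝒳 (Φ.obj ζ.obj)) := by
    rw [sch_obj_eq]
    exact ζ.property
  have h1 := homMk_app (C := ASieve.all 𝒳) K908.Fam.zloc_all s₀ ⟨Φ.obj ζ.obj, ha⟩ m
  refine (congrArg (ct Φ N.obj ζ.obj) h1).trans ?_
  have h2 : s₀.app ⟨Φ.obj ζ.obj, ha⟩ m = T ζ.obj m := by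
    change N.obj.mapTop (e (Φ.obj ζ.obj) ha).inv (T _ (M.obj.mapTop (e (Φ.obj ζ.obj) ha).hom m)) = _
    rw [hTφ (e (Φ.obj ζ.obj) ha).hom m, mapTop_inv_hom]
  rw [h2]
  exact AddEquiv.apply_symm_apply (ct Φ N.obj ζ.obj) _

include hess in
theorem isGenFam_of_comapQ (hX : FibCat.IsFibGrpd 𝒳.p) (hY : FibCat.IsFibGrpd 𝒴.p)
    (hfull : ∀ {y' y : 𝒴.obj} (φ : Φ.obj y' ⟶ Φ.obj y), ∃ ψ, Φ.map ψ = φ) {ι : Type t} (E : ι → QCoh 𝒳)
    (h : IsGenFam (fun i => (comapQ Φ).obj (E i))) : IsGenFam E := by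
  refine (isGenFam_iff _).2 fun M N u hu => ?_
  have h1 : (comapQ Φ).map u = 0 := by
    refine (isGenFam_iff _).1 h _ fun i φ => ?_
    obtain ⟨s, rfl⟩ := exists_of_comap Φ hess hX hY hfull φ
    have h2 : Mod.comapMap Φ s ≫ Mod.comapMap Φ u.hom = Mod.comapMap Φ (s ≫ u.hom) :=
      ((comapFunctor Φ).map_comp s u.hom).symm
    refine h2.trans ?_
    rw [hu i s]
    exact (comapFunctor Φ).map_zero _ _
  apply InducedCategory.hom_ext
  have h2 : ((comapQ Φ).map u).hom = 0 := by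
    rw [h1]
    rfl
  exact eq_zero_of_comap Φ hess hX u.hom h2

end Full

end K784.Eqv
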