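import Groth.Agent.StMod.K784.Eqv

/-!
# Inverse images along 2-isomorphic functors, generating families under equivalences over `(Sch/S)`
-/

set_option autoImplicit false
set_option linter.style.haveILetI false
set_option linter.dupNamespace false
set_option linter.unusedSectionVars false
set_option backward.isDefEq.respectTransparency false
set_option backward.isDefEq.respectTransparency.types false

open CategoryTheory CategoryTheory.Limits AlgebraicGeometry Opposite StMod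

namespace K784.Eqv

open K908.AMod K908.QHom K908.QSec K907.Sec K908.Comap K735.Fib

universe t' t₁ t w'' v'' v' w' v w u

variable {S : Scheme.{u}} {𝒳 : BasedCategory.{v, w} (Over S)} {𝒴 : BasedCategory.{v', w'} (Over S)}
  {𝒵 : BasedCategory.{v'', w''} (Over S)}

section Two

variable {f g : 𝒴 ⥤ᵇ 𝒳} (α : ∀ y : 𝒴.obj, g.obj y ⟶ f.obj y) (hv : ∀ y, Vert 𝒳.p (α y))
  (nat : ∀ {y' y : 𝒴.obj} (φ : y' ⟶ y), α y' ≫ f.map φ = g.map φ ≫ α y)

include hv in
theorem eqToHom_bmap (y : 𝒴.obj) : eqToHom (sch_obj_eq g y).symm ≫ bmap 𝒳 (α y) = eqToHom (sch_obj_eq f y).symm := by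
  have h1 := congrArg (fun k => k.left) (hv y).map_eq
  rw [Over.eqToHom_left] at h1
  change eqToHom _ ≫ (𝒳.p.map (α y)).left = _
  rw [h1, eqToHom_trans]

include hv nat in
/-- the morphism of inverse images defined by a 2-morphism. -/
theorem exists_comapHom (hY : FibCat.IsFibGrpd 𝒴.p) (M : QCoh 𝒳) :
    ∃ s : Mod.comap f M.obj ⟶ Mod.comap g M.obj, ∀ (y : (ASieve.all 𝒴).cat.obj) (m : Γ(M.obj.obj (f.obj y.obj), ⊤)),
      (s.app y.obj).app ⊤ (ct f M.obj y.obj m) = ct g M.obj y.obj (M.obj.mapTop (α y.obj) m) := by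
  haveI := hY
  let s₀ : AHom (rest (Mod.comap f M.obj) (ASieve.all 𝒴)) (rest (Mod.comap g M.obj) (ASieve.all 𝒴)) :=
    { app := fun y =>
        { toFun := fun m => ct g M.obj y.obj (M.obj.mapTop (α y.obj) ((ct f M.obj y.obj).symm m))
          map_add' := fun m m' => by
            rw [map_add, Mod.mapTop_add, map_add]
          map_smul' := fun r m => by
            obtain ⟨r', hr'⟩ := (appTop_bijective f y.obj).2 r
            obtain ⟨m, rfl⟩ := (ct f M.obj y.obj).surjective m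
            have h1 : (ct f M.obj y.obj).symm (r • ct f M.obj y.obj m) = r' • m := by
              rw [AddEquiv.symm_apply_eq, ct_smul]
              exact congrArg (fun r => r • ct f M.obj y.obj m) hr'.symm
            rw [AddEquiv.symm_apply_apply]
            refine (congrArg (fun m => ct g M.obj y.obj (M.obj.mapTop (α y.obj) m)) h1).trans ?_
            rw [Mod.mapTop_smul, ct_smul]
            refine congrArg (fun r : Γ(sch 𝒴 y.obj, ⊤) => (show Γ((Mod.comap g M.obj).obj y.obj, ⊤) from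
              r • ct g M.obj y.obj (M.obj.mapTop (α y.obj) m))) ?_
            refine Eq.trans ?_ hr'
            have h2 := congrArg (fun k => k.appTop r') (eqToHom_bmap α hv y.obj)
            simp only [Scheme.Hom.comp_appTop] at h2
            exact h2 }
      comm := fun {y' y} φ m => by
        change ct g M.obj y'.obj (M.obj.mapTop (α y'.obj) ((ct f M.obj y'.obj).symm
          ((Mod.comap f M.obj).mapTop φ.hom m))) = (Mod.comap g M.obj).mapTop φ.hom (ct g M.obj y.obj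
            (M.obj.mapTop (α y.obj) ((ct f M.obj y.obj).symm m)))
        rw [ct_symm_mapTop, ct_mapTop, ← Mod.mapTop_comp, ← Mod.mapTop_comp, nat] }
  refine ⟨homMk (F := (comapQ f).obj M) (G := (comapQ g).obj M) K908.Fam.zloc_all s₀, fun y m => ?_⟩
  refine (homMk_app (C := ASieve.all 𝒴) (F := (comapQ f).obj M) (G := (comapQ g).obj M) K908.Fam.zloc_all s₀ y
    (ct f M.obj y.obj m)).trans ?_
  change ct g M.obj y.obj (M.obj.mapTop (α y.obj) ((ct f M.obj y.obj).symm (ct f M.obj y.obj m))) = _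
  rw [AddEquiv.symm_apply_apply]

end Two

/-- Inverse images along 2-isomorphic functors are isomorphic. -/
theorem nonempty_comapIso {f g : 𝒴 ⥤ᵇ 𝒳} (e : f ≅ g) (hY : FibCat.IsFibGrpd 𝒴.p) (M : QCoh 𝒳) :
    Nonempty ((comapQ f).obj M ≅ (comapQ g).obj M) := by
  haveI := hY
  obtain ⟨s, hs⟩ := exists_comapHom (f := f) (g := g) (fun y => (isoApp e y).inv) (fun y => (vert_isoApp e y).iso_inv)
    (fun φ => (isoApp_inv_nat e φ).symm) hY M
  obtain ⟨t, ht⟩ := exists_comapHom (f := g) (g := f) (fun y => (isoApp e y).hom) (fun y => vert_isoApp e y)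
    (fun φ => (isoApp_nat e φ).symm) hY M
  refine ⟨⟨ObjectProperty.homMk s, ObjectProperty.homMk t, ?_, ?_⟩⟩
  · apply InducedCategory.hom_ext
    refine hom_ext_of_top (C := ASieve.all 𝒴) (G := (comapQ f).obj M) K908.Fam.zloc_all fun y m => ?_
    obtain ⟨m, rfl⟩ := (ct f M.obj y.obj).surjective m
    refine (congrArg ((t.app y.obj).app ⊤) (hs y m)).trans ?_
    refine (ht y _).trans ?_
    rw [mapTop_hom_inv]
    rfl
  · apply InducedCategory.hom_ext
    refine hom_ext_of_top (C := ASieve.all 𝒴) (G := (comapQ g).obj M) K908.Fam.zloc_all fun y m => ?_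
    obtain ⟨m, rfl⟩ := (ct g M.obj y.obj).surjective m
    refine (congrArg ((s.app y.obj).app ⊤) (ht y m)).trans ?_
    refine (hs y _).trans ?_
    rw [mapTop_inv_hom]
    rfl

theorem nonempty_comapComp (f : 𝒴 ⥤ᵇ 𝒳) (g : 𝒵 ⥤ᵇ 𝒴) (M : QCoh 𝒳) :
    Nonempty ((comapQ (BasedFunctor.comp g f)).obj M ≅ (comapQ g).obj ((comapQ f).obj M)) :=
  ⟨(isQCoh 𝒵).isoMk (comapCompIso f g M.obj)⟩

theorem nonempty_comapO (f : 𝒴 ⥤ᵇ 𝒳) : Nonempty ((comapQ f).obj (OQ 𝒳) ≅ OQ 𝒴) :=
  ⟨(isQCoh 𝒴).isoMk (comapOIso f)⟩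

theorem nonempty_comapId (M : QCoh 𝒳) : Nonempty ((comapQ (BasedFunctor.id 𝒳)).obj M ≅ M) :=
  ⟨(isQCoh 𝒳).isoMk (comapIdIso M.obj)⟩

/-- isomorphic members. -/
theorem isGenFam_congr {ι : Type t} {E E' : ι → QCoh 𝒳} (e : ∀ i, Nonempty (E i ≅ E' i)) : IsGenFam E ↔ IsGenFam E' :=
  ⟨isGenFam_of_iso fun i => (e i).some, isGenFam_of_iso fun i => (e i).some.symm⟩

theorem isGenFam_of_equiv {Φ : 𝒴 ⥤ᵇ 𝒳} (hΦ : FibCat.IsEquivOver Φ) (hX : FibCat.IsFibGrpd 𝒳.p)
    (hY : FibCat.IsFibGrpd 𝒴.p) {ι : Type t} {E : ι → QCoh 𝒳} (h : IsGenFam (fun i => (comapQ Φ).obj (E i))) :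
    IsGenFam E := by
  refine isGenFam_of_comapQ Φ (fun x _ => ?_) hX hY (fun φ => IsEquivOver.full hΦ φ) E h
  obtain ⟨y, e, -⟩ := IsEquivOver.essSurj hΦ x
  exact ⟨y, ⟨e⟩⟩

/-- Generating families under an equivalence over `(Sch/S)`. -/
theorem isGenFam_comapQ_iff {Φ : 𝒴 ⥤ᵇ 𝒳} (hΦ : FibCat.IsEquivOver Φ) (hX : FibCat.IsFibGrpd 𝒳.p)
    (hY : FibCat.IsFibGrpd 𝒴.p) {ι : Type t} (E : ι → QCoh 𝒳) :
    IsGenFam (fun i => (comapQ Φ).obj (E i)) ↔ IsGenFam E := by
  refine ⟨isGenFam_of_equiv hΦ hX hY, fun h => ?_⟩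
  obtain ⟨G, hG, -, ⟨b⟩⟩ := IsEquivOver.exists_inv hΦ
  refine isGenFam_of_equiv hG hY hX ?_
  refine (isGenFam_congr fun i => ?_).2 h
  obtain ⟨e1⟩ := nonempty_comapComp Φ G (E i)
  obtain ⟨e2⟩ := nonempty_comapIso b hX (E i)
  obtain ⟨e3⟩ := nonempty_comapId (E i)
  exact ⟨e1.symm ≪≫ e2 ≪≫ e3⟩

end K784.Eqv
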