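import Groth.Agent.StMod.K906.Pres
import Groth.Agent.AlgSt.K735.Fib
import Groth.Prelude.Def_StMod6

/-!
# Affine presentations under equivalences over `(Sch/S)`
-/

set_option autoImplicit false
set_option linter.style.haveILetI false
set_option linter.dupNamespace false
set_option linter.unusedSectionVars false
set_option backward.isDefEq.respectTransparency false
set_option backward.isDefEq.respectTransparency.types false

open CategoryTheory CategoryTheory.Limits AlgebraicGeometry Opposite StMod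

namespace K784.Eqv

open K906 K906.Span K735.Fib

universe v' w' v w u

variable {S : Scheme.{u}} {𝒳 : BasedCategory.{v, w} (Over S)} {𝒴 : BasedCategory.{v', w'} (Over S)}

theorem bmap_map_eq (f : 𝒴 ⥤ᵇ 𝒳) {y' y : 𝒴.obj} (φ : y' ⟶ y) :
    bmap 𝒳 (f.map φ) = eqToHom (sch_obj_eq f y') ≫ bmap 𝒴 φ ≫ eqToHom (sch_obj_eq f y).symm := by
  have h := bmap_map_comm f φ rfl
  rw [← Category.assoc, ← h, Category.assoc, eqToHom_trans, eqToHom_refl, Category.comp_id]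

theorem prop_bmap_map (P : MorphismProperty Scheme.{u}) [P.RespectsIso] (f : 𝒴 ⥤ᵇ 𝒳) {y' y : 𝒴.obj} (φ : y' ⟶ y)
    (h : P (bmap 𝒴 φ)) : P (bmap 𝒳 (f.map φ)) := by
  rw [bmap_map_eq]
  exact (MorphismProperty.cancel_left_of_respectsIso P _ _).2
    ((MorphismProperty.cancel_right_of_respectsIso P _ _).2 h)

instance isIso_bmap {x y : 𝒳.obj} (e : x ⟶ y) [IsIso e] : IsIso (bmap 𝒳 e) := by
  have : IsIso ((Over.forget S).map (𝒳.p.map e)) := inferInstance
  exact this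

theorem prop_bmap_comp_iso (P : MorphismProperty Scheme.{u}) [P.RespectsIso] {x y z : 𝒳.obj} (φ : x ⟶ y) (e : y ⟶ z)
    [IsIso e] (h : P (bmap 𝒳 φ)) : P (bmap 𝒳 (φ ≫ e)) := by
  rw [bmap_comp]
  exact (MorphismProperty.cancel_right_of_respectsIso P _ _).2 h

/-- Affine presentations transport along equivalences over `(Sch/S)`. -/
theorem nonempty_pres_of_equiv {Ψ : 𝒴 ⥤ᵇ 𝒳} (hΨ : FibCat.IsEquivOver Ψ) (P : Pres 𝒴) : Nonempty (Pres 𝒳) := by
  have aff : ∀ {y : 𝒴.obj}, IsAffine (sch 𝒴 y) → IsAffine (sch 𝒳 (Ψ.obj y)) := fun {y} h => by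
    rw [sch_obj_eq]
    exact h
  have faith : ∀ {a b : 𝒴.obj} {φ ψ : a ⟶ b}, Ψ.map φ = Ψ.map ψ → φ = ψ := fun h => IsEquivOver.faithful hΨ h
  have full : ∀ {a b : 𝒴.obj} (φ : Ψ.obj a ⟶ Ψ.obj b), ∃ ψ : a ⟶ b, Ψ.map ψ = φ := fun φ =>
    IsEquivOver.full hΨ φ
  have ess : ∀ x : 𝒳.obj, ∃ y : 𝒴.obj, Nonempty (Ψ.obj y ≅ x) := fun x => by
    obtain ⟨y, e, -⟩ := IsEquivOver.essSurj hΨ x
    exact ⟨y, ⟨e⟩⟩
  refine ⟨{ ζ := Ψ.obj P.ζ
            ρ := Ψ.obj P.ρ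
            s := Ψ.map P.s
            t := Ψ.map P.t
            affζ := aff P.affζ
            affρ := aff P.affρ
            span := ?_
            smooth_s := prop_bmap_map @Smooth Ψ P.s P.smooth_s
            smooth_t := prop_bmap_map @Smooth Ψ P.t P.smooth_t
            cov := ?_
            lift := ?_ }⟩
  · intro χ x y
    obtain ⟨χ', ⟨e⟩⟩ := ess χ
    obtain ⟨x', hx⟩ := full (e.hom ≫ x)
    obtain ⟨y', hy⟩ := full (e.hom ≫ y)
    obtain ⟨π, k, l, hf, hl⟩ := P.span x' y'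
    refine ⟨Ψ.obj π, Ψ.map k, Ψ.map l ≫ e.hom, ⟨?_, ?_, ?_⟩, ?_⟩
    · rw [Category.assoc, ← hx, ← Functor.map_comp, ← Functor.map_comp, hf.wl]
    · rw [Category.assoc, ← hy, ← Functor.map_comp, ← Functor.map_comp, hf.wr]
    · intro ρ k' l' h1 h2
      obtain ⟨ρ', ⟨e'⟩⟩ := ess ρ
      obtain ⟨k'', hk⟩ := full (e'.hom ≫ k')
      obtain ⟨l'', hl'⟩ := full (e'.hom ≫ l' ≫ e.inv)
      obtain ⟨u, ⟨hu1, hu2⟩, huu⟩ := hf.univ k'' l'' (faith (by
        rw [Functor.map_comp, Functor.map_comp, hk, hl', hx, Category.assoc, h1]; simp)) (faith (by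
        rw [Functor.map_comp, Functor.map_comp, hk, hl', hy, Category.assoc, h2]; simp))
      refine ⟨e'.inv ≫ Ψ.map u, ⟨?_, ?_⟩, ?_⟩
      · rw [Category.assoc, ← Functor.map_comp, hu1, hk, Iso.inv_hom_id_assoc]
      · rw [Category.assoc, ← Category.assoc (Ψ.map u), ← Functor.map_comp, hu2, hl']
        simp
      · rintro v ⟨hv1, hv2⟩
        obtain ⟨v', hv'⟩ := full (e'.hom ≫ v)
        have h3 : v' = u := huu v' ⟨faith (by rw [Functor.map_comp, hv', hk, Category.assoc, hv1]), faith (by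
          rw [Functor.map_comp, hv', hl', ← hv2]; simp)⟩
        rw [← h3, hv', Iso.inv_hom_id_assoc]
    · exact prop_bmap_comp_iso @Etale _ _ (prop_bmap_map @Etale Ψ l hl)
  · intro z hz
    obtain ⟨z₁, ⟨e⟩⟩ := ess z
    have hz₁ : IsAffine (sch 𝒴 z₁) := by
      have : IsAffine (sch 𝒳 (Ψ.obj z₁)) := IsAffine.of_isIso (bmap 𝒳 e.hom)
      rw [sch_obj_eq] at this
      exact this
    obtain ⟨z', f, d, h1, h2, h3⟩ := P.cov z₁ hz₁
    exact ⟨Ψ.obj z', Ψ.map f ≫ e.hom, Ψ.map d, aff h1, prop_bmap_comp_iso @Smooth _ _ (prop_bmap_map @Smooth Ψ f h2),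
      prop_bmap_comp_iso @Surjective _ _ (prop_bmap_map @Surjective Ψ f h3)⟩
  · intro z a b hz
    obtain ⟨z₁, ⟨e⟩⟩ := ess z
    have hz₁ : IsAffine (sch 𝒴 z₁) := by
      have : IsAffine (sch 𝒳 (Ψ.obj z₁)) := IsAffine.of_isIso (bmap 𝒳 e.hom)
      rw [sch_obj_eq] at this
      exact this
    obtain ⟨a', ha⟩ := full (e.hom ≫ a)
    obtain ⟨b', hb⟩ := full (e.hom ≫ b)
    obtain ⟨z', f, d, h1, h2, h3, h4, h5⟩ := P.lift z₁ a' b' hz₁
    refine ⟨Ψ.obj z', Ψ.map f ≫ e.hom, Ψ.map d, aff h1, prop_bmap_comp_iso @Etale _ _ (prop_bmap_map @Etale Ψ f h2),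
      prop_bmap_comp_iso @Surjective _ _ (prop_bmap_map @Surjective Ψ f h3), ?_, ?_⟩
    · rw [← Functor.map_comp, h4, Functor.map_comp, ha, Category.assoc]
    · rw [← Functor.map_comp, h5, Functor.map_comp, hb, Category.assoc]

end K784.Eqv
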