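import Groth.Agent.StMod.K784.Eqv2
import Groth.Agent.StMod.K784.PresEqv

/-!
# The categories over an object, for a composite of functors

`isGenFam_fib_iff` : `StMod.fibCat` and `K906.fibCat`; `fibComp f g η : fibCat (f ⋙ g) η ⥤ᵇ fibCat g η` and
`isEquivOver_fibRel : fibCat f w.pt ≌ fibCat (fibComp f g η) w`; `isGenFam_comp_comapQ`, `isGenFam_comp`.
-/

set_option autoImplicit false
set_option linter.style.haveILetI false
set_option linter.dupNamespace false
set_option linter.unusedSectionVars false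
set_option backward.isDefEq.respectTransparency false
set_option backward.isDefEq.respectTransparency.types false

open CategoryTheory CategoryTheory.Limits AlgebraicGeometry Opposite StMod

namespace K784.Eqv

open K735.Fib K906

universe t' t₁ t w'' v'' v' w' v w u

variable {S : Scheme.{u}} {𝒳 : BasedCategory.{v, w} (Over S)} {𝒴 : BasedCategory.{v', w'} (Over S)}
  {𝒵 : BasedCategory.{v'', w''} (Over S)}

section One

variable (π : 𝒳 ⥤ᵇ 𝒴) (η : 𝒴.obj)

/-- the comparison between the two forms of the category over an object. -/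
def toK : StMod.fibCat π η ⥤ᵇ K906.fibCat π η where
  toFunctor :=
    { obj := fun x => ⟨x.left, x.hom⟩
      map := fun φ => FObj.mkHom φ.left (CostructuredArrow.w φ) }
  w := rfl

theorem isEquivOver_toK : FibCat.IsEquivOver (toK π η) := by
  refine isEquivOver_of ?_ ?_ ?_
  · intro a b φ ψ h
    exact CostructuredArrow.hom_ext _ _ (congrArg FObj.Hom.hom h)
  · intro a b φ
    exact ⟨CostructuredArrow.homMk φ.hom φ.comm, rfl⟩
  · intro y
    exact ⟨CostructuredArrow.mk y.arr, Iso.refl _, vert_id _⟩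

theorem isFibGrpd_stFib (h : FibCat.IsFibGrpd 𝒳.p) : FibCat.IsFibGrpd (StMod.fibCat π η).p := by
  obtain ⟨G, hG, -, -⟩ := IsEquivOver.exists_inv (isEquivOver_toK π η)
  exact isFibGrpd_of_isEquivOver hG (isFibGrpd_fibCat h)

theorem isGenFam_fib_iff (h : FibCat.IsFibGrpd 𝒳.p) {ι : Type t} (E : ι → QCoh 𝒳) :
    IsGenFam (fun i => (comapQ (StMod.fibFst π η)).obj (E i)) ↔
      IsGenFam (fun i => (comapQ (K906.fibPt π η)).obj (E i)) := by
  refine Iff.trans ?_ (isGenFam_comapQ_iff (isEquivOver_toK π η) (isFibGrpd_fibCat h) (isFibGrpd_stFib π η h) _)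
  refine isGenFam_congr fun i => ?_
  obtain ⟨e1⟩ := nonempty_comapComp (K906.fibPt π η) (toK π η) (E i)
  exact ⟨e1⟩

end One

section Two

variable (f : 𝒳 ⥤ᵇ 𝒴) (g : 𝒴 ⥤ᵇ 𝒵) (η : 𝒵.obj)

/-- the functor induced by `f` on the categories over `η`. -/
def fibComp : K906.fibCat (BasedFunctor.comp f g) η ⥤ᵇ K906.fibCat g η where
  toFunctor :=
    { obj := fun x => ⟨f.obj x.pt, x.arr⟩
      map := fun φ => FObj.mkHom (f.map φ.hom) φ.comm
      map_id := fun x => FObj.hom_ext (f.toFunctor.map_id x.pt)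
      map_comp := fun φ ψ => FObj.hom_ext (f.toFunctor.map_comp φ.hom ψ.hom) }
  w := by
    change FObj.forgetPt (BasedFunctor.comp f g) η ⋙ (f.toFunctor ⋙ 𝒴.p) = _
    rw [f.w]

/-- the comparison between the categories over an object of `𝒴` and over an object of `fibCat g η`. -/
def fibRel (w : (K906.fibCat g η).obj) : K906.fibCat f (FObj.pt w) ⥤ᵇ K906.fibCat (fibComp f g η) w where
  toFunctor :=
    { obj := fun x => ⟨⟨x.pt, g.map x.arr ≫ FObj.arr w⟩, FObj.mkHom x.arr rfl⟩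
      map := fun {x y} φ => FObj.mkHom (FObj.mkHom φ.hom (by
        change g.map (f.map φ.hom) ≫ g.map y.arr ≫ FObj.arr w = g.map x.arr ≫ FObj.arr w
        rw [← Category.assoc, ← Functor.map_comp, φ.comm])) (FObj.hom_ext φ.comm) }
  w := rfl

theorem isEquivOver_fibRel (w : (K906.fibCat g η).obj) : FibCat.IsEquivOver (fibRel f g η w) := by
  refine isEquivOver_of ?_ ?_ ?_
  · intro a b φ ψ h
    exact FObj.hom_ext (congrArg (fun k => FObj.Hom.hom (FObj.Hom.hom k)) h)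
  · intro a b φ
    exact ⟨FObj.mkHom φ.hom.hom (congrArg FObj.Hom.hom φ.comm), rfl⟩
  · rintro ⟨⟨x, α⟩, ⟨b, hb⟩⟩
    have key : ∀ (b : f.obj x ⟶ FObj.pt w) (hb : g.map b ≫ FObj.arr w = α),
        ∃ (a : (K906.fibCat f (FObj.pt w)).obj) (e : (fibRel f g η w).obj a ≅
          (⟨⟨x, α⟩, FObj.mkHom b hb⟩ : FObj (fibComp f g η) w)),
          Vert (K906.fibCat (fibComp f g η) w).p e.hom := by
      intro b₁ hb₁
      subst hb₁
      exact ⟨⟨x, b₁⟩, Iso.refl ((fibRel f g η w).obj ⟨x, b₁⟩), vert_id ((fibRel f g η w).obj ⟨x, b₁⟩)⟩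
    exact key b hb

variable {f g η}

theorem nonempty_pres_fibComp {w : (K906.fibCat g η).obj} (h : Nonempty (Pres (K906.fibCat f (FObj.pt w)))) :
    Nonempty (Pres (K906.fibCat (fibComp f g η) w)) := by
  obtain ⟨P⟩ := h
  exact nonempty_pres_of_equiv (isEquivOver_fibRel f g η w) P

theorem isGenFam_fibComp (h𝒳 : FibCat.IsFibGrpd 𝒳.p) {w : (K906.fibCat g η).obj} {ι : Type t} {E : ι → QCoh 𝒳}
    (h : IsGenFam (fun i => (comapQ (K906.fibPt f (FObj.pt w))).obj (E i))) :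
    IsGenFam (fun i => (comapQ (K906.fibPt (fibComp f g η) w)).obj ((comapQ (K906.fibPt _ η)).obj (E i))) := by
  refine isGenFam_of_equiv (isEquivOver_fibRel f g η w) (isFibGrpd_fibCat (isFibGrpd_fibCat h𝒳))
    (isFibGrpd_fibCat h𝒳) ?_
  refine (isGenFam_congr fun i => ?_).1 h
  obtain ⟨e1⟩ := nonempty_comapComp (K906.fibPt (fibComp f g η) w) (fibRel f g η w)
    ((comapQ (K906.fibPt (BasedFunctor.comp f g) η)).obj (E i))
  obtain ⟨e2⟩ := nonempty_comapComp (K906.fibPt (BasedFunctor.comp f g) η)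
    (BasedFunctor.comp (fibRel f g η w) (K906.fibPt (fibComp f g η) w)) (E i)
  exact ⟨e2 ≪≫ e1⟩

theorem isGenFam_comp_comapQ (h𝒳 : FibCat.IsFibGrpd 𝒳.p) (h𝒴 : FibCat.IsFibGrpd 𝒴.p)
    (Pf : ∀ y : 𝒴.obj, IsAffine (sch 𝒴 y) → Nonempty (Pres (K906.fibCat f y)))
    (Pg : Nonempty (Pres (K906.fibCat g η))) {ι : Type t} (F : ι → QCoh 𝒴)
    (hO : ∀ y : 𝒴.obj, IsAffine (sch 𝒴 y) →
      IsGenFam (fun _ : PUnit.{u + 1} => (comapQ (K906.fibPt f y)).obj (OQ 𝒳)))
    (hF : IsGenFam (fun j => (comapQ (K906.fibPt g η)).obj (F j))) :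
    IsGenFam (fun j => (comapQ (K906.fibPt (BasedFunctor.comp f g) η)).obj ((comapQ f).obj (F j))) := by
  obtain ⟨Q⟩ := Pg
  have h := Geo.isGenFam_comapQ (fibComp f g η) (isFibGrpd_fibCat h𝒳) (isFibGrpd_fibCat h𝒴) (Geo.FAtlas.ofPres.{0, _, _, _} Q)
    (fun j => (comapQ (K906.fibPt g η)).obj (F j)) hF (fun k => ?_) (fun w hw => nonempty_pres_fibComp (Pf _ hw))
  · refine (isGenFam_congr fun j => ?_).1 h
    obtain ⟨e1⟩ := nonempty_comapComp (K906.fibPt g η) (fibComp f g η) (F j)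
    obtain ⟨e2⟩ := nonempty_comapComp f (K906.fibPt (BasedFunctor.comp f g) η) (F j)
    exact ⟨e1.symm ≪≫ e2⟩
  · refine (isGenFam_congr fun j => ?_).1 (isGenFam_fibComp (η := η) h𝒳 (w := Q.ζ) (hO (FObj.pt Q.ζ) Q.affζ))
    obtain ⟨e1⟩ := nonempty_comapO (K906.fibPt (BasedFunctor.comp f g) η)
    exact ⟨(comapQ (K906.fibPt (fibComp f g η) Q.ζ)).mapIso e1⟩

theorem isGenFam_comp (h𝒳 : FibCat.IsFibGrpd 𝒳.p) (h𝒴 : FibCat.IsFibGrpd 𝒴.p)
    (Pf : ∀ y : 𝒴.obj, IsAffine (sch 𝒴 y) → Nonempty (Pres (K906.fibCat f y)))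
    (Pg : Nonempty (Pres (K906.fibCat g η))) {ι : Type t} (E : ι → QCoh 𝒳) (hE : ∀ i, (E i).obj.IsFinPres)
    (hE' : ∀ y : 𝒴.obj, IsAffine (sch 𝒴 y) → IsGenFam (fun i => (comapQ (K906.fibPt f y)).obj (E i)))
    (hO : IsGenFam (fun _ : PUnit.{u + 1} => (comapQ (K906.fibPt g η)).obj (OQ 𝒴))) :
    IsGenFam (fun i => (comapQ (K906.fibPt (BasedFunctor.comp f g) η)).obj (E i)) := by
  obtain ⟨Q⟩ := Pg
  refine Geo.isGenFam_of_rel (fibComp f g η) (isFibGrpd_fibCat h𝒳) (isFibGrpd_fibCat h𝒴) (Geo.FAtlas.ofPres.{0, _, _, _} Q)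
    (fun i => (comapQ (K906.fibPt (BasedFunctor.comp f g) η)).obj (E i)) (fun i x => hE i x.pt) ?_ (fun k => ?_)
    (fun w hw => nonempty_pres_fibComp (Pf _ hw))
  · refine (isGenFam_congr fun j => ?_).1 hO
    exact nonempty_comapO (K906.fibPt g η)
  · exact isGenFam_fibComp (η := η) h𝒳 (w := Q.ζ) (hE' (FObj.pt Q.ζ) Q.affζ)

end Two

end K784.Eqv
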