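import Groth.Agent.StMod.K784.FibComp
import Groth.Agent.AlgSt.K735.Fp

/-!
# The functor `fibCat f y₀ ⥤ᵇ fibCat (f ⋙ g) (g y₀)` and the diagonal of `g`

`fibPush f g y₀`, and `exists_equiv_diag`: the category of `fibCat f y₀` over an object `w` of `fibCat (f ⋙ g) (g y₀)` is
equivalent to the category of `𝒴` over an object of `𝒴 ×_𝒵 𝒴` along the diagonal of `g`.
-/

set_option autoImplicit false
set_option linter.style.haveILetI false
set_option linter.dupNamespace false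
set_option linter.unusedSectionVars false
set_option backward.isDefEq.respectTransparency false
set_option backward.isDefEq.respectTransparency.types false

open CategoryTheory CategoryTheory.Limits AlgebraicGeometry Opposite StMod

namespace K784.Eqv

open K735.Fib K735.Fp K906

universe t' t₁ t w'' v'' v' w' v w u

variable {S : Scheme.{u}} {𝒳 : BasedCategory.{v, w} (Over S)} {𝒴 : BasedCategory.{v', w'} (Over S)}
  {𝒵 : BasedCategory.{v'', w''} (Over S)}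

/-- Lifting of arrows. -/
theorem existsUnique_lift (h𝒳 : FibCat.IsFibGrpd 𝒳.p) (h𝒴 : FibCat.IsFibGrpd 𝒴.p) (f : 𝒳 ⥤ᵇ 𝒴)
    {θ y z : 𝒳.obj} (φ : y ⟶ z) (β : θ ⟶ z) (γ : f.obj θ ⟶ f.obj y) (hγ : γ ≫ f.map φ = f.map β) :
    ∃! χ : θ ⟶ y, χ ≫ φ = β ∧ f.map χ = γ := by
  have h1 := congrArg (fun k => 𝒴.p.map k) hγ
  rw [Functor.map_comp, map_map, map_map] at h1
  obtain ⟨χ, ⟨h2, h3⟩, -⟩ := Grpd.existsUnique_hom h𝒳 φ β
    (eqToHom (f.w_obj θ).symm ≫ 𝒴.p.map γ ≫ eqToHom (f.w_obj y)) (by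
      have h4 := congrArg (fun k => eqToHom (f.w_obj θ).symm ≫ k ≫ eqToHom (f.w_obj z)) h1
      simpa using h4)
  refine ⟨χ, ⟨h3, ?_⟩, ?_⟩
  · refine Grpd.hom_ext h𝒴 (f.map φ) ?_ ?_
    · rw [map_map, h2]
      simp
    · rw [hγ, ← Functor.map_comp, h3]
  · rintro χ' ⟨h5, h6⟩
    refine Grpd.hom_ext h𝒳 φ ?_ (h5.trans h3.symm)
    have h7 := congrArg (fun k => 𝒴.p.map k) h6
    rw [map_map] at h7
    rw [h2, ← h7]
    simp

/-- Lifting an arrow to the image of an object. -/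
theorem exists_lift_obj (h𝒳 : FibCat.IsFibGrpd 𝒳.p) (h𝒴 : FibCat.IsFibGrpd 𝒴.p) (f : 𝒳 ⥤ᵇ 𝒴) {x : 𝒳.obj}
    {m : 𝒴.obj} (c : m ⟶ f.obj x) :
    ∃ (y : 𝒳.obj) (φ : y ⟶ x) (i : f.obj y ≅ m), Vert 𝒴.p i.hom ∧ i.hom ≫ c = f.map φ := by
  obtain ⟨y, φ, e, hφ⟩ := K735.Fib.exists_lift h𝒳 (x := x) (𝒴.p.map c ≫ eqToHom (f.w_obj x))
  obtain ⟨i, hi1, hi2⟩ := K735.Fib.exists_hom h𝒴 c (f.map φ) (eqToHom ((f.w_obj y).trans e)) (by
    rw [K735.Fib.map_map, hφ]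
    simp)
  have hv : Vert 𝒴.p i := vert_of_map_eq _ hi1
  have : IsIso i := hv.isIso h𝒴
  exact ⟨y, φ, asIso i, hv, hi2⟩

/-- isomorphisms of pairs. -/
def fobjIso {π : 𝒳 ⥤ᵇ 𝒴} {η : 𝒴.obj} {a b : FObj π η} (e : a.pt ≅ b.pt) (h : π.map e.hom ≫ b.arr = a.arr) :
    a ≅ b where
  hom := FObj.mkHom e.hom h
  inv := FObj.mkHom e.inv (by rw [← h, ← Category.assoc, ← Functor.map_comp, e.inv_hom_id,
    CategoryTheory.Functor.map_id, Category.id_comp])
  hom_inv_id := FObj.hom_ext e.hom_inv_id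
  inv_hom_id := FObj.hom_ext e.inv_hom_id

variable (f : 𝒳 ⥤ᵇ 𝒴) (g : 𝒴 ⥤ᵇ 𝒵) (y₀ : 𝒴.obj)

/-- the functor induced by `g`. -/
def fibPush : K906.fibCat f y₀ ⥤ᵇ K906.fibCat (BasedFunctor.comp f g) (g.obj y₀) where
  toFunctor :=
    { obj := fun x => ⟨x.pt, g.map x.arr⟩
      map := fun {x y} φ => FObj.mkHom φ.hom (by
        change g.map (f.map φ.hom) ≫ g.map y.arr = g.map x.arr
        rw [← Functor.map_comp, φ.comm]) }
  w := rfl

variable {f g y₀}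

/-- the arrow underlying the structure arrow. -/
def under {w : (K906.fibCat (BasedFunctor.comp f g) (g.obj y₀)).obj} (x : (K906.fibCat (fibPush f g y₀) w).obj) :
    FObj.pt (FObj.pt x) ⟶ FObj.pt w := (FObj.arr x).hom

theorem under_comm {w : (K906.fibCat (BasedFunctor.comp f g) (g.obj y₀)).obj}
    (x : (K906.fibCat (fibPush f g y₀) w).obj) :
    g.map (f.map (under x)) ≫ FObj.arr w = g.map (FObj.arr (FObj.pt x)) := (FObj.arr x).comm

/-- the arrow underlying an arrow. -/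
def uhom {w : (K906.fibCat (BasedFunctor.comp f g) (g.obj y₀)).obj} {x y : (K906.fibCat (fibPush f g y₀) w).obj}
    (φ : x ⟶ y) : FObj.pt (FObj.pt x) ⟶ FObj.pt (FObj.pt y) := φ.hom.hom

theorem uhom_under {w : (K906.fibCat (BasedFunctor.comp f g) (g.obj y₀)).obj}
    {x y : (K906.fibCat (fibPush f g y₀) w).obj} (φ : x ⟶ y) : uhom φ ≫ under y = under x :=
  congrArg FObj.Hom.hom φ.comm

theorem uhom_arr {w : (K906.fibCat (BasedFunctor.comp f g) (g.obj y₀)).obj}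
    {x y : (K906.fibCat (fibPush f g y₀) w).obj} (φ : x ⟶ y) :
    f.map (uhom φ) ≫ FObj.arr (FObj.pt y) = FObj.arr (FObj.pt x) := φ.hom.comm

theorem uhom_ext {w : (K906.fibCat (BasedFunctor.comp f g) (g.obj y₀)).obj}
    {x y : (K906.fibCat (fibPush f g y₀) w).obj} {φ ψ : x ⟶ y} (h : uhom φ = uhom ψ) : φ = ψ :=
  FObj.hom_ext (FObj.hom_ext h)

/-- the comparison with the diagonal of `g`. -/
theorem exists_equiv_diag (h𝒳 : FibCat.IsFibGrpd 𝒳.p) (h𝒴 : FibCat.IsFibGrpd 𝒴.p) (h𝒵 : FibCat.IsFibGrpd 𝒵.p)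
    (w : (K906.fibCat (BasedFunctor.comp f g) (g.obj y₀)).obj) :
    ∃ (z : (FibCat.fp g g).obj) (Ψ : K906.fibCat (fibPush f g y₀) w ⥤ᵇ K906.fibCat (FibCat.diag g) z),
      sch (FibCat.fp g g) z = sch 𝒴 (f.obj (FObj.pt w)) ∧ FibCat.IsEquivOver Ψ := by
  obtain ⟨x₀, c⟩ := w
  obtain ⟨y₁, m, i, hi, hc⟩ := exists_lift_obj h𝒴 h𝒵 g c
  -- `i : g y₁ ≅ g f x₀`
  let z : (FibCat.fp g g).obj := mkFp g g (f.obj x₀) y₁ i.symm hi.iso_inv
  have key : ∀ x : (K906.fibCat (fibPush f g y₀) ⟨x₀, c⟩).obj, ∃! d : f.obj (FObj.pt (FObj.pt x)) ⟶ y₁,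
      d ≫ m = FObj.arr (FObj.pt x) ∧ g.map d = g.map (f.map (under x)) ≫ i.inv := by
    intro x
    refine existsUnique_lift h𝒴 h𝒵 g m (FObj.arr (FObj.pt x)) (g.map (f.map (under x)) ≫ i.inv) ?_
    rw [Category.assoc, ← hc, Iso.inv_hom_id_assoc]
    exact under_comm x
  choose d hd hdu using key
  replace hd : ∀ x, d x ≫ m = FObj.arr (FObj.pt x) ∧ g.map (d x) = g.map (f.map (under x)) ≫ i.inv := hd
  replace hdu : ∀ x (d' : f.obj (FObj.pt (FObj.pt x)) ⟶ y₁), (d' ≫ m = FObj.arr (FObj.pt x) ∧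
    g.map d' = g.map (f.map (under x)) ≫ i.inv) → d' = d x := hdu
  have hdm : ∀ {x y : (K906.fibCat (fibPush f g y₀) ⟨x₀, c⟩).obj} (φ : x ⟶ y), f.map (uhom φ) ≫ d y = d x := by
    intro x y φ
    refine hdu x _ ⟨?_, ?_⟩
    · rw [Category.assoc, (hd y).1, uhom_arr]
    · rw [Functor.map_comp, (hd y).2, ← Category.assoc, ← Functor.map_comp, ← Functor.map_comp, uhom_under]
  let A : ∀ x : (K906.fibCat (fibPush f g y₀) ⟨x₀, c⟩).obj,
      ((FibCat.diag g).obj (f.obj (FObj.pt (FObj.pt x))) ⟶ z) := fun x =>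
    homFp (f.map (under x)) (d x) (by
      change g.map (f.map (under x)) ≫ i.inv = 𝟙 _ ≫ g.map (d x)
      rw [Category.id_comp, (hd x).2])
  let Ψ : K906.fibCat (fibPush f g y₀) ⟨x₀, c⟩ ⥤ᵇ K906.fibCat (FibCat.diag g) z :=
    { toFunctor :=
        { obj := fun x => ⟨f.obj (FObj.pt (FObj.pt x)), A x⟩
          map := fun {x y} φ => FObj.mkHom (f.map (uhom φ)) (fp_hom_ext (by
              change f.map (uhom φ) ≫ f.map (under y) = f.map (under x)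
              rw [← Functor.map_comp, uhom_under]) (hdm φ))
          map_id := fun x => FObj.hom_ext (f.toFunctor.map_id _)
          map_comp := fun φ ψ => FObj.hom_ext (f.toFunctor.map_comp _ _) }
      w := by
        change (FObj.forgetPt (fibPush f g y₀) ⟨x₀, c⟩ ⋙ FObj.forgetPt f y₀) ⋙ (f.toFunctor ⋙ 𝒴.p) = _
        rw [f.w]
        rfl }
  refine ⟨z, Ψ, rfl, isEquivOver_of ?_ ?_ ?_⟩
  · intro x y φ ψ h
    refine uhom_ext ?_
    have h1 : f.map (uhom φ) = f.map (uhom ψ) := congrArg FObj.Hom.hom h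
    exact (existsUnique_lift h𝒳 h𝒴 f (under y) (under x) (f.map (uhom φ)) (by
      rw [← Functor.map_comp, uhom_under])).unique ⟨uhom_under φ, rfl⟩ ⟨uhom_under ψ, h1.symm⟩
  · intro x y χ
    have h1 : χ.hom ≫ f.map (under y) = f.map (under x) := congrArg (fun k => k.hom.fst) χ.comm
    have h2 : χ.hom ≫ d y = d x := congrArg (fun k => k.hom.snd) χ.comm
    obtain ⟨φ, ⟨h3, h4⟩, -⟩ := existsUnique_lift h𝒳 h𝒴 f (under y) (under x) χ.hom h1
    refine ⟨FObj.mkHom (FObj.mkHom φ ?_) (FObj.hom_ext h3), FObj.hom_ext h4⟩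
    rw [h4, ← (hd x).1, ← h2, Category.assoc, (hd y).1]
  · rintro ⟨y, β⟩
    obtain ⟨x, b, j, hj, hjb⟩ := exists_lift_obj h𝒳 h𝒴 f (x := x₀) β.hom.fst
    have hβ : g.map β.hom.fst ≫ i.inv = g.map β.hom.snd := by
      have := fp_w β
      refine this.trans ?_
      exact Category.id_comp _
    have hb : g.map (f.map b) ≫ c = g.map (j.hom ≫ β.hom.snd ≫ m) := by
      rw [← hjb, Functor.map_comp, Functor.map_comp, Functor.map_comp, ← hβ, ← hc]
      simp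
    let X : (K906.fibCat (fibPush f g y₀) ⟨x₀, c⟩).obj := ⟨⟨x, j.hom ≫ β.hom.snd ≫ m⟩, FObj.mkHom b hb⟩
    have hX : j.hom ≫ β.hom.snd = d X := by
      refine hdu X _ ⟨?_, ?_⟩
      · rw [Category.assoc]
      · change g.map (j.hom ≫ β.hom.snd) = g.map (f.map b) ≫ i.inv
        rw [Functor.map_comp, ← hβ, ← hjb, Functor.map_comp, Category.assoc]
    refine ⟨X, fobjIso j (fp_hom_ext ?_ ?_), vert_of_map_eq hj.eq.symm hj.map_eq⟩
    · exact hjb
    · exact hX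

end K784.Eqv
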