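import Groth.Agent.StMod.K784.PM

/-!
# Families of linear maps `E ⟶ M` over the objects over a base object, and their flat base change

`Base B` : the presheaf of arrows to an object `w` of the target of a functor, seen on the source category `𝒟`, together
with the ring of `w`; `HFam b E M` : the module of natural families of linear maps `E x → M x` indexed by `a : b.W x`;
`Pr b` : presentations; `HFam.ev_injective`, `HFam.exists_iff` : the families are the equalizer on a presentation;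
`isBC_pull` : flat base change.
-/

set_option autoImplicit false
set_option linter.style.haveILetI false
set_option linter.dupNamespace false
set_option linter.unusedSectionVars false

open CategoryTheory Opposite

namespace K784.HFam

open K784.BC K784.PM

universe t' t w₂ w₁ v₁ u₁ u

variable {𝒟 : Type u₁} [Category.{v₁} 𝒟] {B : 𝒟ᵒᵖ ⥤ CommRingCat.{u}}

/-- the arrows to a base object, with the ring of the base object. -/
structure Base (B : 𝒟ᵒᵖ ⥤ CommRingCat.{u}) where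
  W : 𝒟 → Type t
  pre : ∀ {x z : 𝒟} (_ : x ⟶ z), W z → W x
  pre_id : ∀ {x : 𝒟} (a : W x), pre (𝟙 x) a = a
  pre_comp : ∀ {y x z : 𝒟} (ψ : y ⟶ x) (φ : x ⟶ z) (a : W z), pre (ψ ≫ φ) a = pre ψ (pre φ a)
  R : Type u
  [ring : CommRing R]
  σ : ∀ {x : 𝒟} (_ : W x), R →+* B.obj (op x)
  σ_pre : ∀ {x z : 𝒟} (φ : x ⟶ z) (a : W z) (r : R), σ (pre φ a) r = rg B φ (σ a r)

attribute [instance] Base.ring

/-- natural families of linear maps. -/
@[ext]
structure HFam (b : Base.{t} B) (E : PM.{w₁} B) (M : PM.{w₂} B) where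
  app : ∀ {x : 𝒟} (_ : b.W x), E.obj x →ₗ[B.obj (op x)] M.obj x
  comm : ∀ {x z : 𝒟} (φ : x ⟶ z) (a : b.W z) (e : E.obj z), app (b.pre φ a) (E.map φ e) = M.map φ (app a e)

namespace HFam

variable {b : Base.{t} B} {E : PM.{w₁} B} {M : PM.{w₂} B}

theorem ext' {h h' : HFam b E M} (H : ∀ {x : 𝒟} (a : b.W x) (e : E.obj x), h.app a e = h'.app a e) : h = h' := by
  apply HFam.ext
  funext x a
  exact LinearMap.ext fun e => H a e

instance : Zero (HFam b E M) := ⟨⟨fun _ => 0, fun φ a e => by simp⟩⟩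

instance : Add (HFam b E M) :=
  ⟨fun h h' => ⟨fun a => h.app a + h'.app a, fun φ a e => by
    rw [LinearMap.add_apply, h.comm, h'.comm, LinearMap.add_apply, map_add]⟩⟩

instance : Neg (HFam b E M) :=
  ⟨fun h => ⟨fun a => -h.app a, fun φ a e => by rw [LinearMap.neg_apply, h.comm, LinearMap.neg_apply, map_neg]⟩⟩

instance : SMul b.R (HFam b E M) :=
  ⟨fun r h => ⟨fun a => b.σ a r • h.app a, fun φ a e => by
    rw [LinearMap.smul_apply, h.comm, b.σ_pre, LinearMap.smul_apply, M.map_smul]⟩⟩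

@[simp] theorem zero_app {x : 𝒟} (a : b.W x) : (0 : HFam b E M).app a = 0 := rfl
@[simp] theorem add_app (h h' : HFam b E M) {x : 𝒟} (a : b.W x) : (h + h').app a = h.app a + h'.app a := rfl
@[simp] theorem neg_app (h : HFam b E M) {x : 𝒟} (a : b.W x) : (-h).app a = -h.app a := rfl
@[simp] theorem smul_app (r : b.R) (h : HFam b E M) {x : 𝒟} (a : b.W x) : (r • h).app a = b.σ a r • h.app a := rfl

instance : AddCommGroup (HFam b E M) where
  add_assoc x y z := ext' fun a e => by simp [add_assoc]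
  zero_add x := ext' fun a e => by simp
  add_zero x := ext' fun a e => by simp
  add_comm x y := ext' fun a e => by simp [add_comm]
  neg_add_cancel x := ext' fun a e => by simp
  nsmul := nsmulRec
  zsmul := zsmulRec

instance : Module b.R (HFam b E M) where
  one_smul x := ext' fun a e => by simp
  mul_smul r s x := ext' fun a e => by simp [mul_smul]
  smul_zero r := ext' fun a e => by simp
  smul_add r x y := ext' fun a e => by simp
  add_smul r s x := ext' fun a e => by simp [add_smul]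
  zero_smul x := ext' fun a e => by simp

theorem app_eq_pl (h : HFam b E M) (hE : E.Cart) {x z : 𝒟} (φ : x ⟶ z) (a : b.W z) :
    h.app (b.pre φ a) = PM.pl hE φ (h.app a) := PM.eq_pl hE φ _ fun e => h.comm φ a e

end HFam

/-- a morphism of base objects. -/
structure Base.Hom (b' : Base.{t'} B) (b : Base.{t} B) where
  γ : ∀ {x : 𝒟}, b'.W x → b.W x
  γ_pre : ∀ {x z : 𝒟} (φ : x ⟶ z) (a : b'.W z), γ (b'.pre φ a) = b.pre φ (γ a)
  ρ : b.R →+* b'.R
  σ_γ : ∀ {x : 𝒟} (a : b'.W x) (r : b.R), b.σ (γ a) r = b'.σ a (ρ r)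

section Pull

variable {b : Base.{t} B} {b' : Base.{t'} B} {E : PM.{w₁} B} {M : PM.{w₂} B}

/-- pullback of families. -/
def HFam.pull (g : Base.Hom b' b) : HFam b E M →+ HFam b' E M where
  toFun h := ⟨fun a => h.app (g.γ a), fun φ a e => by
    have := h.comm φ (g.γ a) e
    rw [← g.γ_pre] at this
    exact this⟩
  map_zero' := rfl
  map_add' _ _ := rfl

@[simp] theorem HFam.pull_app (g : Base.Hom b' b) (h : HFam b E M) {x : 𝒟} (a : b'.W x) :
    (HFam.pull g h).app a = h.app (g.γ a) := rfl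

theorem HFam.pull_smul (g : Base.Hom b' b) (r : b.R) (h : HFam b E M) :
    HFam.pull g (r • h) = g.ρ r • HFam.pull g h := HFam.ext' fun a e => by
  rw [HFam.pull_app, HFam.smul_app, HFam.smul_app, g.σ_γ, HFam.pull_app]

end Pull

/-- a presentation of the category of objects over the base object. -/
structure Pr (b : Base.{t} B) where
  ζ : 𝒟
  α : b.W ζ
  ρ : 𝒟
  s : ρ ⟶ ζ
  t : ρ ⟶ ζ
  st : b.pre s α = b.pre t α
  cov : ∀ {x : 𝒟} (a : b.W x), ∃ (x' : 𝒟) (f : x' ⟶ x) (d : x' ⟶ ζ), FF B f ∧ b.pre d α = b.pre f a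
  lift : ∀ {x : 𝒟} (c d : x ⟶ ζ), b.pre c α = b.pre d α →
    ∃ (x' : 𝒟) (f : x' ⟶ x) (e : x' ⟶ ρ), FF B f ∧ e ≫ s = f ≫ c ∧ e ≫ t = f ≫ d

section Present

variable {b : Base.{t} B} (P : Pr b) {E : PM.{w₁} B} {M : PM.{w₂} B} (hE : E.Cart)

include hE in
theorem HFam.ev_injective (hM : M.FlatCart) {h h' : HFam b E M} (H : h.app P.α = h'.app P.α) : h = h' := by
  apply HFam.ext
  funext x a
  obtain ⟨x', f, d, hf, hd⟩ := P.cov a
  refine PM.pl_injective hE hM hf ?_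
  rw [← h.app_eq_pl hE, ← h'.app_eq_pl hE, ← hd, h.app_eq_pl hE, h'.app_eq_pl hE, H]

theorem pl_eq_of_pre_eq (hM : M.FlatCart) {h₀ : E.obj P.ζ →ₗ[B.obj (op P.ζ)] M.obj P.ζ}
    (H : PM.pl hE P.s h₀ = PM.pl hE P.t h₀) {x : 𝒟} (c d : x ⟶ P.ζ) (hcd : b.pre c P.α = b.pre d P.α) :
    PM.pl hE c h₀ = PM.pl hE d h₀ := by
  obtain ⟨x', f, e, hf, h1, h2⟩ := P.lift c d hcd
  refine PM.pl_injective hE hM hf ?_
  rw [← PM.pl_comp, ← PM.pl_comp, ← h1, ← h2, PM.pl_comp, PM.pl_comp, H]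

theorem HFam.exists_iff (pb : PB B) (hM : M.Cart) (h₀ : E.obj P.ζ →ₗ[B.obj (op P.ζ)] M.obj P.ζ) :
    (∃ h : HFam b E M, h.app P.α = h₀) ↔ PM.pl hE P.s h₀ = PM.pl hE P.t h₀ := by
  constructor
  · rintro ⟨h, rfl⟩
    rw [← h.app_eq_pl hE, ← h.app_eq_pl hE, P.st]
  · intro H
    have key : ∀ {x : 𝒟} (a : b.W x), ∃ h : E.obj x →ₗ[B.obj (op x)] M.obj x,
        ∀ ⦃y : 𝒟⦄ (g : y ⟶ x) (d : y ⟶ P.ζ), b.pre d P.α = b.pre g a → PM.pl hE g h = PM.pl hE d h₀ := by
      intro x a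
      obtain ⟨x', f, d, hf, hd⟩ := P.cov a
      obtain ⟨h, hh, -⟩ := PM.exists_desc pb hE hM hf (PM.pl hE d h₀) (fun y p q hpq => by
        rw [← PM.pl_comp, ← PM.pl_comp]
        refine pl_eq_of_pre_eq P hE hM.flatCart H _ _ ?_
        rw [b.pre_comp, b.pre_comp, hd, ← b.pre_comp, ← b.pre_comp, hpq])
      refine ⟨h, fun y g d' hd' => ?_⟩
      obtain ⟨y', f', g', hf', hg'⟩ := pb.exists_ff g f hf
      refine PM.pl_injective hE hM.flatCart hf' ?_
      rw [← PM.pl_comp, hg', PM.pl_comp, hh, ← PM.pl_comp, ← PM.pl_comp]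
      refine pl_eq_of_pre_eq P hE hM.flatCart H _ _ ?_
      rw [b.pre_comp, hd, b.pre_comp, hd', ← b.pre_comp, ← b.pre_comp, hg']
    choose h hh using @key
    refine ⟨⟨fun {x} a => h a, fun {x z} φ a e => ?_⟩, ?_⟩
    · have e1 : h (b.pre φ a) = PM.pl hE φ (h a) := by
        obtain ⟨x', f, d, hf, hd⟩ := P.cov (b.pre φ a)
        refine PM.pl_injective hE hM.flatCart hf ?_
        rw [hh (b.pre φ a) f d hd, ← PM.pl_comp, hh a (f ≫ φ) d (by rw [hd, b.pre_comp])]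
      change h (b.pre φ a) (E.map φ e) = _
      rw [e1, PM.pl_apply]
    · have := hh P.α (𝟙 _) (𝟙 _) rfl
      rwa [PM.pl_id, PM.pl_id] at this

end Present

section BaseChange

variable {b : Base.{t} B} {b' : Base.{t'} B} (g : Base.Hom b' b) (P : Pr b) (P' : Pr b') {E : PM.{w₁} B} {M : PM.{w₂} B}

/-- flat base change of the module of families. -/
theorem isBC_pull (pb : PB B) (hE : E.Cart) (hM : M.Cart) (hg : g.ρ.Flat)
    (cζ : P'.ζ ⟶ P.ζ) (cρ : P'.ρ ⟶ P.ρ) (hs : P'.s ≫ cζ = cρ ≫ P.s) (ht : P'.t ≫ cζ = cρ ≫ P.t)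
    (hα : g.γ P'.α = b.pre cζ P.α) (poζ : IsPO g.ρ (b.σ P.α) (b'.σ P'.α) (rg B cζ))
    (poρ : IsPO g.ρ (b.σ (b.pre P.s P.α)) (b'.σ (b'.pre P'.s P'.α)) (rg B cρ))
    (fζ : Module.FinitePresentation (B.obj (op P.ζ)) (E.obj P.ζ))
    (fρ : Module.FinitePresentation (B.obj (op P.ρ)) (E.obj P.ρ)) :
    IsBC g.ρ (HFam.pull (E := E) (M := M) g) := by
  letI i1 : Module b.R (E.obj P.ζ →ₗ[B.obj (op P.ζ)] M.obj P.ζ) := Module.compHom _ (b.σ P.α)
  letI i2 : Module b.R (E.obj P.ρ →ₗ[B.obj (op P.ρ)] M.obj P.ρ) := Module.compHom _ (b.σ (b.pre P.s P.α))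
  letI i3 : Module b'.R (E.obj P'.ζ →ₗ[B.obj (op P'.ζ)] M.obj P'.ζ) := Module.compHom _ (b'.σ P'.α)
  letI i4 : Module b'.R (E.obj P'.ρ →ₗ[B.obj (op P'.ρ)] M.obj P'.ρ) := Module.compHom _ (b'.σ (b'.pre P'.s P'.α))
  let j : HFam b E M →ₗ[b.R] (E.obj P.ζ →ₗ[B.obj (op P.ζ)] M.obj P.ζ) :=
    { toFun := fun h => h.app P.α, map_add' := fun _ _ => rfl, map_smul' := fun _ _ => rfl }
  let j' : HFam b' E M →ₗ[b'.R] (E.obj P'.ζ →ₗ[B.obj (op P'.ζ)] M.obj P'.ζ) :=
    { toFun := fun h => h.app P'.α, map_add' := fun _ _ => rfl, map_smul' := fun _ _ => rfl }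
  let k : (E.obj P.ζ →ₗ[B.obj (op P.ζ)] M.obj P.ζ) →ₗ[b.R] (E.obj P.ρ →ₗ[B.obj (op P.ρ)] M.obj P.ρ) :=
    { toFun := fun h => PM.pl hE P.s h - PM.pl hE P.t h
      map_add' := fun x y => by rw [map_add, map_add]; abel
      map_smul' := fun r x => by
        have e1 : PM.pl hE P.s (r • x) = r • PM.pl hE P.s x := by
          refine (PM.pl_smul hE P.s (b.σ P.α r) x).trans ?_
          rw [← b.σ_pre]
          rfl
        have e2 : PM.pl hE P.t (r • x) = r • PM.pl hE P.t x := by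
          refine (PM.pl_smul hE P.t (b.σ P.α r) x).trans ?_
          rw [← b.σ_pre, ← P.st]
          rfl
        rw [e1, e2, RingHom.id_apply, smul_sub] }
  let k' : (E.obj P'.ζ →ₗ[B.obj (op P'.ζ)] M.obj P'.ζ) →ₗ[b'.R] (E.obj P'.ρ →ₗ[B.obj (op P'.ρ)] M.obj P'.ρ) :=
    { toFun := fun h => PM.pl hE P'.s h - PM.pl hE P'.t h
      map_add' := fun x y => by rw [map_add, map_add]; abel
      map_smul' := fun r x => by
        have e1 : PM.pl hE P'.s (r • x) = r • PM.pl hE P'.s x := by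
          refine (PM.pl_smul hE P'.s (b'.σ P'.α r) x).trans ?_
          rw [← b'.σ_pre]
          rfl
        have e2 : PM.pl hE P'.t (r • x) = r • PM.pl hE P'.t x := by
          refine (PM.pl_smul hE P'.t (b'.σ P'.α r) x).trans ?_
          rw [← b'.σ_pre, ← P'.st]
          rfl
        rw [e1, e2, RingHom.id_apply, smul_sub] }
  have bζ : IsBC g.ρ (PM.pl (M := M) hE cζ) :=
    IsBC.of_po poζ (fun _ _ => rfl) (fun _ _ => rfl)
      (IsBC.hom (poζ.flat hg) (hE cζ) (hM cζ) _ (fun h e => PM.pl_apply hE cζ h e))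
  have bρ : IsBC g.ρ (PM.pl (M := M) hE cρ) :=
    IsBC.of_po poρ (fun _ _ => rfl) (fun _ _ => rfl)
      (IsBC.hom (poρ.flat hg) (hE cρ) (hM cρ) _ (fun h e => PM.pl_apply hE cρ h e))
  refine IsBC.of_exact hg j (fun x y hxy => HFam.ev_injective P hE hM.flatCart hxy) k (fun m => ?_)
    j' (fun x y hxy => HFam.ev_injective P' hE hM.flatCart hxy) k' (fun m => ?_) bζ bρ (fun h => ?_) (fun m => ?_)
  · exact sub_eq_zero.trans (HFam.exists_iff P hE pb hM m).symm
  · exact sub_eq_zero.trans (HFam.exists_iff P' hE pb hM m).symm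
  · change h.app (g.γ P'.α) = _
    rw [hα, h.app_eq_pl hE]
    rfl
  · change PM.pl hE P'.s (PM.pl hE cζ m) - PM.pl hE P'.t (PM.pl hE cζ m) = PM.pl hE cρ (_ - _)
    rw [map_sub, ← PM.pl_comp, ← PM.pl_comp, hs, ht, PM.pl_comp, PM.pl_comp]

end BaseChange

end K784.HFam
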