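import Groth.Agent.StMod.K784.ExtQ
import Groth.Agent.StMod.K784.HFam
import Groth.Agent.Desc.FPSections
import Groth.Prelude.Def_StMod3

/-!
# Families of linear maps over the fibres of a functor over `(Sch/S)`

`hpm F E M` : for `F : 𝒳 ⥤ᵇ 𝒴`, `E M : QCoh 𝒳`, the presheaf of modules `w ↦ Hom(E, M)` over the category of `𝒳` over `w`,
on the affine objects `w` of `𝒴`; `hpm_flatCart` : it is cartesian along flat arrows when `E` is of finite presentation and
the categories over affine objects have affine presentations; `small_hpm`.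
-/

set_option autoImplicit false
set_option linter.style.haveILetI false
set_option linter.dupNamespace false
set_option linter.unusedSectionVars false
set_option backward.isDefEq.respectTransparency false
set_option backward.isDefEq.respectTransparency.types false

open CategoryTheory CategoryTheory.Limits AlgebraicGeometry Opposite StMod

namespace K784.Geo

open K784.BC K784.PM K784.Tr K784.HFam K908.AMod K908.QHom K908.QSec K907.Sec

universe t w₁ v' w' v w u

variable {S : Scheme.{u}} {𝒳 : BasedCategory.{v, w} (Over S)} {𝒴 : BasedCategory.{v', w'} (Over S)}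

theorem finitePresentation_gs (E : QCoh 𝒳) (hE : E.obj.IsFinPres) (x : (Aff 𝒳).obj) :
    Module.FinitePresentation ((fa 𝒳).obj (op x)) ((gs E).obj x) :=
  Groth.Agent.Desc.FPSections.finitePresentation_sections (isAffineOpen_top (sch 𝒳 x.obj)) (E.property.2 x.obj)
    (hE x.obj)

variable (F : 𝒳 ⥤ᵇ 𝒴)

/-- the arrows to an object `w` of `𝒴`. -/
noncomputable def bas (w : 𝒴.obj) : Base.{v'} (fa 𝒳) where
  W x := F.obj x.obj ⟶ w
  pre φ a := F.map φ.hom ≫ a
  pre_id {x} a := by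
    have : F.map (𝟙 x : x ⟶ x).hom = 𝟙 _ := F.toFunctor.map_id x.obj
    rw [this, Category.id_comp]
  pre_comp {y x z} ψ φ a := by
    have : F.map (ψ ≫ φ).hom = F.map ψ.hom ≫ F.map φ.hom := F.toFunctor.map_comp ψ.hom φ.hom
    rw [this, Category.assoc]
  R := Γ(sch 𝒴 w, ⊤)
  σ {x} a := (baseOver F x.obj a).left.appTop.hom
  σ_pre {x z} φ a r := by
    have h : bmap 𝒳 φ.hom ≫ (baseOver F z.obj a).left = (baseOver F x.obj (F.map φ.hom ≫ a)).left :=
      bmap_comp_baseOver_left F φ.hom a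
    have h2 : (baseOver F x.obj (F.map φ.hom ≫ a)).left.appTop =
        (baseOver F z.obj a).left.appTop ≫ (bmap 𝒳 φ.hom).appTop := by
      rw [← h]
      exact Scheme.Hom.comp_appTop _ _
    exact congrArg (fun k => k.hom r) h2

/-- the morphism of base objects under an arrow. -/
noncomputable def basMap {w' w : 𝒴.obj} (g : w' ⟶ w) : Base.Hom (bas F w') (bas F w) where
  γ a := a ≫ g
  γ_pre φ a := Category.assoc _ _ _
  ρ := (bmap 𝒴 g).appTop.hom
  σ_γ {x} a r := by
    have h : (baseOver F x.obj (a ≫ g)).left = (baseOver F x.obj a).left ≫ bmap 𝒴 g := by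
      rw [baseOver_comp]
      rfl
    have h2 : (baseOver F x.obj (a ≫ g)).left.appTop = (bmap 𝒴 g).appTop ≫ (baseOver F x.obj a).left.appTop := by
      rw [h]
      exact Scheme.Hom.comp_appTop _ _
    exact congrArg (fun k => k.hom r) h2

/-- the presheaf of modules of families of linear maps. -/
noncomputable def hpm (E M : QCoh 𝒳) : PM (fa 𝒴) where
  obj w := HFam (bas F w.obj) (gs E) (gs M)
  grp w := inferInstanceAs (AddCommGroup (HFam (bas F w.obj) (gs E) (gs M)))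
  mod w := inferInstanceAs (Module (bas F w.obj).R (HFam (bas F w.obj) (gs E) (gs M)))
  map φ := HFam.pull (basMap F φ.hom)
  map_smul φ r m := HFam.pull_smul (basMap F φ.hom) r m
  map_id w m := by
    apply HFam.ext'
    intro x a e
    have h : a ≫ (𝟙 w : w ⟶ w).hom = a := Category.comp_id a
    change m.app (a ≫ (𝟙 w : w ⟶ w).hom) e = m.app a e
    rw [h]
  map_comp {w'' w' w} ψ φ m := by
    apply HFam.ext'
    intro x a e
    have h : a ≫ (ψ ≫ φ).hom = (a ≫ ψ.hom) ≫ φ.hom := (Category.assoc _ _ _).symm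
    change m.app (a ≫ (ψ ≫ φ).hom) e = m.app ((a ≫ ψ.hom) ≫ φ.hom) e
    rw [h]

/-- the presentation. -/
noncomputable def prOf {w : 𝒴.obj} (P : K906.Pres (K906.fibCat F w)) : Pr (bas F w) where
  ζ := ⟨K906.FObj.pt P.ζ, P.affζ⟩
  α := K906.FObj.arr P.ζ
  ρ := ⟨K906.FObj.pt P.ρ, P.affρ⟩
  s := ObjectProperty.homMk (K906.FObj.Hom.hom P.s)
  t := ObjectProperty.homMk (K906.FObj.Hom.hom P.t)
  st := (K906.FObj.Hom.comm P.s).trans (K906.FObj.Hom.comm P.t).symm
  cov {x} a := by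
    obtain ⟨z', f, d, h1, h2, h3⟩ := P.cov ⟨x.obj, a⟩ x.property
    refine ⟨⟨K906.FObj.pt z', h1⟩, ObjectProperty.homMk (K906.FObj.Hom.hom f), ObjectProperty.homMk
      (K906.FObj.Hom.hom d), (ff_iff _).2 ⟨?_, h3⟩, (K906.FObj.Hom.comm d).trans (K906.FObj.Hom.comm f).symm⟩
    have : Smooth (bmap 𝒳 (K906.FObj.Hom.hom f)) := h2
    change Flat (bmap 𝒳 (K906.FObj.Hom.hom f))
    infer_instance
  lift {x} c d h := by
    obtain ⟨z', f, e, h1, h2, h3, h4, h5⟩ := P.lift ⟨x.obj, F.map c.hom ≫ K906.FObj.arr P.ζ⟩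
      (K906.FObj.mkHom c.hom rfl) (K906.FObj.mkHom d.hom h.symm) x.property
    refine ⟨⟨K906.FObj.pt z', h1⟩, ObjectProperty.homMk (K906.FObj.Hom.hom f), ObjectProperty.homMk
      (K906.FObj.Hom.hom e), (ff_iff _).2 ⟨?_, h3⟩, ObjectProperty.hom_ext _ (congrArg K906.FObj.Hom.hom h4),
      ObjectProperty.hom_ext _ (congrArg K906.FObj.Hom.hom h5)⟩
    have : Etale (bmap 𝒳 (K906.FObj.Hom.hom f)) := h2
    change Flat (bmap 𝒳 (K906.FObj.Hom.hom f))
    infer_instance

theorem small_hpm (E M : QCoh 𝒳) {w : 𝒴.obj} (P : K906.Pres (K906.fibCat F w)) :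
    Small.{u} (HFam (bas F w) (gs E) (gs M)) :=
  small_of_injective (β := (gs E).obj (prOf F P).ζ →ₗ[(fa 𝒳).obj (op (prOf F P).ζ)] (gs M).obj (prOf F P).ζ)
    (f := fun h => h.app (prOf F P).α) fun _ _ h =>
      HFam.ev_injective (prOf F P) (gs_cart E) (gs_cart M).flatCart h

theorem isBC_hpm (hX : FibCat.IsFibGrpd 𝒳.p) (hY : FibCat.IsFibGrpd 𝒴.p) {E M : QCoh 𝒳} (hE : E.obj.IsFinPres)
    {w' w : 𝒴.obj} (g : w' ⟶ w) (hw : IsAffine (sch 𝒴 w)) (hw' : IsAffine (sch 𝒴 w')) (hg : Flat (bmap 𝒴 g))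
    (P : K906.Pres (K906.fibCat F w)) :
    K784.BC.IsBC (basMap F g).ρ (HFam.pull (E := gs E) (M := gs M) (basMap F g)) := by
  obtain ⟨P', cζ, cρ, hs, ht, sζ, sρ⟩ := K906.Pres.exists_bc hX hY g hw hw' P
  have : IsAffine (𝒳.p.obj (K906.FObj.pt P.ζ)).left := P.affζ
  have : IsAffine (𝒳.p.obj (K906.FObj.pt P'.ζ)).left := P'.affζ
  have : IsAffine (𝒳.p.obj (K906.FObj.pt P.ρ)).left := P.affρ
  have : IsAffine (𝒳.p.obj (K906.FObj.pt P'.ρ)).left := P'.affρ
  have : IsAffine (𝒴.p.obj w).left := hw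
  have : IsAffine (𝒴.p.obj w').left := hw'
  have : IsAffine (sch 𝒳 (K906.FObj.pt P.ζ)) := P.affζ
  have : IsAffine (sch 𝒳 (K906.FObj.pt P'.ζ)) := P'.affζ
  have : IsAffine (sch 𝒳 (K906.FObj.pt P.ρ)) := P.affρ
  have : IsAffine (sch 𝒳 (K906.FObj.pt P'.ρ)) := P'.affρ
  refine isBC_pull (basMap F g) (prOf F P) (prOf F P') (pb_aff hX) (gs_cart E) (gs_cart M)
    ((HasRingHomProperty.iff_of_isAffine (P := @Flat) (f := bmap 𝒴 g)).1 hg)
    (ObjectProperty.homMk (K906.FObj.Hom.hom cζ)) (ObjectProperty.homMk (K906.FObj.Hom.hom cρ))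
    (ObjectProperty.hom_ext _ (congrArg K906.FObj.Hom.hom hs))
    (ObjectProperty.hom_ext _ (congrArg K906.FObj.Hom.hom ht)) (K906.FObj.Hom.comm cζ).symm ?_ ?_
    (finitePresentation_gs E hE _) (finitePresentation_gs E hE _)
  · exact (isPushout_appTop_of_isPullback (K906.isPullback_left g sζ)).flip
  · have e1 : (bas F w).pre (prOf F P).s (prOf F P).α = K906.FObj.arr P.ρ := K906.FObj.Hom.comm P.s
    have e2 : (bas F w').pre (prOf F P').s (prOf F P').α = K906.FObj.arr P'.ρ := K906.FObj.Hom.comm P'.s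
    rw [e1, e2]
    exact (isPushout_appTop_of_isPullback (K906.isPullback_left g sρ)).flip

theorem hpm_flatCart (hX : FibCat.IsFibGrpd 𝒳.p) (hY : FibCat.IsFibGrpd 𝒴.p) {E M : QCoh 𝒳} (hE : E.obj.IsFinPres)
    (hP : ∀ w : 𝒴.obj, IsAffine (sch 𝒴 w) → Nonempty (K906.Pres (K906.fibCat F w))) : (hpm F E M).FlatCart := by
  intro w' w φ hφ
  obtain ⟨P⟩ := hP w.obj w.property
  exact isBC_hpm F hX hY hE φ.hom w.property w'.property ((fl_iff φ).1 hφ) P

end K784.Geo
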