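import Groth.Agent.StMod.K784.LiftQ
import Groth.Agent.StMod.K784.HGeo
import Groth.Prelude.Def_StMod6
import Groth.Agent.StMod.K908.Comap
import Groth.Agent.AlgSt.K735.Fib

/-!
# The main theorem on generating families

`F : 𝒳 ⥤ᵇ 𝒴`, `F' j` generating on `𝒴`, `E i` (finitely presented on `𝒳`) generating on the categories of `𝒳` over the
objects of an atlas of `𝒴`: a morphism `u : M ⟶ N` on `𝒳` killing all bilinear maps `F^* F' j × E i → M` is zero.
-/

set_option autoImplicit false
set_option linter.style.haveILetI false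
set_option linter.dupNamespace false
set_option linter.unusedSectionVars false
set_option backward.isDefEq.respectTransparency false
set_option backward.isDefEq.respectTransparency.types false

open CategoryTheory CategoryTheory.Limits AlgebraicGeometry Opposite StMod

namespace K784.HFam

open K784.PM

universe t w₃ w₂ w₁ v₁ u₁ u

variable {𝒟 : Type u₁} [Category.{v₁} 𝒟] {B : 𝒟ᵒᵖ ⥤ CommRingCat.{u}} {b : Base.{t} B} {E : PM.{w₁} B}
  {M : PM.{w₂} B} {N : PM.{w₃} B}

/-- postcomposition with a natural family of linear maps. -/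
def HFam.post (c : ∀ x, M.obj x →ₗ[B.obj (op x)] N.obj x)
    (hc : ∀ {x z : 𝒟} (φ : x ⟶ z) (m : M.obj z), c x (M.map φ m) = N.map φ (c z m)) :
    HFam b E M →ₗ[b.R] HFam b E N where
  toFun h := ⟨fun {x} a => (c x).comp (h.app a), fun {x z} φ a e => by
    rw [LinearMap.comp_apply, h.comm, hc]
    rfl⟩
  map_add' h h' := HFam.ext' fun {x} a e => (c x).map_add _ _
  map_smul' r h := HFam.ext' fun {x} a e => (c x).map_smul _ _

theorem HFam.post_app (c : ∀ x, M.obj x →ₗ[B.obj (op x)] N.obj x)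
    (hc : ∀ {x z : 𝒟} (φ : x ⟶ z) (m : M.obj z), c x (M.map φ m) = N.map φ (c z m)) (h : HFam b E M) {x : 𝒟}
    (a : b.W x) (e : E.obj x) : (HFam.post c hc h).app a e = c x (h.app a e) := rfl

end K784.HFam

namespace K784.Geo

open K784.BC K784.PM K784.Tr K784.HFam K908.AMod K908.QHom K908.QSec K907.Sec

universe t' t₁ t w₁ v' w' v w u

variable {S : Scheme.{u}} {𝒳 : BasedCategory.{v, w} (Over S)} {𝒴 : BasedCategory.{v', w'} (Over S)}
  (F : 𝒳 ⥤ᵇ 𝒴)

/-- the image of an affine object. -/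
def afObj (x : (Aff 𝒳).obj) : (Aff 𝒴).obj :=
  ⟨F.obj x.obj, by
    have : IsAffine (sch 𝒳 x.obj) := x.property
    change IsAffine (sch 𝒴 (F.obj x.obj))
    rw [sch_obj_eq]
    exact this⟩

/-- the image of an arrow of affine objects. -/
def afMap {x z : (Aff 𝒳).obj} (φ : x ⟶ z) : afObj F x ⟶ afObj F z := ObjectProperty.homMk (F.map φ.hom)

/-- bilinear families. -/
structure Bil (F' : QCoh 𝒴) (E M : QCoh 𝒳) where
  app : ∀ x : (Aff 𝒳).obj, (gs F').obj (afObj F x) → (gs E).obj x →ₗ[(fa 𝒳).obj (op x)] (gs M).obj x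
  map_add : ∀ (x : (Aff 𝒳).obj) (f f' : (gs F').obj (afObj F x)) (e : (gs E).obj x),
    app x (f + f') e = app x f e + app x f' e
  map_smul : ∀ (x : (Aff 𝒳).obj) (r : (fa 𝒴).obj (op (afObj F x))) (f : (gs F').obj (afObj F x)) (e : (gs E).obj x),
    app x (r • f) e = (bas F (F.obj x.obj)).σ (x := x) (𝟙 (F.obj x.obj)) r • app x f e
  nat : ∀ {x z : (Aff 𝒳).obj} (φ : x ⟶ z) (f : (gs F').obj (afObj F z)) (e : (gs E).obj z),
    app x ((gs F').map (afMap F φ) f) ((gs E).map φ e) = (gs M).map φ (app z f e)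

/-- an object of `𝒳` over an affine object of `𝒴` that maps to the atlas. -/
theorem exists_cov (hX : FibCat.IsFibGrpd 𝒳.p) (hY : FibCat.IsFibGrpd 𝒴.p) (P : FAtlas.{t} 𝒴) (x : (Aff 𝒳).obj) :
    ∃ (x' : (Aff 𝒳).obj) (f : x' ⟶ x) (j : P.J) (_ : F.obj x'.obj ⟶ (P.Z j).obj), IsFCov f.hom := by
  obtain ⟨z, c, j, d, hc⟩ := P.cov (afObj F x)
  obtain ⟨y, φ, e, hφ⟩ := K735.Fib.exists_lift hX (x := x.obj) (𝒴.p.map c.hom ≫ eqToHom (F.w_obj x.obj))
  obtain ⟨i, hi1, hi2⟩ := K735.Fib.exists_hom hY c.hom (F.map φ) (eqToHom ((F.w_obj y).trans e)) (by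
    rw [K735.Fib.map_map, hφ]
    simp)
  have e1 : sch 𝒳 y = sch 𝒴 z.obj := congrArg Comma.left e
  have e2 : bmap 𝒳 φ = eqToHom e1 ≫ bmap 𝒴 c.hom ≫ eqToHom (sch_obj_eq F x.obj) := by
    have h1 := congrArg (fun k => k.left) hφ
    simp only [Over.comp_left, Over.eqToHom_left] at h1
    exact h1
  have hy : IsAffine (sch 𝒳 y) := by rw [e1]; exact z.property
  refine ⟨⟨y, hy⟩, ObjectProperty.homMk φ, j, i ≫ d.hom, ⟨?_, ?_⟩⟩
  · have := hc.flat
    change Flat (bmap 𝒳 φ)
    rw [e2]
    infer_instance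
  · have := hc.surj
    change Surjective (bmap 𝒳 φ)
    rw [e2]
    infer_instance

theorem gen_of_bil (hX : FibCat.IsFibGrpd 𝒳.p) (hY : FibCat.IsFibGrpd 𝒴.p) (P : FAtlas.{t} 𝒴)
    {ι : Type t₁} (E : ι → QCoh 𝒳) (hE : ∀ i, (E i).obj.IsFinPres) {ι' : Type t'} (F' : ι' → QCoh 𝒴)
    (hF' : IsGenFam F')
    (hg : ∀ k, IsGenFam (fun i => (comapQ (K906.fibPt F (P.Z k).obj)).obj (E i)))
    (hP : ∀ w : 𝒴.obj, IsAffine (sch 𝒴 w) → Nonempty (K906.Pres (K906.fibCat F w))) {M N : QCoh 𝒳} (u : M ⟶ N)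
    (H : ∀ i j (β : Bil F (F' j) (E i) M) (x : (Aff 𝒳).obj) (f : (gs (F' j)).obj (afObj F x)) (e : (gs (E i)).obj x),
      gsMap u.hom x (β.app x f e) = 0) : u = 0 := by
  haveI := hX
  haveI := hY
  -- the morphism induced on families is zero at the atlas
  have key : ∀ (i : ι) (k : P.J) (h : HFam (bas F (P.Z k).obj) (gs (E i)) (gs M)),
      HFam.post (gsMap u.hom) (gsMap_nat u.hom) h = 0 := by
    intro i
    have hM := hpm_flatCart F (M := M) hX hY (hE i) hP
    have hN := hpm_flatCart F (M := N) hX hY (hE i) hP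
    have sM : ∀ j, Small.{u} ((hpm F (E i) M).obj (P.Z j)) := fun j => by
      obtain ⟨Q⟩ := hP (P.Z j).obj (P.Z j).property
      exact small_hpm F (E i) M Q
    have sN : ∀ j, Small.{u} ((hpm F (E i) N).obj (P.Z j)) := fun j => by
      obtain ⟨Q⟩ := hP (P.Z j).obj (P.Z j).property
      exact small_hpm F (E i) N Q
    obtain ⟨GM, evM, natM, bijM⟩ := exists_qcoh hY P (hpm F (E i) M) (FC.of_flatCart hM) (fun _ => trivial)
    obtain ⟨GN, evN, natN, bijN⟩ := exists_qcoh hY P (hpm F (E i) N) (FC.of_flatCart hN) (fun _ => trivial)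
    let post : ∀ z : (Aff 𝒴).obj, (hpm F (E i) M).obj z →ₗ[(fa 𝒴).obj (op z)] (hpm F (E i) N).obj z := fun z =>
      (HFam.post (gsMap u.hom) (gsMap_nat u.hom) :
        HFam (bas F z.obj) (gs (E i)) (gs M) →ₗ[(bas F z.obj).R] HFam (bas F z.obj) (gs (E i)) (gs N))
    obtain ⟨v, hv⟩ := exists_lift_qcoh hY P (FC.of_flatCart hN) (fun _ => trivial) (F := GM) evN natN bijN
      (fun z rz => (post z).comp (evM z rz)) (fun x z φ rx rz m => by
        rw [LinearMap.comp_apply, LinearMap.comp_apply, natM φ rx rz]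
        rfl)
    -- `v` is zero
    have hv0 : v = 0 := by
      have h0 : (ObjectProperty.homMk v : GM ⟶ GN) = 0 := by
        refine (isGenFam_iff F').1 hF' _ fun j φ => ?_
        refine eq_zero_of_atlas hY P _ fun k m => ?_
        refine (bijN (P.Z k) trivial k (𝟙 _) (Fl.id _)).1 ?_
        rw [map_zero]
        refine (hv (P.Z k) trivial ((φ.app (P.Z k).obj).app ⊤ m)).trans ?_
        refine HFam.ext' (b := bas F (P.Z k).obj) (E := gs (E i)) (M := gs N) fun {x} a e => ?_
        -- the bilinear family attached to `φ`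
        let β : Bil F (F' j) (E i) M :=
          { app := fun x f => HFam.app (b := bas F (F.obj x.obj)) (E := gs (E i)) (M := gs M)
              (evM (afObj F x) trivial (gsMap φ (afObj F x) f)) (𝟙 (F.obj x.obj))
            map_add := fun x f f' e => by
              rw [map_add, map_add]
              rfl
            map_smul := fun x r f e => by
              rw [_root_.map_smul, _root_.map_smul]
              rfl
            nat := fun {x z} ψ f e => by
              rw [gsMap_nat, natM (afMap F ψ) trivial trivial]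
              refine Eq.trans ?_ (HFam.comm (b := bas F (F.obj z.obj)) (E := gs (E i)) (M := gs M)
                (evM (afObj F z) trivial (gsMap φ (afObj F z) f)) ψ (𝟙 (F.obj z.obj)) e)
              change HFam.app (b := bas F (F.obj z.obj)) (E := gs (E i)) (M := gs M)
                (evM (afObj F z) trivial (gsMap φ (afObj F z) f)) (𝟙 (F.obj x.obj) ≫ F.map ψ.hom) _ =
                HFam.app (b := bas F (F.obj z.obj)) (E := gs (E i)) (M := gs M)
                (evM (afObj F z) trivial (gsMap φ (afObj F z) f)) (F.map ψ.hom ≫ 𝟙 (F.obj z.obj)) _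
              rw [Category.id_comp, Category.comp_id] }
        let a' : afObj F x ⟶ P.Z k := ObjectProperty.homMk a
        have h1 := H i j β x ((gs (F' j)).map a' m) e
        refine Eq.trans ?_ h1
        refine congrArg (gsMap u.hom x) ?_
        change HFam.app (b := bas F (P.Z k).obj) (E := gs (E i)) (M := gs M)
          (evM (P.Z k) trivial (gsMap φ (P.Z k) m)) a e = HFam.app (b := bas F (F.obj x.obj)) (E := gs (E i))
            (M := gs M) (evM (afObj F x) trivial (gsMap φ (afObj F x) ((gs (F' j)).map a' m))) (𝟙 (F.obj x.obj)) e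
        rw [gsMap_nat, natM a' trivial trivial]
        change HFam.app (b := bas F (P.Z k).obj) (E := gs (E i)) (M := gs M)
          (evM (P.Z k) trivial (gsMap φ (P.Z k) m)) a e = HFam.app (b := bas F (P.Z k).obj) (E := gs (E i))
            (M := gs M) (evM (P.Z k) trivial (gsMap φ (P.Z k) m)) (𝟙 (F.obj x.obj) ≫ a) e
        rw [Category.id_comp]
      exact congrArg InducedCategory.Hom.hom h0
    intro k h
    obtain ⟨m, rfl⟩ := (bijM (P.Z k) trivial k (𝟙 _) (Fl.id _)).2 h
    refine (hv (P.Z k) trivial m).symm.trans ?_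
    rw [hv0]
    exact map_zero (evN (P.Z k) trivial)
  -- hence `u` is zero over the atlas
  have hu : ∀ (k : P.J) (x : (Aff 𝒳).obj) (a : F.obj x.obj ⟶ (P.Z k).obj) (m : Γ(M.obj.obj x.obj, ⊤)),
      (u.hom.app x.obj).app ⊤ m = 0 := by
    intro k x a m
    haveI : FibCat.IsFibGrpd (K906.fibCat F (P.Z k).obj).p := K906.isFibGrpd_fibCat hX
    have h0 : (comapQ (K906.fibPt F (P.Z k).obj)).map u = 0 := by
      refine (isGenFam_iff _).1 (hg k) _ fun i t => ?_
      refine hom_ext_of_top (C := ASieve.all (K906.fibCat F (P.Z k).obj)) K908.Fam.zloc_all fun ζ e => ?_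
      let h : HFam (bas F (P.Z k).obj) (gs (E i)) (gs M) :=
        { app := fun {x} a =>
            { toFun := fun e => (t.app (K906.FObj.mk x.obj a)).app ⊤ e
              map_add' := fun e e' => map_add _ _ _
              map_smul' := fun r e => Scheme.Modules.Hom.app_smul _ _ _ }
          comm := fun {x z} φ a e => by
            let φ' : K906.FObj.mk (π := F) (η := (P.Z k).obj) x.obj (F.map φ.hom ≫ a) ⟶
              K906.FObj.mk z.obj a := K906.FObj.mkHom φ.hom rfl
            have h2 : (Mod.comap (K906.fibPt F (P.Z k).obj) (E i).obj).mapTop φ' e = (E i).obj.mapTop φ.hom e :=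
              K908.Comap.ct_mapTop (K906.fibPt F (P.Z k).obj) (E i).obj φ' e
            have h3 : ∀ m : Γ(M.obj.obj z.obj, ⊤), (Mod.comap (K906.fibPt F (P.Z k).obj) M.obj).mapTop φ' m =
              M.obj.mapTop φ.hom m := fun m => K908.Comap.ct_mapTop (K906.fibPt F (P.Z k).obj) M.obj φ' m
            have h4 := Mod.mapTop_app t φ' e
            refine (congrArg (fun e => (t.app (K906.FObj.mk x.obj (F.map φ.hom ≫ a))).app ⊤ e) h2.symm).trans ?_
            exact h4.symm.trans (h3 _) }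
      have h1 := congrArg (fun h : HFam (bas F (P.Z k).obj) (gs (E i)) (gs N) =>
        h.app (x := ⟨ζ.obj.pt, ζ.property⟩) ζ.obj.arr e) (key i k h)
      exact h1
    have h1 := congrArg (fun w => (w.hom.app (K906.FObj.mk x.obj a)).app ⊤ m) h0
    exact h1
  apply InducedCategory.hom_ext
  let C : ASieve 𝒳 :=
    { P := fun x => IsAffine (sch 𝒳 x) ∧ ∃ k : P.J, Nonempty (F.obj x ⟶ (P.Z k).obj)
      aff := fun _ h => h.1
      down := fun _ _ φ h h' => ⟨h', h.2.imp fun _ ⟨b⟩ => ⟨F.map φ ≫ b⟩⟩ }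
  have hC : K908.Desc.Dense C := by
    intro z hz
    obtain ⟨x', f, j, d, hf⟩ := exists_cov F hX hY P ⟨z, hz⟩
    exact ⟨⟨x'.obj, x'.property, j, ⟨d⟩⟩, f.hom, hf⟩
  refine K908.Dense.hom_ext hC fun ζ m => ?_
  obtain ⟨k, ⟨a⟩⟩ := ζ.property.2
  exact hu k ⟨ζ.obj, ζ.property.1⟩ a m

end K784.Geo
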