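import Groth.Agent.StMod.K784.Extend

/-!
# Lifting natural maps through `ev : G ⟶ H`

`H` cartesian along flat arrows, `G` cartesian, `ev : G ⟶ H` bijective at the objects flat over an atlas: every natural
family of linear maps from a cartesian `F` to `H` factors through `ev` on the objects over the atlas.
-/

set_option autoImplicit false
set_option linter.style.haveILetI false
set_option linter.dupNamespace false
set_option linter.unusedSectionVars false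

open CategoryTheory Opposite

namespace K784.Tr

open K784.BC K784.PM

universe t w₂ w₁ w v₁ u₁ u

variable {𝒞 : Type u₁} [Category.{v₁} 𝒞] {A : 𝒞ᵒᵖ ⥤ CommRingCat.{u}} {R : 𝒞 → Prop} {H : PM.{w} A}
  {J : Type t} {Z : J → 𝒞} (T : Atlas A Z) (hH : FC R H) (hZ : ∀ j, R (Z j)) {F : PM.{w₁} A} {G : PM.{w₂} A}

include T hH hZ in
theorem exists_lift (hF : F.Cart) (hG : G.Cart) (ev : ∀ z, R z → G.obj z →ₗ[A.obj (op z)] H.obj z)
    (hev : ∀ ⦃x z : 𝒞⦄ (φ : x ⟶ z) (rx : R x) (rz : R z) (m : G.obj z),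
      ev x rx (G.map φ m) = H.map φ (ev z rz m))
    (hbij : ∀ (z : 𝒞) (rz : R z) (j : J) (b : z ⟶ Z j), Fl A b → Function.Bijective (ev z rz))
    (ψ : ∀ z, R z → F.obj z →ₗ[A.obj (op z)] H.obj z)
    (hψ : ∀ ⦃x z : 𝒞⦄ (φ : x ⟶ z) (rx : R x) (rz : R z) (m : F.obj z),
      ψ x rx (F.map φ m) = H.map φ (ψ z rz m)) :
    ∃ τ : ∀ z, Over Z z → F.obj z →ₗ[A.obj (op z)] G.obj z,
      (∀ ⦃x z : 𝒞⦄ (φ : x ⟶ z) (qx : Over Z x) (qz : Over Z z) (m : F.obj z),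
        τ x qx (F.map φ m) = G.map φ (τ z qz m)) ∧
      ∀ (z : 𝒞) (qz : Over Z z) (rz : R z) (m : F.obj z), ev z rz (τ z qz m) = ψ z rz m := by
  have τ₀ : ∀ j, ∃ τ : F.obj (Z j) →ₗ[A.obj (op (Z j))] G.obj (Z j), ∀ m, ev (Z j) (hZ j) (τ m) = ψ (Z j) (hZ j) m :=
    fun j => by
      let e := LinearEquiv.ofBijective (ev (Z j) (hZ j)) (hbij (Z j) (hZ j) j (𝟙 _) (Fl.id _))
      refine ⟨e.symm.toLinearMap.comp (ψ (Z j) (hZ j)), fun m => ?_⟩
      exact e.apply_symm_apply (ψ (Z j) (hZ j) m)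
  choose τ₀ hτ₀ using τ₀
  -- on objects flat over the atlas
  have h1 : ∀ (z : 𝒞) (rz : R z) (j : J) (b : z ⟶ Z j) (m : F.obj z),
      ev z rz (PM.pl hF b (τ₀ j) m) = ψ z rz m := by
    intro z rz j b m
    have e : (ev z rz).comp (PM.pl hF b (τ₀ j)) = ψ z rz := (hF b).hom_ext fun f => by
      rw [LinearMap.comp_apply, PM.pl_apply, hev b rz (hZ j), hτ₀, hψ b rz (hZ j)]
    exact congr($e m)
  have h2 : ∀ (θ : 𝒞) (i j : J) (p : θ ⟶ Z i) (q : θ ⟶ Z j), Fl A p → PM.pl hF p (τ₀ i) = PM.pl hF q (τ₀ j) := by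
    intro θ i j p q hp
    have rθ : R θ := hH.stab p hp (hZ i)
    refine LinearMap.ext fun m => (hbij θ rθ i p hp).1 ?_
    rw [h1, h1]
  have h3 : ∀ (z : 𝒞) (i j : J) (a : z ⟶ Z i) (b : z ⟶ Z j), PM.pl hF a (τ₀ i) = PM.pl hF b (τ₀ j) := by
    intro z i j a b
    obtain ⟨z', θ, f, p, q, e, hf, hS, hp, hq⟩ := T.lift a b
    refine PM.pl_injective hF hG.flatCart hf ?_
    rw [← PM.pl_comp, ← PM.pl_comp, ← hp, ← hq, PM.pl_comp, PM.pl_comp, h2 θ i j p q (T.flat hS)]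
  refine ⟨fun z qz => PM.pl hF qz.choose_spec.some (τ₀ qz.choose), ?_, ?_⟩
  · intro x z φ qx qz m
    refine Eq.trans ?_ (PM.pl_apply hF φ (PM.pl hF qz.choose_spec.some (τ₀ qz.choose)) m)
    rw [← PM.pl_comp]
    exact congr($(h3 x _ _ qx.choose_spec.some (φ ≫ qz.choose_spec.some)) (F.map φ m))
  · intro z qz rz m
    exact h1 z rz _ _ m

end K784.Tr
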