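import Groth.Agent.StMod.K784.BC3

/-!
# Presheaves of modules over a presheaf of rings on an arbitrary category: base change and faithfully flat descent

`A : 𝒞ᵒᵖ ⥤ CommRingCat`, `rg A φ` the ring homomorphism under an arrow, `PM A` presheaves of modules in any universe,
`PM.Cart` cartesian along every arrow, `PM.FlatCart` along flat arrows.  `PB A`: fibre products exist in `𝒞` and go to
pushouts of rings.
-/

set_option autoImplicit false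
set_option linter.style.haveILetI false
set_option linter.dupNamespace false

open CategoryTheory Opposite

namespace K784.PM

open K784.BC

universe w₂ w₁ w v' u' v₁ u₁ u

variable {𝒞 : Type u₁} [Category.{v₁} 𝒞]

/-- the ring homomorphism under an arrow. -/
abbrev rg (A : 𝒞ᵒᵖ ⥤ CommRingCat.{u}) {w z : 𝒞} (φ : w ⟶ z) : A.obj (op z) →+* A.obj (op w) := (A.map φ.op).hom

theorem rg_id (A : 𝒞ᵒᵖ ⥤ CommRingCat.{u}) (z : 𝒞) : rg A (𝟙 z) = RingHom.id _ := by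
  rw [rg, op_id, A.map_id]
  rfl

theorem rg_comp (A : 𝒞ᵒᵖ ⥤ CommRingCat.{u}) {x w z : 𝒞} (ψ : x ⟶ w) (φ : w ⟶ z) :
    rg A (ψ ≫ φ) = (rg A ψ).comp (rg A φ) := by
  rw [rg, op_comp, A.map_comp]
  rfl

theorem rg_comp_apply (A : 𝒞ᵒᵖ ⥤ CommRingCat.{u}) {x w z : 𝒞} (ψ : x ⟶ w) (φ : w ⟶ z) (r : A.obj (op z)) :
    rg A (ψ ≫ φ) r = rg A ψ (rg A φ r) := by
  rw [rg_comp]
  rfl

/-- a presheaf of modules over `A`. -/
structure PM (A : 𝒞ᵒᵖ ⥤ CommRingCat.{u}) where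
  obj : 𝒞 → Type w
  [grp : ∀ z, AddCommGroup (obj z)]
  [mod : ∀ z, Module (A.obj (op z)) (obj z)]
  map : ∀ {x z : 𝒞}, (x ⟶ z) → (obj z →+ obj x)
  map_smul : ∀ {x z : 𝒞} (φ : x ⟶ z) (r : A.obj (op z)) (m : obj z), map φ (r • m) = rg A φ r • map φ m
  map_id : ∀ (z : 𝒞) (m : obj z), map (𝟙 z) m = m
  map_comp : ∀ {y x z : 𝒞} (ψ : y ⟶ x) (φ : x ⟶ z) (m : obj z), map (ψ ≫ φ) m = map ψ (map φ m)

attribute [instance] PM.grp PM.mod

variable {A : 𝒞ᵒᵖ ⥤ CommRingCat.{u}}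

/-- an arrow is flat. -/
def Fl (A : 𝒞ᵒᵖ ⥤ CommRingCat.{u}) {x z : 𝒞} (φ : x ⟶ z) : Prop := (rg A φ).Flat

/-- an arrow is faithfully flat. -/
def FF (A : 𝒞ᵒᵖ ⥤ CommRingCat.{u}) {x z : 𝒞} (φ : x ⟶ z) : Prop := (rg A φ).FaithfullyFlat

theorem FF.fl {x z : 𝒞} {φ : x ⟶ z} (h : FF A φ) : Fl A φ := RingHom.FaithfullyFlat.flat h

theorem FF.comp {y x z : 𝒞} {ψ : y ⟶ x} {φ : x ⟶ z} (hψ : FF A ψ) (hφ : FF A φ) : FF A (ψ ≫ φ) := by
  rw [FF, rg_comp]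
  exact RingHom.FaithfullyFlat.stableUnderComposition _ _ hφ hψ

theorem Fl.comp {y x z : 𝒞} {ψ : y ⟶ x} {φ : x ⟶ z} (hψ : Fl A ψ) (hφ : Fl A φ) : Fl A (ψ ≫ φ) := by
  rw [Fl, rg_comp]
  exact RingHom.Flat.stableUnderComposition _ _ hφ hψ

theorem FF.id (z : 𝒞) : FF A (𝟙 z) := by
  rw [FF, rg_id]
  exact RingHom.FaithfullyFlat.of_bijective Function.bijective_id

theorem Fl.id (z : 𝒞) : Fl A (𝟙 z) := (FF.id z).fl

/-- fibre products exist and go to pushouts. -/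
def PB (A : 𝒞ᵒᵖ ⥤ CommRingCat.{u}) : Prop :=
  ∀ ⦃w z z' : 𝒞⦄ (φ : w ⟶ z) (f : z' ⟶ z), ∃ (w' : 𝒞) (f' : w' ⟶ w) (φ' : w' ⟶ z'),
    IsPullback f' φ' φ f ∧ IsPO (rg A φ) (rg A f) (rg A f') (rg A φ')

theorem PB.exists_ff (h : PB A) {w z z' : 𝒞} (φ : w ⟶ z) (f : z' ⟶ z) (hf : FF A f) :
    ∃ (w' : 𝒞) (f' : w' ⟶ w) (φ' : w' ⟶ z'), FF A f' ∧ f' ≫ φ = φ' ≫ f := by
  obtain ⟨w', f', φ', h1, h2⟩ := h φ f
  exact ⟨w', f', φ', h2.flip.ff hf, h1.w⟩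

namespace PM

/-- cartesian along every arrow. -/
def Cart (M : PM.{w} A) : Prop := ∀ ⦃x z : 𝒞⦄ (φ : x ⟶ z), IsBC (rg A φ) (M.map φ)

/-- cartesian along every flat arrow. -/
def FlatCart (M : PM.{w} A) : Prop := ∀ ⦃x z : 𝒞⦄ (φ : x ⟶ z), Fl A φ → IsBC (rg A φ) (M.map φ)

theorem Cart.flatCart {M : PM.{w} A} (h : M.Cart) : M.FlatCart := fun _ _ φ _ => h φ

theorem FlatCart.injective {M : PM.{w} A} (h : M.FlatCart) {x z : 𝒞} {φ : x ⟶ z} (hφ : FF A φ) :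
    Function.Injective (M.map φ) := (h φ hφ.fl).injective hφ

/-- reindexing along a functor. -/
def reindex {𝒟 : Type u'} [Category.{v'} 𝒟] (G : 𝒟 ⥤ 𝒞) (M : PM.{w} A) : PM.{w} (G.op ⋙ A) where
  obj x := M.obj (G.obj x)
  grp x := M.grp (G.obj x)
  mod x := M.mod (G.obj x)
  map φ := M.map (G.map φ)
  map_smul φ r m := M.map_smul (G.map φ) r m
  map_id z m := by rw [G.map_id, M.map_id]
  map_comp ψ φ m := by rw [G.map_comp, M.map_comp]

section Lin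

variable {E : PM.{w₁} A} {M : PM.{w₂} A}

/-- pullback of linear maps. -/
theorem exists_pl (hE : E.Cart) {x z : 𝒞} (φ : x ⟶ z) (h : E.obj z →ₗ[A.obj (op z)] M.obj z) :
    ∃ h' : E.obj x →ₗ[A.obj (op x)] M.obj x, ∀ e, h' (E.map φ e) = M.map φ (h e) :=
  (hE φ).exists_map (M.map_smul φ) h

/-- pullback of linear maps. -/
noncomputable def pl (hE : E.Cart) {x z : 𝒞} (φ : x ⟶ z) :
    (E.obj z →ₗ[A.obj (op z)] M.obj z) →+ (E.obj x →ₗ[A.obj (op x)] M.obj x) where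
  toFun h := (exists_pl hE φ h).choose
  map_zero' := (hE φ).hom_ext fun e => by
    rw [(exists_pl hE φ _).choose_spec]
    simp
  map_add' a b := (hE φ).hom_ext fun e => by
    rw [(exists_pl hE φ _).choose_spec, LinearMap.add_apply, LinearMap.add_apply, (exists_pl hE φ _).choose_spec,
      (exists_pl hE φ _).choose_spec, map_add]

theorem pl_apply (hE : E.Cart) {x z : 𝒞} (φ : x ⟶ z) (h : E.obj z →ₗ[A.obj (op z)] M.obj z) (e : E.obj z) :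
    pl hE φ h (E.map φ e) = M.map φ (h e) := (exists_pl hE φ h).choose_spec e

theorem eq_pl (hE : E.Cart) {x z : 𝒞} (φ : x ⟶ z) (h : E.obj z →ₗ[A.obj (op z)] M.obj z)
    {h' : E.obj x →ₗ[A.obj (op x)] M.obj x} (H : ∀ e, h' (E.map φ e) = M.map φ (h e)) : h' = pl hE φ h :=
  (hE φ).hom_ext fun e => by rw [H, pl_apply]

theorem pl_comp (hE : E.Cart) {y x z : 𝒞} (ψ : y ⟶ x) (φ : x ⟶ z) (h : E.obj z →ₗ[A.obj (op z)] M.obj z) :
    pl hE (ψ ≫ φ) h = pl hE ψ (pl hE φ h) :=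
  (hE (ψ ≫ φ)).hom_ext fun e => by rw [pl_apply, E.map_comp, pl_apply, pl_apply, M.map_comp]

theorem pl_id (hE : E.Cart) (z : 𝒞) (h : E.obj z →ₗ[A.obj (op z)] M.obj z) : pl hE (𝟙 z) h = h :=
  (eq_pl hE (𝟙 z) h fun e => by rw [E.map_id, M.map_id]).symm

theorem pl_smul (hE : E.Cart) {x z : 𝒞} (φ : x ⟶ z) (r : A.obj (op z)) (h : E.obj z →ₗ[A.obj (op z)] M.obj z) :
    pl hE φ (r • h) = rg A φ r • pl hE φ h :=
  (eq_pl hE φ _ fun e => by
    rw [LinearMap.smul_apply, pl_apply, LinearMap.smul_apply, M.map_smul]).symm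

theorem pl_injective (hE : E.Cart) (hM : M.FlatCart) {x z : 𝒞} {φ : x ⟶ z} (hφ : FF A φ) :
    Function.Injective (pl (M := M) hE φ) := by
  intro a b hab
  refine LinearMap.ext fun e => hM.injective hφ ?_
  rw [← pl_apply hE φ a, hab, pl_apply]

/-- faithfully flat descent of linear maps. -/
theorem exists_desc (pb : PB A) (hE : E.Cart) (hM : M.Cart) {x z : 𝒞} {φ : x ⟶ z} (hφ : FF A φ)
    (h' : E.obj x →ₗ[A.obj (op x)] M.obj x)
    (H : ∀ ⦃y : 𝒞⦄ (p q : y ⟶ x), p ≫ φ = q ≫ φ → pl hE p h' = pl hE q h') :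
    ∃! h : E.obj z →ₗ[A.obj (op z)] M.obj z, pl hE φ h = h' := by
  obtain ⟨y, p, q, h1, h2⟩ := pb φ φ
  have key : ∀ e : E.obj z, ∃ m : M.obj z, M.map φ m = h' (E.map φ e) := by
    intro e
    refine IsBC.mem_range hφ h2 (hM φ) (M.map_smul p) (hM q) (fun m => ?_) ?_
    · rw [← M.map_comp, ← M.map_comp, h1.w]
    · rw [← pl_apply hE p h', ← pl_apply hE q h', H p q h1.w, ← E.map_comp, ← E.map_comp, h1.w]
  choose m hm using key
  have hinj := hM.flatCart.injective hφ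
  let h : E.obj z →ₗ[A.obj (op z)] M.obj z :=
    { toFun := m
      map_add' := fun a b => hinj (by rw [hm, map_add, map_add, map_add, hm, hm])
      map_smul' := fun r a => hinj (by
        rw [hm, E.map_smul, h'.map_smul, RingHom.id_apply, M.map_smul, hm]) }
  refine ⟨h, (eq_pl hE φ h fun e => (hm e).symm).symm, fun h'' hh => ?_⟩
  refine pl_injective hE hM.flatCart hφ ?_
  rw [hh, ← eq_pl hE φ h fun e => (hm e).symm]

end Lin

/-- faithfully flat descent of elements. -/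
theorem FlatCart.exists_desc (pb : PB A) {M : PM.{w} A} (hM : M.FlatCart) {x z : 𝒞} {φ : x ⟶ z} (hφ : FF A φ)
    (m : M.obj x) (H : ∀ ⦃y : 𝒞⦄ (p q : y ⟶ x), p ≫ φ = q ≫ φ → M.map p m = M.map q m) :
    ∃! n : M.obj z, M.map φ n = m := by
  obtain ⟨y, p, q, h1, h2⟩ := pb φ φ
  obtain ⟨n, hn⟩ := IsBC.mem_range hφ h2 (hM φ hφ.fl) (M.map_smul p) (hM q (h2.ff hφ).flat) (fun m => by
    rw [← M.map_comp, ← M.map_comp, h1.w]) (H p q h1.w)
  exact ⟨n, hn, fun n' hn' => hM.injective hφ (hn'.trans hn.symm)⟩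

end PM

end K784.PM
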