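import Groth.Agent.StMod.K784.PM
import Groth.Agent.StMod.K784.Semi

/-!
# Transport of semilinear maps between two arrows to an atlas

`Atlas A ζ` : spans `θ ⇉ ζ` with flat legs.  For `H : PM A` cartesian along flat arrows, `a b : z ⟶ ζ` and a module `N`
over the ring of `z`, `Tr a b ν ν'` says that the semilinear maps `ν : H ζ → N` along `a` and `ν' : H ζ → N` along `b`
correspond under the isomorphism of `a^* H ζ` and `b^* H ζ` given by descent.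
-/

set_option autoImplicit false
set_option linter.style.haveILetI false
set_option linter.dupNamespace false
set_option linter.unusedSectionVars false

open CategoryTheory Opposite

namespace K784.Tr

open K784.BC K784.PM

universe t x₃ x₂ x₁ w v₁ u₁ u

variable {𝒞 : Type u₁} [Category.{v₁} 𝒞] {A : 𝒞ᵒᵖ ⥤ CommRingCat.{u}}

/-- an atlas `Z : J → 𝒞` with spans with flat legs. -/
structure Atlas (A : 𝒞ᵒᵖ ⥤ CommRingCat.{u}) {J : Type t} (Z : J → 𝒞) where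
  Sp : ∀ {θ : 𝒞} {i j : J}, (θ ⟶ Z i) → (θ ⟶ Z j) → Prop
  flat : ∀ {θ : 𝒞} {i j : J} {p : θ ⟶ Z i} {q : θ ⟶ Z j}, Sp p q → Fl A p
  swap : ∀ {θ : 𝒞} {i j : J} {p : θ ⟶ Z i} {q : θ ⟶ Z j}, Sp p q → Sp q p
  lift : ∀ {z : 𝒞} {i j : J} (a : z ⟶ Z i) (b : z ⟶ Z j), ∃ (z' θ : 𝒞) (f : z' ⟶ z) (p : θ ⟶ Z i) (q : θ ⟶ Z j)
    (e : z' ⟶ θ), FF A f ∧ Sp p q ∧ e ≫ p = f ≫ a ∧ e ≫ q = f ≫ b
  dom : ∀ {z θ θ' : 𝒞} {i j : J} {p : θ ⟶ Z i} {q : θ ⟶ Z j} {p' : θ' ⟶ Z i} {q' : θ' ⟶ Z j} (e : z ⟶ θ)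
    (e' : z ⟶ θ'), Sp p q → Sp p' q' → e ≫ p = e' ≫ p' → e ≫ q = e' ≫ q' →
      ∃ (z₁ θ₁ : 𝒞) (f : z₁ ⟶ z) (e₁ : z₁ ⟶ θ₁) (k : θ₁ ⟶ θ) (l : θ₁ ⟶ θ'),
        FF A f ∧ Fl A k ∧ Fl A l ∧ e₁ ≫ k = f ≫ e ∧ e₁ ≫ l = f ≫ e' ∧ k ≫ p = l ≫ p' ∧ k ≫ q = l ≫ q'
  triple : ∀ {z : 𝒞} {i j k : J} (a : z ⟶ Z i) (b : z ⟶ Z j) (c : z ⟶ Z k), ∃ (z' θ : 𝒞) (f : z' ⟶ z)
    (p : θ ⟶ Z i) (q : θ ⟶ Z j) (r : θ ⟶ Z k) (e : z' ⟶ θ),
      FF A f ∧ Sp p q ∧ Sp q r ∧ Sp p r ∧ e ≫ p = f ≫ a ∧ e ≫ q = f ≫ b ∧ e ≫ r = f ≫ c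

/-- `H` is cartesian along the flat arrows into objects of the class `R`. -/
structure FC (R : 𝒞 → Prop) (H : PM.{w} A) : Prop where
  stab : ∀ ⦃x z : 𝒞⦄ (φ : x ⟶ z), Fl A φ → R z → R x
  bc : ∀ ⦃x z : 𝒞⦄ (φ : x ⟶ z), Fl A φ → R z → IsBC (rg A φ) (H.map φ)

theorem FC.of_flatCart {H : PM.{w} A} (h : H.FlatCart) : FC (fun _ => True) H where
  stab _ _ _ _ _ := trivial
  bc _ _ φ hφ _ := h φ hφ

variable {J : Type t} {Z : J → 𝒞} (T : Atlas A Z) {H : PM.{w} A} {R : 𝒞 → Prop} (hH : FC R H) (hZ : ∀ j, R (Z j))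

include hH hZ in
theorem exists_ext {z θ : 𝒞} {i : J} {a : z ⟶ Z i} {p : θ ⟶ Z i} (hp : Fl A p) (e : z ⟶ θ) (he : e ≫ p = a)
    {N : Type x₁} [AddCommGroup N] [Module (A.obj (op z)) N] {ν : H.obj (Z i) →+ N} (hν : Semi (rg A a) ν) :
    ∃ μ : H.obj θ →+ N, Semi (rg A e) μ ∧ ∀ h, μ (H.map p h) = ν h := by
  refine (hH.bc p hp (hZ i)).exists_semi (rg A e) ν ?_
  rw [← rg_comp, he]
  exact hν

include hH hZ in
theorem semi_ext {z θ : 𝒞} {i : J} {p : θ ⟶ Z i} (hp : Fl A p) (e : z ⟶ θ) {N : Type x₁} [AddCommGroup N]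
    [Module (A.obj (op z)) N] {μ μ' : H.obj θ →+ N} (hμ : Semi (rg A e) μ) (hμ' : Semi (rg A e) μ')
    (h : ∀ h, μ (H.map p h) = μ' (H.map p h)) : μ = μ' := (hH.bc p hp (hZ i)).semi_ext hμ hμ' h

theorem semi_comp {z z' : 𝒞} {f : z' ⟶ z} {θ : 𝒞} {e : z ⟶ θ} {N : Type x₁} {N' : Type x₂} [AddCommGroup N]
    [Module (A.obj (op z)) N] [AddCommGroup N'] [Module (A.obj (op z')) N'] {κ : N →+ N'} (hκ : Semi (rg A f) κ)
    {μ : H.obj θ →+ N} (hμ : Semi (rg A e) μ) : Semi (rg A (f ≫ e)) (κ.comp μ) := by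
  rw [rg_comp]
  exact hκ.comp hμ

theorem semi_map {z θ : 𝒞} (e : z ⟶ θ) : Semi (rg A e) (H.map e) := H.map_smul e

theorem semi_map_comp {z θ θ' : 𝒞} {e : z ⟶ θ'} {k : θ' ⟶ θ} {N : Type x₁} [AddCommGroup N]
    [Module (A.obj (op z)) N] {μ : H.obj θ' →+ N} (hμ : Semi (rg A e) μ) :
    Semi (rg A (e ≫ k)) (μ.comp (H.map k)) := by
  rw [rg_comp]
  exact hμ.comp (semi_map k)

include T hH hZ in
/-- comparison of two lifts. -/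
theorem cmp {z θ θ' : 𝒞} {i j : J} {p : θ ⟶ Z i} {q : θ ⟶ Z j} {p' : θ' ⟶ Z i} {q' : θ' ⟶ Z j} {e : z ⟶ θ} {e' : z ⟶ θ'} (hS : T.Sp p q)
    (hS' : T.Sp p' q') (hp : e ≫ p = e' ≫ p') (hq : e ≫ q = e' ≫ q') {N : Type x₁} [AddCommGroup N]
    [Module (A.obj (op z)) N] {μ : H.obj θ →+ N} {μ' : H.obj θ' →+ N} (hμ : Semi (rg A e) μ)
    (hμ' : Semi (rg A e') μ') (h : ∀ h, μ (H.map p h) = μ' (H.map p' h)) (h₀ : H.obj (Z j)) :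
    μ (H.map q h₀) = μ' (H.map q' h₀) := by
  obtain ⟨z₁, θ₁, f, e₁, k, l, hf, hk, hl, h1, h2, h3, h4⟩ := T.dom e e' hS hS' hp hq
  let κ : N →+ Ten (rg A f) N := ten (rg A f) N
  have hκ : IsBC (rg A f) κ := isBC_ten (rg A f) N
  have hkp : Fl A (k ≫ p) := hk.comp (T.flat hS)
  obtain ⟨μ₂, hμ₂, h5⟩ := exists_ext hH hZ (a := f ≫ e ≫ p) hkp e₁ (by rw [← Category.assoc, h1, Category.assoc])
    (ν := (κ.comp μ).comp (H.map p)) (by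
      rw [← Category.assoc]
      exact semi_map_comp (semi_comp hκ.semi hμ))
  have e3 : κ.comp μ = μ₂.comp (H.map k) := by
    refine semi_ext hH hZ (T.flat hS) (f ≫ e) (semi_comp hκ.semi hμ) ?_ fun h => ?_
    · rw [← h1]
      exact semi_map_comp hμ₂
    · rw [AddMonoidHom.comp_apply, AddMonoidHom.comp_apply, ← H.map_comp, h5]
      rfl
  have e4 : κ.comp μ' = μ₂.comp (H.map l) := by
    refine semi_ext hH hZ (T.flat hS') (f ≫ e') (semi_comp hκ.semi hμ') ?_ fun h' => ?_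
    · rw [← h2]
      exact semi_map_comp hμ₂
    · rw [AddMonoidHom.comp_apply, AddMonoidHom.comp_apply, ← H.map_comp, ← h3, h5]
      exact congrArg κ (h h').symm
  refine hκ.injective hf ?_
  have e5 := congr($e3 (H.map q h₀))
  have e6 := congr($e4 (H.map q' h₀))
  rw [AddMonoidHom.comp_apply, AddMonoidHom.comp_apply, ← H.map_comp] at e5 e6
  rw [e5, e6, h4]

/-- `ν` along `a` and `ν'` along `b` correspond. -/
def Tr {z : 𝒞} {i j : J} (a : z ⟶ Z i) (b : z ⟶ Z j) {N : Type x₁} [AddCommGroup N] [Module (A.obj (op z)) N]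
    (ν : H.obj (Z i) →+ N) (ν' : H.obj (Z j) →+ N) : Prop :=
  ∃ (z' θ : 𝒞) (f : z' ⟶ z) (p : θ ⟶ Z i) (q : θ ⟶ Z j) (e : z' ⟶ θ), FF A f ∧ T.Sp p q ∧ e ≫ p = f ≫ a ∧ e ≫ q = f ≫ b ∧
    ∃ μ : H.obj θ →+ Ten (rg A f) N, Semi (rg A e) μ ∧ (∀ h, μ (H.map p h) = ten (rg A f) N (ν h)) ∧
      ∀ h, μ (H.map q h) = ten (rg A f) N (ν' h)

theorem Tr.mk {z : 𝒞} {i j : J} {a : z ⟶ Z i} {b : z ⟶ Z j} {N : Type x₁} [AddCommGroup N]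
    [Module (A.obj (op z)) N] {ν : H.obj (Z i) →+ N} {ν' : H.obj (Z j) →+ N}
    {z' θ : 𝒞} {f : z' ⟶ z} {p : θ ⟶ Z i} {q : θ ⟶ Z j} {e : z' ⟶ θ} (hf : FF A f) (hS : T.Sp p q) (hp : e ≫ p = f ≫ a)
    (hq : e ≫ q = f ≫ b) {N' : Type x₂} [AddCommGroup N'] [Module (A.obj (op z')) N'] {ι : N →+ N'}
    (hι : IsBC (rg A f) ι) {μ : H.obj θ →+ N'} (hμ : Semi (rg A e) μ) (h1 : ∀ h, μ (H.map p h) = ι (ν h))
    (h2 : ∀ h, μ (H.map q h) = ι (ν' h)) : Tr T a b ν ν' := by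
  obtain ⟨E, hE⟩ := hι.exists_equiv (isBC_ten (rg A f) N)
  refine ⟨z', θ, f, p, q, e, hf, hS, hp, hq, E.toLinearMap.toAddMonoidHom.comp μ, fun r h => ?_, fun h => ?_, fun h => ?_⟩
  · change E (μ (r • h)) = _
    rw [hμ, _root_.map_smul]
    rfl
  · change E (μ (H.map p h)) = _
    rw [h1, hE]
  · change E (μ (H.map q h)) = _
    rw [h2, hE]

variable {T}

include hH hZ in
/-- a transport can be tested on every lift. -/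
theorem Tr.apply (pb : PB A) {z : 𝒞} {i j : J} {a : z ⟶ Z i} {b : z ⟶ Z j} {N : Type x₁} [AddCommGroup N]
    [Module (A.obj (op z)) N] {ν : H.obj (Z i) →+ N} {ν' : H.obj (Z j) →+ N} (t : Tr T a b ν ν') {z' θ : 𝒞}
    {f : z' ⟶ z} {p : θ ⟶ Z i} {q : θ ⟶ Z j} {e : z' ⟶ θ}
    (hS : T.Sp p q) (hp : e ≫ p = f ≫ a) (hq : e ≫ q = f ≫ b) {N' : Type x₂} [AddCommGroup N']
    [Module (A.obj (op z')) N'] {ι : N →+ N'} (hι : Semi (rg A f) ι) {μ : H.obj θ →+ N'} (hμ : Semi (rg A e) μ)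
    (h1 : ∀ h, μ (H.map p h) = ι (ν h)) (h : H.obj (Z j)) : μ (H.map q h) = ι (ν' h) := by
  obtain ⟨z₁, θ₁, g, p₁, q₁, e₁, hg, hS₁, hp₁, hq₁, μ₁, hμ₁, h2, h3⟩ := t
  obtain ⟨y, g', f₁, hg', hy⟩ := pb.exists_ff f g hg
  -- `g' : y ⟶ z'`, `f₁ : y ⟶ z₁`
  let κ : N' →+ Ten (rg A g') N' := ten (rg A g') N'
  have hκ : IsBC (rg A g') κ := isBC_ten (rg A g') N'
  obtain ⟨κ₁, hκ₁, h4⟩ := (isBC_ten (rg A g) N).exists_semi (rg A f₁) (κ.comp ι) (by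
    rw [← rg_comp, ← hy, rg_comp]
    exact hκ.semi.comp hι)
  refine hκ.injective hg' ?_
  have := cmp (T := T) hH hZ hS hS₁ (e := g' ≫ e) (e' := f₁ ≫ e₁) (by
      rw [Category.assoc, hp, Category.assoc, hp₁, ← Category.assoc, hy, Category.assoc]) (by
      rw [Category.assoc, hq, Category.assoc, hq₁, ← Category.assoc, hy, Category.assoc])
    (μ := κ.comp μ) (μ' := κ₁.comp μ₁) (semi_comp hκ.semi hμ) (semi_comp hκ₁ hμ₁) (fun h => by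
      rw [AddMonoidHom.comp_apply, AddMonoidHom.comp_apply, h1, h2, h4]
      rfl) h
  rw [AddMonoidHom.comp_apply, AddMonoidHom.comp_apply, h3, h4] at this
  exact this

end K784.Tr
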