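import Groth.Agent.StMod.K784.Tr

/-!
# Transport of semilinear maps: existence, uniqueness, groupoid laws, base change
-/

set_option autoImplicit false
set_option linter.style.haveILetI false
set_option linter.dupNamespace false
set_option linter.unusedSectionVars false

open CategoryTheory Opposite

namespace K784.Tr

open K784.BC K784.PM

universe t x₃ x₂ x₁ w v₁ u₁ u

variable {𝒞 : Type u₁} [Category.{v₁} 𝒞] {A : 𝒞ᵒᵖ ⥤ CommRingCat.{u}}
variable {J : Type t} {Z : J → 𝒞} {T : Atlas A Z} {H : PM.{w} A} {R : 𝒞 → Prop} (hH : FC R H) (hZ : ∀ j, R (Z j))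
  (pb : PB A)

section

variable {z : 𝒞} {i j k : J} {a : z ⟶ Z i} {b : z ⟶ Z j} {c : z ⟶ Z k} {N : Type x₁} [AddCommGroup N] [Module (A.obj (op z)) N]

include hH hZ pb in
theorem Tr.unique {ν : H.obj (Z i) →+ N} {ν₁ ν₂ : H.obj (Z j) →+ N} (hν : Semi (rg A a) ν) (t₁ : Tr T a b ν ν₁) (t₂ : Tr T a b ν ν₂) :
    ν₁ = ν₂ := by
  obtain ⟨z', θ, f, p, q, e, hf, hS, hp, hq⟩ := T.lift a b
  obtain ⟨μ, hμ, h1⟩ := exists_ext hH hZ (T.flat hS) e hp (semi_comp (isBC_ten (rg A f) N).semi hν)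
  refine AddMonoidHom.ext fun h => (isBC_ten (rg A f) N).injective hf ?_
  rw [← t₁.apply hH hZ pb hS hp hq (isBC_ten (rg A f) N).semi hμ h1, t₂.apply hH hZ pb hS hp hq (isBC_ten (rg A f) N).semi hμ h1]

include hH hZ pb in
theorem exists_tr (a : z ⟶ Z i) (b : z ⟶ Z j) {ν : H.obj (Z i) →+ N} (hν : Semi (rg A a) ν) :
    ∃ ν' : H.obj (Z j) →+ N, Semi (rg A b) ν' ∧ Tr T a b ν ν' := by
  obtain ⟨z', θ, f, p, q, e, hf, hS, hp, hq⟩ := T.lift a b
  have bf : IsBC (rg A f) (ten (rg A f) N) := isBC_ten (rg A f) N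
  obtain ⟨μ, hμ, h1⟩ := exists_ext hH hZ (T.flat hS) e hp (semi_comp bf.semi hν)
  obtain ⟨y, p₁, p₂, hy, hy'⟩ := pb f f
  have bp₂ : IsBC (rg A p₂) (ten (rg A p₂) (Ten (rg A f) N)) := isBC_ten _ _
  obtain ⟨r₁, hr₁, h2⟩ := bf.exists_semi (rg A p₁) ((ten (rg A p₂) (Ten (rg A f) N)).comp (ten (rg A f) N)) (by
    rw [← rg_comp, hy.w, rg_comp]
    exact bp₂.semi.comp bf.semi)
  have key : ∀ h : H.obj (Z j), ∃ n : N, ten (rg A f) N n = μ (H.map q h) := by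
    intro h
    refine IsBC.mem_range hf hy' bf hr₁ bp₂ (fun m => h2 m) ?_
    refine cmp (T := T) hH hZ hS hS (e := p₁ ≫ e) (e' := p₂ ≫ e) ?_ ?_ (μ := r₁.comp μ)
      (μ' := (ten (rg A p₂) (Ten (rg A f) N)).comp μ) (semi_comp hr₁ hμ) (semi_comp bp₂.semi hμ) (fun h => ?_) h
    · rw [Category.assoc, hp, Category.assoc, hp, ← Category.assoc, hy.w, Category.assoc]
    · rw [Category.assoc, hq, Category.assoc, hq, ← Category.assoc, hy.w, Category.assoc]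
    · rw [AddMonoidHom.comp_apply, AddMonoidHom.comp_apply, h1]
      exact h2 _
  choose n hn using key
  have hinj := bf.injective hf
  let ν' : H.obj (Z j) →+ N :=
    { toFun := n
      map_zero' := hinj (by rw [hn, map_zero, map_zero, map_zero])
      map_add' := fun x y => hinj (by rw [hn, map_add, map_add, map_add, hn, hn]) }
  refine ⟨ν', fun r h => hinj ?_, z', θ, f, p, q, e, hf, hS, hp, hq, μ, hμ, h1, fun h => (hn h).symm⟩
  change ten (rg A f) N (n (r • h)) = _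
  rw [hn, H.map_smul, hμ, ← rg_comp_apply, hq, rg_comp_apply, bf.map_smul]
  exact congrArg _ (hn h).symm

include hH hZ pb in
theorem Tr.symm {ν : H.obj (Z i) →+ N} {ν' : H.obj (Z j) →+ N} (hν : Semi (rg A a) ν) (t : Tr T a b ν ν') : Tr T b a ν' ν := by
  obtain ⟨z', θ, f, p, q, e, hf, hS, hp, hq⟩ := T.lift a b
  have bf : IsBC (rg A f) (ten (rg A f) N) := isBC_ten (rg A f) N
  obtain ⟨μ, hμ, h1⟩ := exists_ext hH hZ (T.flat hS) e hp (semi_comp bf.semi hν)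
  exact Tr.mk T hf (T.swap hS) hq hp bf hμ (t.apply hH hZ pb hS hp hq bf.semi hμ h1) h1

include hH hZ pb in
theorem Tr.trans {ν : H.obj (Z i) →+ N} {ν' : H.obj (Z j) →+ N} {ν'' : H.obj (Z k) →+ N} (hν : Semi (rg A a) ν) (t : Tr T a b ν ν') (t' : Tr T b c ν' ν'') :
    Tr T a c ν ν'' := by
  obtain ⟨z', θ, f, p, q, r, e, hf, hpq, hqr, hpr, hp, hq, hr⟩ := T.triple a b c
  have bf : IsBC (rg A f) (ten (rg A f) N) := isBC_ten (rg A f) N
  obtain ⟨μ, hμ, h1⟩ := exists_ext hH hZ (T.flat hpq) e hp (semi_comp bf.semi hν)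
  have h2 := t.apply hH hZ pb hpq hp hq bf.semi hμ h1
  exact Tr.mk T hf hpr hp hr bf hμ h1 (t'.apply hH hZ pb hqr hq hr bf.semi hμ h2)

include hH hZ pb in
theorem Tr.refl {ν : H.obj (Z i) →+ N} (hν : Semi (rg A a) ν) : Tr T a a ν ν := by
  obtain ⟨ν', h1, h2⟩ := exists_tr (T := T) hH hZ pb a a hν
  exact h2.trans hH hZ pb hν (h2.symm hH hZ pb hν)

include hH hZ pb in
theorem Tr.pull {z₁ : 𝒞} (φ : z₁ ⟶ z) {N₁ : Type x₂} [AddCommGroup N₁] [Module (A.obj (op z₁)) N₁] {κ : N →+ N₁}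
    (hκ : Semi (rg A φ) κ) {ν : H.obj (Z i) →+ N} {ν' : H.obj (Z j) →+ N} (hν : Semi (rg A a) ν)
    (t : Tr T a b ν ν') : Tr T (φ ≫ a) (φ ≫ b) (κ.comp ν) (κ.comp ν') := by
  obtain ⟨z', θ, f, p, q, e, hf, hS, hp, hq⟩ := T.lift (φ ≫ a) (φ ≫ b)
  have bf : IsBC (rg A f) (ten (rg A f) N₁) := isBC_ten (rg A f) N₁
  obtain ⟨μ, hμ, h1⟩ := exists_ext hH hZ (T.flat hS) e hp (semi_comp bf.semi (semi_comp hκ hν))
  refine Tr.mk T hf hS hp hq bf hμ h1 fun h => ?_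
  have h2 : Semi (rg A (f ≫ φ)) ((ten (rg A f) N₁).comp κ) := by
    rw [rg_comp]
    exact bf.semi.comp hκ
  exact t.apply hH hZ pb hS (f := f ≫ φ) (by rw [hp, Category.assoc]) (by rw [hq, Category.assoc]) h2 hμ h1 h

end

include hH hZ in
/-- the restriction maps of `H` correspond. -/
theorem tr_map {z : 𝒞} (hz : R z) {i j : J} (a : z ⟶ Z i) (b : z ⟶ Z j) : Tr T a b (H.map a) (H.map b) := by
  obtain ⟨z', θ, f, p, q, e, hf, hS, hp, hq⟩ := T.lift a b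
  refine Tr.mk T hf hS hp hq (hH.bc f hf.fl hz) (H.map_smul e) (fun h => ?_) (fun h => ?_)
  · rw [← H.map_comp, ← H.map_comp, hp]
  · rw [← H.map_comp, ← H.map_comp, hq]

include hH hZ pb in
/-- the transport of a base change is a base change. -/
theorem Tr.isBC {z : 𝒞} {i j : J} {a : z ⟶ Z i} {b : z ⟶ Z j} {N : Type x₁} [AddCommGroup N]
    [Module (A.obj (op z)) N] {ν : H.obj (Z i) →+ N} {ν' : H.obj (Z j) →+ N} (t : Tr T a b ν ν') (hν : IsBC (rg A a) ν) (hν' : Semi (rg A b) ν') :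
    IsBC (rg A b) ν' := by
  have tt := t.symm hH hZ pb hν.semi
  refine IsBC.of_lift hν' fun Q _ _ g hg => ?_
  obtain ⟨g₁, hg₁, t₁⟩ := exists_tr (T := T) hH hZ pb b a (ν := g) hg
  obtain ⟨g', h1, h2⟩ := hν.existsUnique_lift g₁ hg₁
  have hg' : Semi (rg A (𝟙 z)) g'.toAddMonoidHom := fun r n => by
    rw [rg_id]
    exact g'.map_smul r n
  refine ⟨g', fun h => ?_, fun g'' h3 => ?_⟩
  · have t₂ := Tr.pull hH hZ pb (𝟙 z) hg' hν.semi t
    rw [Category.id_comp, Category.id_comp] at t₂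
    have e1 : g'.toAddMonoidHom.comp ν = g₁ := AddMonoidHom.ext h1
    rw [e1] at t₂
    have e2 := Tr.unique hH hZ pb hg₁ t₂ (t₁.symm hH hZ pb hg)
    exact congr($e2 h)
  · have hg'' : Semi (rg A (𝟙 z)) g''.toAddMonoidHom := fun r n => by
      rw [rg_id]
      exact g''.map_smul r n
    have t₂ := Tr.pull hH hZ pb (𝟙 z) hg'' hν' tt
    rw [Category.id_comp, Category.id_comp] at t₂
    have e1 : g''.toAddMonoidHom.comp ν' = g := AddMonoidHom.ext h3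
    rw [e1] at t₂
    have e2 := Tr.unique hH hZ pb hg t₂ t₁
    exact h2 g'' fun m => congr($e2 m)

end K784.Tr
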